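import Cfsg.Agent.Homogeneous.FourA

/-! A quadruply transitive group of degree 10 in which only the identity fixes five points does not exist. -/

set_option autoImplicit false
set_option linter.unusedSectionVars false

open Equiv

namespace Cfsg.Homog

variable {α : Type*} [Fintype α] [DecidableEq α] {G : Subgroup (Perm α)}

theorem KTrans.descFactorial_dvd {k : ℕ} (h : KTrans G k) (hk : k ≤ Fintype.card α) :
    (Fintype.card α).descFactorial k ∣ Nat.card G := by
  have := isMultiplyPretransitive_of_kTrans h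
  obtain ⟨x⟩ : Nonempty (Fin k ↪ α) := Function.Embedding.nonempty_of_card_le (by rwa [Fintype.card_fin])
  have e : Nat.card (Fin k ↪ α) = (Fintype.card α).descFactorial k := by
    rw [Nat.card_eq_fintype_card, Fintype.card_embedding_eq, Fintype.card_fin]
  have hp : MulAction.IsPretransitive G (Fin k ↪ α) := this
  rw [← e, ← @MulAction.index_stabilizer_of_transitive G (Fin k ↪ α) _ _ x hp]
  exact Subgroup.index_dvd_card _

theorem not_ten (hkt : KTrans G 4) (hreg : Semireg G 4) (h10 : Fintype.card α = 10) : False := by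
  classical
  have hdvd := hkt.descFactorial_dvd (by omega)
  rw [h10] at hdvd
  have : Fact (Nat.Prime 7) := ⟨by norm_num⟩
  obtain ⟨⟨z, hzG⟩, hz⟩ := exists_prime_orderOf_dvd_card' 7 (dvd_trans (by decide) hdvd : 7 ∣ Nat.card G)
  rw [Subgroup.orderOf_mk] at hz
  have hz7 : z ^ 7 = 1 := hz ▸ pow_orderOf_eq_one z
  have h7 : ∀ c ∈ z.cycleType, c = 7 := Perm.pow_prime_eq_one_iff.1 hz7
  have e := Multiset.eq_replicate_card.2 h7
  have hsum := Perm.sum_cycleType z
  rw [e, Multiset.sum_replicate, smul_eq_mul] at hsum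
  have hle : z.support.card ≤ 10 := h10 ▸ Finset.card_le_univ _
  have hz1 : z ≠ 1 := fun h => by rw [h, orderOf_one] at hz; omega
  have hpos : 0 < z.cycleType.card := Multiset.card_pos.2 (fun h => hz1 (Perm.cycleType_eq_zero.1 h))
  have hcyc : z.IsCycle := Perm.card_cycleType_eq_one.1 (by omega)
  have hsupp : z.support.card = 7 := by omega
  obtain ⟨x, y, w, hxy, hxw, hyw, hF⟩ := Finset.card_eq_three.1 (show (Finset.univ \ z.support).card = 3 by
    rw [Finset.card_sdiff_of_subset (Finset.subset_univ _), Finset.card_univ, h10, hsupp])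
  set F : Finset α := Finset.univ \ z.support with hFdef
  have memF : ∀ {v}, v ∈ F ↔ z v = v := fun {v} => by simp [hFdef]
  obtain ⟨a, ha⟩ := Finset.card_pos.1 (show 0 < z.support.card by omega)
  have hza : z a ≠ a := Perm.mem_support.1 ha
  set T := lifts G F 1 with hT
  have Tout : ∀ g ∈ T, ∀ v, v ∉ F → g v ∉ F := fun g hg v hv hgv => by
    have := (mem_lifts.1 hg).2 _ hgv
    rw [Perm.one_apply] at this
    exact hv (g.injective this ▸ hgv)
  have hT42 : T.card ≤ 42 := by
    have hb : z a ∉ F := fun hh => hza (z.injective (memF.1 hh))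
    have haF : a ∉ F := fun hh => hza (memF.1 hh)
    have h1 : T.card ≤ (z.support.offDiag).card := Finset.card_le_card_of_injOn (fun g => (g a, g (z a)))
      (fun g hg => by
        simp only [Finset.mem_coe, Finset.mem_offDiag, Perm.mem_support]
        exact ⟨fun hh => Tout g hg a haF (memF.2 hh), fun hh => Tout g hg _ hb (memF.2 hh), fun hh => hza (g.injective hh).symm⟩)
      (fun g hg f hf he => by
        simp only [Prod.mk.injEq] at he
        obtain ⟨hgG, hgF⟩ := mem_lifts.1 hg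
        obtain ⟨hfG, hfF⟩ := mem_lifts.1 hf
        refine (inv_mul_eq_one.1 (hreg (f⁻¹ * g) (G.mul_mem (G.inv_mem hfG) hgG) (insert a (insert (z a) F)) ?_ ?_)).symm
        · rw [Finset.card_insert_of_notMem (by simp [haF, Ne.symm hza]), Finset.card_insert_of_notMem hb, hF,
            Finset.card_eq_three.2 ⟨x, y, w, hxy, hxw, hyw, rfl⟩]
          omega
        · intro v hv
          rw [Perm.mul_apply, Perm.coe_inv, Equiv.symm_apply_eq]
          simp only [Finset.mem_insert] at hv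
          rcases hv with rfl | rfl | hv
          · exact he.1
          · exact he.2
          · rw [hgF v hv, hfF v hv])
    rw [Finset.offDiag_card, hsupp] at h1
    omega
  have hzT : z ∈ T := mem_lifts.2 ⟨hzG, fun v hv => memF.1 hv⟩
  have mem_sub : ∀ g ∈ T, g ^ 7 = 1 → g ∈ Subgroup.zpowers z := by
    intro g hg hg7
    obtain ⟨hgG, hgF⟩ := mem_lifts.1 hg
    obtain ⟨⟨i, j⟩, -, ⟨i', j'⟩, -, hne, he⟩ := Finset.exists_ne_map_eq_of_card_lt_of_maps_to
      (s := (Finset.univ : Finset (Fin 7 × Fin 7))) (t := T) (f := fun ij => z ^ (ij.1 : ℕ) * g ^ (ij.2 : ℕ))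
      (by rw [Finset.card_univ, Fintype.card_prod, Fintype.card_fin]; omega)
      (fun ij _ => mem_lifts.2 ⟨G.mul_mem (pow_mem hzG _) (pow_mem hgG _), fun v hv => by
        rw [Perm.mul_apply, Perm.pow_apply_eq_self_of_apply_eq_self (hgF v hv), Perm.pow_apply_eq_self_of_apply_eq_self (memF.1 hv)]
        rfl⟩)
    simp only at he
    have h1 : g ^ ((j : ℤ) - (j' : ℤ)) = z ^ ((i' : ℤ) - (i : ℤ)) := by
      rw [zpow_sub, zpow_natCast, zpow_natCast, zpow_sub, zpow_natCast, zpow_natCast, mul_inv_eq_iff_eq_mul,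
        ← (Commute.refl z).pow_pow (i' : ℕ) (i : ℕ) |>.inv_right.symm.eq, mul_assoc, eq_inv_mul_iff_mul_eq]
      exact he
    by_cases hj : (j : ℕ) = j'
    · exfalso
      rw [hj, mul_left_inj] at he
      have := pow_injOn_Iio_orderOf (show (i : ℕ) ∈ Set.Iio (orderOf z) by rw [hz]; exact i.isLt)
        (show (i' : ℕ) ∈ Set.Iio (orderOf z) by rw [hz]; exact i'.isLt) he
      exact hne (Prod.ext (Fin.ext this) (Fin.ext hj))
    · have hcop : IsCoprime ((j : ℤ) - (j' : ℤ)) 7 := by
        rw [Int.isCoprime_iff_gcd_eq_one, Int.gcd_eq_natAbs, ← Nat.coprime_iff_gcd_eq_one, Nat.coprime_comm,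
          show Int.natAbs 7 = 7 from rfl, (show Nat.Prime 7 by norm_num).coprime_iff_not_dvd]
        intro hd
        have := j.isLt; have := j'.isLt
        have h2 := Nat.le_of_dvd (by omega) hd
        omega
      obtain ⟨u, v, huv⟩ := hcop
      have : g = (g ^ ((j : ℤ) - (j' : ℤ))) ^ u := by
        conv_lhs => rw [← zpow_one g, ← huv, zpow_add, mul_comm v 7, zpow_mul g 7 v, show g ^ (7 : ℤ) = 1 from mod_cast hg7, one_zpow, mul_one]
        rw [← zpow_mul, mul_comm]
      rw [this, h1, ← zpow_mul]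
      exact Subgroup.zpow_mem_zpowers z _
  have hswap : ∀ p q r : α, ({p, q, r} : Finset α) = F → p ≠ q → p ≠ r → q ≠ r →
      ∃ s ∈ G, s p = q ∧ s q = p ∧ s r = r ∧ ∃ i : ℤ, s * z * s⁻¹ = z ^ i := by
    intro p q r hpqr hpq hpr hqr
    obtain ⟨s, hs, hsl⟩ := (hkt.mono (show 3 ≤ 4 by omega)) [p, q, r] [q, p, r] (by simp [hpq, hpr, hqr]) (by simp [Ne.symm hpq, hpr, hqr]) rfl le_rfl
    simp only [List.map_cons, List.map_nil, List.cons.injEq, and_true] at hsl
    obtain ⟨sp, sq, sr⟩ := hsl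
    refine ⟨s, hs, sp, sq, sr, ?_⟩
    have hmem : s * z * s⁻¹ ∈ T := mem_lifts.2 ⟨G.mul_mem (G.mul_mem hs hzG) (G.inv_mem hs), fun v hv => by
      have h1 : s⁻¹ v ∈ F := by
        rw [← hpqr] at hv ⊢
        simp only [Finset.mem_insert, Finset.mem_singleton, Perm.coe_inv, Equiv.symm_apply_eq] at hv ⊢
        rw [sp, sq, sr]
        tauto
      rw [Perm.mul_apply, Perm.mul_apply, memF.1 h1]; simp⟩
    obtain ⟨i, hi⟩ := Subgroup.mem_zpowers_iff.1 (mem_sub _ hmem (by rw [conj_pow, hz7, mul_one, mul_inv_cancel]))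
    exact ⟨i, hi.symm⟩
  obtain ⟨s, hs, sx, sy, sw, i, hi⟩ := hswap x y w hF.symm hxy hxw hyw
  obtain ⟨t, ht, ty, tw, tx, j, hj⟩ := hswap y w x (by rw [hF]; ext v; simp; tauto) hyw (Ne.symm hxy) (Ne.symm hxw)
  have e1 : (s * t) * z * (s * t)⁻¹ = z ^ (i * j) := by
    rw [mul_inv_rev, show s * t * z * (t⁻¹ * s⁻¹) = s * (t * z * t⁻¹) * s⁻¹ by group, hj, ← conj_zpow, hi, ← zpow_mul]
  have e2 : (t * s) * z * (t * s)⁻¹ = z ^ (i * j) := by
    rw [mul_inv_rev, show t * s * z * (s⁻¹ * t⁻¹) = t * (s * z * s⁻¹) * t⁻¹ by group, hi, ← conj_zpow, hj, ← zpow_mul, mul_comm]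
  set c := s⁻¹ * t⁻¹ * (s * t) with hcdef
  have hcomm : Commute c z := by
    have e3 := e1.trans e2.symm
    show c * z = z * c
    calc c * z = s⁻¹ * t⁻¹ * ((s * t) * z * (s * t)⁻¹) * (s * t) := by rw [hcdef]; group
      _ = s⁻¹ * t⁻¹ * ((t * s) * z * (t * s)⁻¹) * (s * t) := by rw [e3]
      _ = z * c := by rw [hcdef]; group
  have hinv : ∀ (g : Perm α) (u v : α), g u = v → g⁻¹ v = u := fun g u v h => by rw [← h]; simp
  have cx : c x = w := by
    rw [hcdef]; simp only [Perm.mul_apply]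
    rw [tx, sx, hinv t w y tw, hinv s w w sw]
  have cw : c w = y := by
    rw [hcdef]; simp only [Perm.mul_apply]
    rw [tw, sy, hinv t x x tx, hinv s y x sy]
  have cy : c y = x := by
    rw [hcdef]; simp only [Perm.mul_apply]
    rw [ty, sw, hinv t y w ty, hinv s x y sx]
  have hcG : c ∈ G := G.mul_mem (G.mul_mem (G.inv_mem hs) (G.inv_mem ht)) (G.mul_mem hs ht)
  have hca : c a ∉ F := fun hh => hza (by
    have h1 := memF.1 hh
    rw [← Perm.mul_apply, ← hcomm.eq, Perm.mul_apply] at h1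
    exact c.injective h1)
  obtain ⟨n, hn⟩ : z.SameCycle a (c a) := hcyc.sameCycle hza (fun hh => hca (memF.2 hh))
  have hcn : ∀ m : ℕ, (c ^ m) a = (z ^ (n * m)) a := fun m => by
    induction m with
    | zero => simp
    | succ m ih =>
      rw [pow_succ', Perm.mul_apply, ih, ← Perm.mul_apply, (hcomm.zpow_right _).eq, Perm.mul_apply, ← hn, ← Perm.mul_apply,
        ← zpow_add]
      congr 2
      push_cast; ring
  have hc7 : c ^ 7 = 1 := by
    refine hreg _ (pow_mem hcG 7) z.support (by omega) fun v hv => ?_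
    obtain ⟨k, hk⟩ := hcyc.sameCycle hza (Perm.mem_support.1 hv)
    rw [← hk, ← Perm.mul_apply, ((hcomm.pow_left 7).zpow_right k).eq, Perm.mul_apply, hcn 7, mul_comm n]
    rw [show ((7 : ℕ) : ℤ) * n = ((7 : ℕ) : ℤ) * n from rfl, zpow_mul, zpow_natCast, hz7, one_zpow, Perm.one_apply]
  have h := congrArg (fun g : Perm α => g x) hc7
  simp only [pow_succ, pow_zero, one_mul, Perm.mul_apply, Perm.one_apply, cx, cw, cy] at h
  exact hxw h.symm

end Cfsg.Homog
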