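import Cfsg.Agent.Homogeneous.FourC
import Cfsg.Agent.Homogeneous.Ten
import Cfsg.Agent.S0743

/-! A `k`-transitive group, `4 ≤ k`, induces the alternating group on some `(k+1)`-set. -/

set_option autoImplicit false
set_option linter.unusedSectionVars false

open Equiv

namespace Cfsg.Homog

universe u

variable {α : Type u} [Fintype α] [DecidableEq α]

theorem four_semireg {G : Subgroup (Perm α)} (hkt : KTrans G 4) (hreg : Semireg G 4) (h5 : 5 ≤ Fintype.card α) :
    ∃ Δ : Finset α, Δ.card = 5 ∧ AltOn G Δ := by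
  classical
  by_contra hn
  push Not at hn
  have hfail : ∀ Δ : Finset α, Δ.card = 5 → ¬ AltOn G Δ := fun Δ hΔ => hn Δ hΔ
  have nef : ∀ a b c d x : α, [a, b, c, d].Nodup → x ∉ quad a b c d → ∀ g ∈ lifts G (quad a b c d) (swap a b), g x ≠ x :=
    fun a b c d x h hx g hg => no_extra_fix hkt hreg h5 hfail h hx hg
  -- the degree is even
  obtain ⟨S, -, hS⟩ := Finset.exists_subset_card_eq (s := (Finset.univ : Finset α)) (n := 4) (by rw [Finset.card_univ]; omega)
  obtain ⟨a, b, c, d, hnd, -⟩ := exists_quad hS
  obtain ⟨g, hg⟩ := lift_swap_exists hkt hnd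
  obtain ⟨hgG, ga, gb, gc, gd⟩ := (mem_lifts_swap hnd).1 hg
  obtain ⟨t, ⟨m, -, htm⟩, ⟨j, hj⟩, hag⟩ := exists_two_part g
  have htG : t ∈ G := htm ▸ pow_mem hgG m
  have ta : t a = b := by rw [hag a (by rw [ga, gb]), ga]
  have tb : t b = a := by rw [hag b (by rw [gb, ga]), gb]
  have tc : t c = c := by rw [hag c (by rw [gc, gc]), gc]
  have td : t d = d := by rw [hag d (by rw [gd, gd]), gd]
  have hfix : (Finset.univ.filter fun v => t v = v).card = 2 := by
    have : (Finset.univ.filter fun v => t v = v) = {c, d} := by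
      ext v
      simp only [Finset.mem_filter, Finset.mem_univ, true_and, Finset.mem_insert, Finset.mem_singleton]
      refine ⟨fun hv => ?_, ?_⟩
      · by_contra hno
        push Not at hno
        refine nef a b c d v hnd ?_ t ((mem_lifts_swap hnd).2 ⟨htG, ta, tb, tc, td⟩) hv
        simp only [quad, Finset.mem_insert, Finset.mem_singleton, not_or]
        refine ⟨fun e => ?_, fun e => ?_, hno.1, hno.2⟩
        · rw [e, ta] at hv
          simp [hv] at hnd
        · rw [e, tb] at hv
          simp [hv] at hnd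
      · rintro (rfl | rfl) <;> assumption
    rw [this, Finset.card_pair (fun e => by simp [e] at hnd)]
  have : Fact (Nat.Prime 2) := ⟨Nat.prime_two⟩
  have hmod := Perm.card_fixedPoints_modEq (p := 2) (n := j) (f := t.toFun) (by
    show (t.toFun)^[2 ^ j] = id
    rw [show t.toFun = ⇑t from rfl, Perm.iterate_eq_pow, hj]; rfl)
  have hfc : Fintype.card (Function.fixedPoints t.toFun) = 2 := by
    rw [← hfix, Fintype.card_of_subtype]
    intro x; simp [Function.mem_fixedPoints, Function.IsFixedPt]
  rw [hfc] at hmod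
  have hev : Even (Fintype.card α) := Nat.even_iff.2 hmod
  obtain ⟨r, hr⟩ := hev
  rcases Nat.lt_or_ge (Fintype.card α) 8 with h8 | h8
  · have h6 : Fintype.card α = 6 := by omega
    have hdvd := hkt.descFactorial_dvd (by omega)
    rw [h6] at hdvd
    have hcard : Nat.card (Perm α) = 720 := by rw [Nat.card_perm, Nat.card_eq_fintype_card, h6]; rfl
    have hmul := G.card_mul_index
    rw [hcard] at hmul
    have h360 : 360 ≤ Nat.card G := Nat.le_of_dvd Nat.card_pos (by simpa [Nat.descFactorial] using hdvd)
    have hidx : G.index = 1 ∨ G.index = 2 := by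
      have : G.index ≠ 0 := Subgroup.index_ne_zero_of_finite
      have : G.index ≤ 2 := by
        by_contra hc
        have := Nat.mul_le_mul h360 (not_le.1 hc)
        omega
      omega
    have halt : ∀ σ : Perm α, Perm.sign σ = 1 → σ ∈ G := by
      intro σ hσ
      rcases hidx with e | e
      · rw [Subgroup.index_eq_one.1 e]; trivial
      · rw [Perm.eq_alternatingGroup_of_index_eq_two e]; exact hσ
    obtain ⟨Δ, -, hΔ⟩ := Finset.exists_subset_card_eq (s := (Finset.univ : Finset α)) (n := 5) (by rw [Finset.card_univ]; omega)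
    exact hfail Δ hΔ fun σ hσ hs => ⟨hσ, σ, halt σ hs, fun _ _ => rfl⟩
  · exact not_ten hkt hreg (Rigid.degree_eq_ten ⟨hkt, nef, h8⟩ hreg)

/-- Restriction of a group preserving `F` to `F`. -/
def restrHom (N : Subgroup (Perm α)) (F : Finset α) (h : ∀ g ∈ N, ∀ x, x ∈ F → g x ∈ F) : N →* Perm F where
  toFun g := (g : Perm α).subtypePerm (fun x => ⟨fun hx => by
      have := h _ (N.inv_mem g.2) _ hx
      simpa using this, fun hx => h _ g.2 x hx⟩)
  map_one' := by ext; rfl
  map_mul' _ _ := by ext; rfl

theorem restrHom_apply (N : Subgroup (Perm α)) (F : Finset α) (h : ∀ g ∈ N, ∀ x, x ∈ F → g x ∈ F) (g : N) (x : F) :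
    ((restrHom N F h g x : F) : α) = (g : Perm α) (x : α) := rfl

theorem altOn_of_restr (G N : Subgroup (Perm α)) (hN : N ≤ G) (F : Finset α) (h : ∀ g ∈ N, ∀ x, x ∈ F → g x ∈ F)
    (Δ : Finset F) (hΔ : AltOn (restrHom N F h).range Δ) : AltOn G (Δ.map (Function.Embedding.subtype _)) := by
  intro σ hσ hs
  have hFf : ∀ x, σ x ≠ x → x ∈ F := fun x hx => by
    by_contra hc
    exact hx (hσ x fun hm => hc (by
      obtain ⟨y, -, rfl⟩ := Finset.mem_map.1 hm
      exact y.2))
  have hpres : ∀ x, σ x ∈ F ↔ x ∈ F := fun x => by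
    by_cases e : σ x = x
    · rw [e]
    · exact ⟨fun _ => hFf x e, fun _ => hFf _ fun e' => e (σ.injective e')⟩
  obtain ⟨-, g', ⟨g, rfl⟩, hg⟩ := hΔ (σ.subtypePerm hpres) (fun y hy => Subtype.ext (hσ y fun hm => hy (by
      obtain ⟨y', hy', e⟩ := Finset.mem_map.1 hm
      rwa [Subtype.ext e] at hy')))
    (by convert (Perm.sign_subtypePerm σ hpres hFf).trans hs)
  refine ⟨hσ, g, hN g.2, fun x hx => ?_⟩
  obtain ⟨y, hy, rfl⟩ := Finset.mem_map.1 hx
  exact congrArg Subtype.val (hg y hy)

theorem exists_altOn_aux (n : ℕ) : ∀ (α : Type u) [Fintype α] [DecidableEq α], Fintype.card α = n →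
    ∀ (G : Subgroup (Perm α)) (k : ℕ), 4 ≤ k → k < n → KTrans G k → ∃ Δ : Finset α, Δ.card = k + 1 ∧ AltOn G Δ := by
  induction n using Nat.strong_induction_on with
  | _ n ih =>
  intro α _ _ hn G k hk hkn hkt
  classical
  by_cases hreg : Semireg G k
  · rcases Nat.lt_or_ge k 5 with h5 | h5
    · obtain rfl : k = 4 := by omega
      exact four_semireg hkt hreg (by omega)
    · by_contra hfail
      push Not at hfail
      -- a point stabiliser
      obtain ⟨z⟩ : Nonempty α := Fintype.card_pos_iff.1 (by omega)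
      have hpres : ∀ g ∈ G ⊓ MulAction.stabilizer (Perm α) z, ∀ x, x ∈ Finset.univ.erase z → g x ∈ Finset.univ.erase z := by
        intro g hg x hx
        have hgz : g z = z := hg.2
        simp only [Finset.mem_erase, Finset.mem_univ, and_true] at hx ⊢
        exact fun e => hx (g.injective (e.trans hgz.symm))
      have hkt' : KTrans (restrHom _ _ hpres).range (k - 1) := by
        intro l l' hl hl' hlen hlk
        obtain ⟨g, hg, hgl⟩ := hkt (z :: l.map Subtype.val) (z :: l'.map Subtype.val)
          (List.nodup_cons.2 ⟨fun hm => by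
            obtain ⟨y, -, e⟩ := List.mem_map.1 hm
            exact (Finset.mem_erase.1 y.2).1 e, hl.map Subtype.val_injective⟩)
          (List.nodup_cons.2 ⟨fun hm => by
            obtain ⟨y, -, e⟩ := List.mem_map.1 hm
            exact (Finset.mem_erase.1 y.2).1 e, hl'.map Subtype.val_injective⟩)
          (by simpa using hlen) (by simp; omega)
        simp only [List.map_cons, List.cons.injEq] at hgl
        refine ⟨restrHom _ _ hpres ⟨g, hg, hgl.1⟩, ⟨_, rfl⟩, ?_⟩
        apply List.map_injective_iff.2 Subtype.val_injective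
        rw [List.map_map]
        rw [List.map_map] at hgl
        exact hgl.2
      obtain ⟨Δ, hΔc, hΔ⟩ := ih (n - 1) (by omega) ↥(Finset.univ.erase z)
        (by rw [Fintype.card_coe, Finset.card_erase_of_mem (Finset.mem_univ z), Finset.card_univ, hn]) _ (k - 1) (by omega) (by omega) hkt'
      set S := Δ.map (Function.Embedding.subtype _) with hSdef
      have hzS : z ∉ S := fun hm => by
        obtain ⟨y, -, e⟩ := Finset.mem_map.1 hm
        exact (Finset.mem_erase.1 y.2).1 e
      have hA := altOn_of_restr (G ⊓ MulAction.stabilizer (Perm α) z) _ le_rfl _ hpres Δ hΔ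
      refine big_false h5 hkt hreg (S := S) (x := z) (by rw [hSdef, Finset.card_map, hΔc]; omega) hzS ?_ hfail
      intro σ hσ hσz hs
      obtain ⟨-, g, hg, hgσ⟩ := hA σ (fun x hx => by
        by_cases e : x = z
        · rw [e]; exact hσz
        · exact hσ x (by simp [e, hSdef] at hx ⊢; exact hx)) hs
      refine ⟨hσ, g, hg.1, fun x hx => ?_⟩
      rcases Finset.mem_insert.1 hx with rfl | hx
      · rw [hσz]; exact hg.2
      · exact hgσ x hx
  · -- reduction to the fixed points of a `p`-group
    simp only [Semireg, not_forall] at hreg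
    obtain ⟨g, hgG, S, hSk, hgS, hg1⟩ := hreg
    set p := (orderOf g).minFac with hp
    have hpp : p.Prime := Nat.minFac_prime (fun e => hg1 (orderOf_eq_one_iff.1 e))
    have : Fact p.Prime := ⟨hpp⟩
    set h := g ^ (orderOf g / p) with hh
    have hho : orderOf h = p := orderOf_pow_orderOf_div (orderOf_pos g).ne' (Nat.minFac_dvd _)
    let fixp : Subgroup (Perm α) → Finset α := fun Q => Finset.univ.filter fun x => ∀ q ∈ Q, q x = x
    have memfix : ∀ {Q : Subgroup (Perm α)} {x : α}, x ∈ fixp Q ↔ ∀ q ∈ Q, q x = x := fun {Q x} => by simp [fixp]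
    let cand : Finset (Subgroup (Perm α)) := Finset.univ.filter fun Q =>
      Q ≤ G ∧ IsPGroup p Q ∧ Q ≠ ⊥ ∧ k < (fixp Q).card
    have hne : cand.Nonempty := by
      refine ⟨Subgroup.zpowers h, Finset.mem_filter.2 ⟨Finset.mem_univ _, Subgroup.zpowers_le.2 (pow_mem hgG _), ?_, ?_, ?_⟩⟩
      · exact IsPGroup.of_card (n := 1) (by rw [Nat.card_zpowers, hho, pow_one])
      · rw [Subgroup.zpowers_ne_bot]
        exact fun e => hpp.ne_one (by rw [← hho, e, orderOf_one])
      · refine lt_of_lt_of_le hSk (Finset.card_le_card fun x hx => memfix.2 fun q hq => ?_)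
        obtain ⟨i, rfl⟩ := Subgroup.mem_zpowers_iff.1 hq
        exact Perm.zpow_apply_eq_self_of_apply_eq_self (Perm.pow_apply_eq_self_of_apply_eq_self (hgS x hx) _) i
    obtain ⟨Q, hQc, hQmax⟩ := Finset.exists_max_image cand (fun Q => Nat.card Q) hne
    obtain ⟨-, hQG, hQp, hQ1, hQk⟩ := Finset.mem_filter.1 hQc
    set F := fixp Q with hF
    set N := G ⊓ Subgroup.normalizer (Q : Set (Perm α)) with hN
    have hpres : ∀ w ∈ N, ∀ x, x ∈ F → w x ∈ F := fun w hw x hx => memfix.2 fun q hq => by
      have h1 : w⁻¹ * q * w ∈ Q := (Subgroup.mem_normalizer_iff''.1 hw.2 q).1 hq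
      have h2 := (memfix.1 hx) _ h1
      rw [Perm.mul_apply, Perm.mul_apply, Perm.coe_inv, Equiv.symm_apply_eq] at h2
      exact h2
    have hFne : F.card < Fintype.card α := by
      refine Finset.card_lt_univ_of_notMem (x := ?_) ?_
      · exact Classical.choose (show ∃ x, x ∉ F by
          by_contra hall
          push Not at hall
          exact hQ1 (Q.eq_bot_iff_forall.2 fun q hq => Perm.ext fun x => memfix.1 (hall x) q hq))
      · exact Classical.choose_spec (show ∃ x, x ∉ F by
          by_contra hall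
          push Not at hall
          exact hQ1 (Q.eq_bot_iff_forall.2 fun q hq => Perm.ext fun x => memfix.1 (hall x) q hq))
    let K : Finset α → Subgroup (Perm α) := fun s => G ⊓ fixingSubgroup (Perm α) (s : Set α)
    have memK : ∀ {s : Finset α} {w : Perm α}, w ∈ K s ↔ w ∈ G ∧ ∀ x ∈ s, w x = x := fun {s w} => by
      simp [K, Subgroup.mem_inf, mem_fixingSubgroup_iff]
    have hkt' : KTrans (restrHom N F hpres).range k := by
      by_cases hsyl : ∃ s ⊆ F, s.card = k ∧ ∀ R : Subgroup (Perm α), R ≤ K s → IsPGroup p R → Q ≤ R → R = Q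
      · -- Witt's argument
        obtain ⟨s, hsF, hsc, hQmaxs⟩ := hsyl
        refine kTrans_of_isMultiplyPretransitive (by rw [Fintype.card_coe]; omega) ((MulAction.isMultiplyPretransitive_iff).2 fun x y => ?_)
        set X : Fin k ↪ α := x.trans (Function.Embedding.subtype _) with hX
        set Y : Fin k ↪ α := y.trans (Function.Embedding.subtype _) with hY
        obtain ⟨w, hw, hwl⟩ := hkt (List.ofFn X) (List.ofFn Y) (List.nodup_ofFn.2 X.injective) (List.nodup_ofFn.2 Y.injective) (by simp) (by simp)
        rw [List.map_ofFn] at hwl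
        have hwi : ∀ i, w (X i) = Y i := congrFun (List.ofFn_injective hwl)
        set T : Finset α := Finset.univ.map Y with hT
        have hTc : T.card = k := by rw [hT, Finset.card_map, Finset.card_univ, Fintype.card_fin]
        have hQT : Q ≤ K T := fun q hq => memK.2 ⟨hQG hq, fun v hv => by
          obtain ⟨i, -, rfl⟩ := Finset.mem_map.1 hv
          exact memfix.1 (y i).2 q hq⟩
        have hQs : Q ≤ K s := fun q hq => memK.2 ⟨hQG hq, fun v hv => memfix.1 (hsF hv) q hq⟩
        have hwQT : Q.map (MulAut.conj w).toMonoidHom ≤ K T := by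
          rintro _ ⟨q, hq, rfl⟩
          refine memK.2 ⟨G.mul_mem (G.mul_mem hw (hQG hq)) (G.inv_mem hw), fun v hv => ?_⟩
          obtain ⟨i, -, rfl⟩ := Finset.mem_map.1 hv
          have hxi : q (X i) = X i := memfix.1 (x i).2 q hq
          simp [← hwi i, hxi]
        -- the fixers of `k`-sets are conjugate
        obtain ⟨c, hc, hcv⟩ := hkt.exists_of_injOn s hsc.le
          (fun v => if h : v ∈ s then ((Finset.equivOfCardEq (hsc.trans hTc.symm)) ⟨v, h⟩ : α) else v) (by
            intro a ha b hb he
            simp only [Finset.mem_coe] at ha hb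
            simp only [ha, hb, dif_pos] at he
            exact congrArg Subtype.val ((Finset.equivOfCardEq _).injective (Subtype.ext he)))
        have hcs : s.image c = T := by
          refine Finset.eq_of_subset_of_card_le (fun v hv => ?_) (by rw [Finset.card_image_of_injective _ c.injective, hsc, hTc])
          obtain ⟨u, hu, rfl⟩ := Finset.mem_image.1 hv
          rw [hcv u hu, dif_pos hu]
          exact Finset.coe_mem _
        have hKc : K T = (K s).map (MulAut.conj c).toMonoidHom := by
          ext r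
          simp only [Subgroup.mem_map, MulEquiv.coe_toMonoidHom, MulAut.conj_apply]
          constructor
          · intro hr
            obtain ⟨hr1, hr2⟩ := memK.1 hr
            refine ⟨c⁻¹ * r * c, memK.2 ⟨G.mul_mem (G.mul_mem (G.inv_mem hc) hr1) hc, fun v hv => ?_⟩, by group⟩
            simp [hr2 _ (hcs ▸ Finset.mem_image_of_mem c hv)]
          · rintro ⟨r', hr', rfl⟩
            obtain ⟨hr1, hr2⟩ := memK.1 hr'
            refine memK.2 ⟨G.mul_mem (G.mul_mem hc hr1) (G.inv_mem hc), fun v hv => ?_⟩
            rw [← hcs] at hv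
            obtain ⟨u, hu, rfl⟩ := Finset.mem_image.1 hv
            simp [hr2 u hu]
        have hKcard : Nat.card (K T) = Nat.card (K s) := by
          rw [hKc]; exact Subgroup.card_map_of_injective (MulEquiv.injective _)
        have hQcard : Nat.card Q = p ^ (Nat.card (K s)).factorization p := by
          obtain ⟨P, hP⟩ := (hQp.of_equiv (Subgroup.subgroupOfEquivOfLe hQs).symm).exists_le_sylow
          have hQP : Q ≤ (P : Subgroup (K s)).map (K s).subtype := fun q hq =>
            ⟨⟨q, hQs hq⟩, hP (Subgroup.mem_subgroupOf.2 hq), rfl⟩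
          have e := hQmaxs _ (Subgroup.map_subtype_le _) (P.2.map _) hQP
          rw [← e, Subgroup.card_map_of_injective (Subgroup.subtype_injective _)]
          exact P.card_eq_multiplicity
        let P1 : Sylow p (K T) := Sylow.ofCard (Q.subgroupOf (K T))
          (by rw [Nat.card_congr (Subgroup.subgroupOfEquivOfLe hQT).toEquiv, hQcard, hKcard])
        let P2 : Sylow p (K T) := Sylow.ofCard ((Q.map (MulAut.conj w).toMonoidHom).subgroupOf (K T))
          (by rw [Nat.card_congr (Subgroup.subgroupOfEquivOfLe hwQT).toEquiv,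
            Subgroup.card_map_of_injective (MulEquiv.injective _), hQcard, hKcard])
        obtain ⟨⟨r, hrK⟩, hr⟩ := MulAction.exists_smul_eq (K T) P2 P1
        have hrQ : ∀ q ∈ Q, r * (w * q * w⁻¹) * r⁻¹ ∈ Q := by
          intro q hq
          have hm : (⟨r, hrK⟩ : K T) * ⟨w * q * w⁻¹, hwQT ⟨q, hq, rfl⟩⟩ * (⟨r, hrK⟩ : K T)⁻¹ ∈ (P1 : Subgroup (K T)) := by
            rw [← hr, Sylow.coe_subgroup_smul]
            refine ⟨⟨w * q * w⁻¹, hwQT ⟨q, hq, rfl⟩⟩, ?_, rfl⟩
            exact Subgroup.mem_subgroupOf.2 ⟨q, hq, rfl⟩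
          exact Subgroup.mem_subgroupOf.1 hm
        obtain ⟨hrG, hrT⟩ := memK.1 hrK
        have hn' : r * w ∈ N := by
          refine ⟨G.mul_mem hrG hw, Subgroup.mem_normalizer_iff_map_conj_eq.2 ?_⟩
          refine Subgroup.eq_of_le_of_card_ge ?_ (le_of_eq (Subgroup.card_map_of_injective (MulEquiv.injective _)).symm)
          rintro _ ⟨q, hq, rfl⟩
          have := hrQ q hq
          simpa [mul_assoc] using this
        refine ⟨⟨restrHom N F hpres ⟨r * w, hn'⟩, ⟨_, rfl⟩⟩, Function.Embedding.ext fun i => Subtype.ext ?_⟩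
        show (r * w) (X i) = Y i
        rw [Perm.mul_apply, hwi, hrT _ (Finset.mem_map_of_mem _ (Finset.mem_univ i))]
      · push Not at hsyl
        have hGl := Cfsg.Agent.S0743.result (restrHom N F hpres).range hpp (show 1 ≤ k by omega) (by rw [Fintype.card_coe]; exact hQk) (fun s hs => by
          obtain ⟨R, hRK, hRp, hQR, hRQ⟩ := hsyl (s.map (Function.Embedding.subtype _)) (fun x hx => by
            obtain ⟨y, -, rfl⟩ := Finset.mem_map.1 hx
            exact y.2) (by rw [Finset.card_map]; exact hs)
          set R' := R ⊓ Subgroup.normalizer (Q : Set (Perm α)) with hR'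
          have hQR' : Q < R' := by
            have : Group.IsNilpotent R := hRp.isNilpotent
            have hlt : Q.subgroupOf R < ⊤ := lt_top_iff_ne_top.2 (fun e => hRQ (le_antisymm (Subgroup.subgroupOf_eq_top.1 e) hQR))
            refine lt_of_le_of_ne (le_inf hQR Subgroup.le_normalizer) fun e => ?_
            have h1 := Group.normalizerCondition_of_isNilpotent _ hlt
            obtain ⟨r, hr1, hr2⟩ := SetLike.exists_of_lt h1
            refine hr2 (Subgroup.mem_subgroupOf.2 (e ▸ ⟨r.2, Subgroup.mem_normalizer_iff.2 fun q => ⟨fun hq => ?_, fun hq => ?_⟩⟩))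
            · have := (Subgroup.mem_normalizer_iff.1 hr1 ⟨q, hQR hq⟩).1 (Subgroup.mem_subgroupOf.2 hq)
              exact Subgroup.mem_subgroupOf.1 this
            · have h3 : q ∈ R := by
                have h4 := R.mul_mem (R.mul_mem (R.inv_mem r.2) (hQR hq)) r.2
                simpa [mul_assoc] using h4
              exact Subgroup.mem_subgroupOf.1 ((Subgroup.mem_normalizer_iff.1 hr1 ⟨q, h3⟩).2 (Subgroup.mem_subgroupOf.2 hq))
          have hR'N : R' ≤ N := fun r hr => ⟨(memK.1 (hRK hr.1)).1, hr.2⟩
          have hR'p : IsPGroup p R' := hRp.to_le inf_le_left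
          refine ⟨((R'.subgroupOf N).map (restrHom N F hpres)).subgroupOf _, ?_, ?_⟩
          · exact ((hR'p.of_equiv (Subgroup.subgroupOfEquivOfLe hR'N).symm).map _).comap_subtype
          · refine Set.ext fun y => ⟨fun hy => ?_, fun hy => ?_⟩
            · by_contra hys
              have hc : R' ∈ cand := by
                refine Finset.mem_filter.2 ⟨Finset.mem_univ _, fun r hr => (hR'N hr).1, hR'p, ne_bot_of_gt hQR', ?_⟩
                refine lt_of_lt_of_le ?_ (Finset.card_le_card (show (insert y s).map (Function.Embedding.subtype _) ⊆ fixp R' from fun x hx => ?_))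
                · rw [Finset.card_map, Finset.card_insert_of_notMem hys, hs]; omega
                · obtain ⟨v, hv, rfl⟩ := Finset.mem_map.1 hx
                  refine memfix.2 fun r hr => ?_
                  rcases Finset.mem_insert.1 hv with rfl | hv
                  · exact congrArg Subtype.val (hy ⟨⟨restrHom N F hpres ⟨r, hR'N hr⟩, ⟨_, rfl⟩⟩,
                      Subgroup.mem_subgroupOf.2 ⟨⟨r, hR'N hr⟩, Subgroup.mem_subgroupOf.2 hr, rfl⟩⟩)
                  · exact (memK.1 (hRK hr.1)).2 _ (Finset.mem_map_of_mem _ hv)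
              have := hQmax R' hc
              have := Set.ncard_lt_ncard (SetLike.coe_ssubset_coe.2 hQR') (Set.toFinite _)
              simp only [← Nat.card_coe_set_eq] at this
              exact absurd this (not_lt.2 (hQmax R' hc))
            · rintro ⟨⟨_, _⟩, hmem⟩
              obtain ⟨⟨r, hrN⟩, hr, e⟩ := Subgroup.mem_subgroupOf.1 hmem
              refine Subtype.ext ?_
              simp only at e
              subst e
              exact (memK.1 (hRK (Subgroup.mem_subgroupOf.1 hr).1)).2 _ (Finset.mem_map_of_mem _ hy))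
        exact kTrans_of_isMultiplyPretransitive (by rw [Fintype.card_coe]; omega) hGl
    obtain ⟨Δ, hΔc, hΔ⟩ := ih F.card (by omega) F (Fintype.card_coe F) _ k hk hQk hkt'
    exact ⟨_, by rw [Finset.card_map, hΔc], altOn_of_restr G N inf_le_left F hpres Δ hΔ⟩

theorem exists_altOn {G : Subgroup (Perm α)} {k : ℕ} (hk : 4 ≤ k) (hkn : k < Fintype.card α) (hkt : KTrans G k) :
    ∃ Δ : Finset α, Δ.card = k + 1 ∧ AltOn G Δ :=
  exists_altOn_aux _ α rfl G k hk hkn hkt

end Cfsg.Homog
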