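import Mathlib

/-! Induced groups on subsets, lifts of permutations and orbit counting for multiply transitive groups. -/

set_option autoImplicit false
set_option linter.unusedVariables false
set_option linter.unusedSectionVars false

open Equiv

namespace Cfsg.Homog

variable {α : Type*}

theorem apply_mem_of_supported [Fintype α] [DecidableEq α] {Δ : Finset α} {σ : Perm α} (h : ∀ x ∉ Δ, σ x = x) {x : α} (hx : x ∈ Δ) : σ x ∈ Δ := by
  by_contra hc
  have h1 := h _ hc
  rw [σ.injective h1] at hc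
  exact hc hx

theorem inv_apply_mem_of_supported [Fintype α] [DecidableEq α] {Δ : Finset α} {σ : Perm α} (h : ∀ x ∉ Δ, σ x = x) {x : α} (hx : x ∈ Δ) : σ⁻¹ x ∈ Δ := by
  by_contra hc
  have h1 := h _ hc
  rw [Perm.coe_inv, Equiv.apply_symm_apply] at h1
  rw [Perm.coe_inv, ← h1] at hc
  exact hc hx

theorem supported_swap [DecidableEq α] {Δ : Finset α} {a b : α} (ha : a ∈ Δ) (hb : b ∈ Δ) : ∀ x ∉ Δ, swap a b x = x :=
  fun x hx => swap_apply_of_ne_of_ne (fun h => hx (h ▸ ha)) (fun h => hx (h ▸ hb))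

/-- `k`-transitivity on lists. -/
def KTrans (G : Subgroup (Perm α)) (k : ℕ) : Prop :=
  ∀ l l' : List α, l.Nodup → l'.Nodup → l.length = l'.length → l.length ≤ k → ∃ g ∈ G, l.map g = l'

/-- Only the identity fixes more than `k` points. -/
def Semireg (G : Subgroup (Perm α)) (k : ℕ) : Prop :=
  ∀ g ∈ G, ∀ S : Finset α, k < S.card → (∀ x ∈ S, g x = x) → g = 1

variable [Fintype α] [DecidableEq α]

theorem KTrans.mono {G : Subgroup (Perm α)} {k m : ℕ} (h : KTrans G k) (hm : m ≤ k) : KTrans G m :=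
  fun l l' a b c d => h l l' a b c (d.trans hm)

theorem kTrans_of_isMultiplyPretransitive {G : Subgroup (Perm α)} {k : ℕ} (hkn : k ≤ Fintype.card α)
    (hG : MulAction.IsMultiplyPretransitive G α k) : KTrans G k := by
  intro l l' hl hl' hlen hlk
  have : MulAction.IsMultiplyPretransitive G α l.length :=
    MulAction.isMultiplyPretransitive_of_le (n := k) hlk (by rw [Nat.card_eq_fintype_card]; exact hkn)
  obtain ⟨g, hg⟩ := MulAction.exists_smul_eq G (⟨l.get, hl.injective_get⟩ : Fin l.length ↪ α)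
    ⟨l'.get ∘ Fin.cast hlen, hl'.injective_get.comp (Fin.cast_injective _)⟩
  refine ⟨g, g.2, List.ext_get (by simpa using hlen) fun i hi hi' => ?_⟩
  have h1 := DFunLike.congr_fun hg ⟨i, by simpa using hi⟩
  simp only [List.get_eq_getElem, List.getElem_map] at h1 ⊢
  simpa [Function.Embedding.smul_apply, Subgroup.smul_def] using h1

theorem isMultiplyPretransitive_of_kTrans {G : Subgroup (Perm α)} {k : ℕ} (hG : KTrans G k) :
    MulAction.IsMultiplyPretransitive G α k := by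
  rw [MulAction.isMultiplyPretransitive_iff]
  intro x y
  obtain ⟨g, hg, hgl⟩ := hG (List.ofFn x) (List.ofFn y) (List.nodup_ofFn.2 x.injective) (List.nodup_ofFn.2 y.injective)
    (by simp) (by simp)
  refine ⟨⟨g, hg⟩, Function.Embedding.ext fun i => ?_⟩
  rw [List.map_ofFn] at hgl
  have := congrFun (List.ofFn_injective hgl) i
  simpa [Function.Embedding.smul_apply, Subgroup.smul_def] using this

section KTrans

variable {G : Subgroup (Perm α)} {k : ℕ}

/-- Any injection defined on at most `k` points is realised in `G`. -/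
theorem KTrans.exists_of_injOn (hG : KTrans G k) (S : Finset α) (hS : S.card ≤ k) (f : α → α) (hf : Set.InjOn f S) :
    ∃ g ∈ G, ∀ x ∈ S, g x = f x := by
  obtain ⟨g, hg, hgl⟩ := hG S.toList (S.toList.map f) S.nodup_toList
    (List.Nodup.map_on (fun x hx y hy h => hf (Finset.mem_toList.1 hx) (Finset.mem_toList.1 hy) h) S.nodup_toList)
    (by simp) (by simpa using hS)
  refine ⟨g, hg, fun x hx => ?_⟩
  exact (List.map_inj_left.1 hgl) x (Finset.mem_toList.2 hx)

/-- Fix a set pointwise and move one further point. -/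
theorem KTrans.exists_move (hG : KTrans G k) (T : Finset α) (hT : T.card + 1 ≤ k) {x y : α} (hx : x ∉ T) (hy : y ∉ T) :
    ∃ g ∈ G, (∀ t ∈ T, g t = t) ∧ g x = y := by
  obtain ⟨g, hg, h⟩ := hG.exists_of_injOn (insert x T) (by rw [Finset.card_insert_of_notMem hx]; exact hT)
    (fun z => if z = x then y else z) (by
      intro a ha b hb hab
      simp only [Finset.coe_insert, Set.mem_insert_iff, Finset.mem_coe] at ha hb
      by_cases h1 : a = x <;> by_cases h2 : b = x
      · rw [h1, h2]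
      · simp only [h1, if_true, h2, if_false] at hab
        exact absurd (hab ▸ hb.resolve_left h2) hy
      · simp only [h1, if_false, h2, if_true] at hab
        exact absurd (hab.symm ▸ ha.resolve_left h1) hy
      · simpa [h1, h2] using hab)
  refine ⟨g, hg, fun t ht => ?_, ?_⟩
  · rw [h t (Finset.mem_insert_of_mem ht), if_neg (fun e : t = x => hx (e ▸ ht))]
  · rw [h x (Finset.mem_insert_self _ _), if_pos rfl]

end KTrans

/-- The group induced on `Δ` by its setwise stabiliser, extended by the identity. -/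
def indGroup (G : Subgroup (Perm α)) (Δ : Finset α) : Subgroup (Perm α) where
  carrier := {σ | (∀ x ∉ Δ, σ x = x) ∧ ∃ g ∈ G, ∀ x ∈ Δ, g x = σ x}
  one_mem' := ⟨fun _ _ => rfl, 1, G.one_mem, fun _ _ => rfl⟩
  mul_mem' := by
    rintro σ τ ⟨hσ, g, hg, hgσ⟩ ⟨hτ, f, hf, hfτ⟩
    refine ⟨fun x hx => ?_, g * f, G.mul_mem hg hf, fun x hx => ?_⟩
    · rw [Perm.mul_apply, hτ x hx, hσ x hx]
    · rw [Perm.mul_apply, Perm.mul_apply, hfτ x hx, hgσ _ (apply_mem_of_supported hτ hx)]
  inv_mem' := by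
    rintro σ ⟨hσ, g, hg, hgσ⟩
    refine ⟨fun x hx => ?_, g⁻¹, G.inv_mem hg, fun x hx => ?_⟩
    · rw [Perm.coe_inv, Equiv.symm_apply_eq, hσ x hx]
    · have h1 := hgσ _ (inv_apply_mem_of_supported hσ hx)
      simp only [Perm.coe_inv, Equiv.apply_symm_apply] at h1 ⊢
      rw [Equiv.symm_apply_eq, h1]

variable {G : Subgroup (Perm α)}

theorem mem_indGroup {Δ : Finset α} {σ : Perm α} :
    σ ∈ indGroup G Δ ↔ (∀ x ∉ Δ, σ x = x) ∧ ∃ g ∈ G, ∀ x ∈ Δ, g x = σ x := Iff.rfl

theorem indGroup_conj {Δ : Finset α} {σ w : Perm α} (hσ : σ ∈ indGroup G Δ) (hw : w ∈ G) :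
    w * σ * w⁻¹ ∈ indGroup G (Δ.image w) := by
  obtain ⟨hs, g, hg, hgσ⟩ := hσ
  refine ⟨fun x hx => ?_, w * g * w⁻¹, G.mul_mem (G.mul_mem hw hg) (G.inv_mem hw), fun x hx => ?_⟩
  · have : w⁻¹ x ∉ Δ := fun h => hx (Finset.mem_image.2 ⟨_, h, by simp⟩)
    rw [Perm.mul_apply, Perm.mul_apply, hs _ this]; simp
  · obtain ⟨y, hy, rfl⟩ := Finset.mem_image.1 hx
    simp [hgσ y hy]

/-- Even permutations of `Δ` are induced. -/
def AltOn (G : Subgroup (Perm α)) (Δ : Finset α) : Prop :=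
  ∀ σ : Perm α, (∀ x ∉ Δ, σ x = x) → Perm.sign σ = 1 → σ ∈ indGroup G Δ

/-- All permutations of `Δ` are induced. -/
def SymOn (G : Subgroup (Perm α)) (Δ : Finset α) : Prop :=
  ∀ σ : Perm α, (∀ x ∉ Δ, σ x = x) → σ ∈ indGroup G Δ

theorem SymOn.altOn {Δ : Finset α} (h : SymOn G Δ) : AltOn G Δ := fun σ hσ _ => h σ hσ

theorem altOn_of_three {Δ : Finset α} (h : ∀ a ∈ Δ, ∀ b ∈ Δ, ∀ c ∈ Δ, a ≠ b → a ≠ c → b ≠ c → swap b c * swap a b ∈ indGroup G Δ) :
    AltOn G Δ := by
  intro σ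
  induction hn : σ.support.card using Nat.strong_induction_on generalizing σ with
  | _ n ih =>
  intro hσ heven
  by_cases h1 : σ = 1
  · rw [h1]; exact (indGroup G Δ).one_mem
  obtain ⟨a, ha⟩ : ∃ a, σ a ≠ a := not_forall.1 fun hc => h1 (Perm.ext hc)
  have hb : σ (σ a) ≠ σ a := fun e => ha (σ.injective e)
  obtain ⟨c, hc, hca, hcb⟩ : ∃ c, σ c ≠ c ∧ c ≠ a ∧ c ≠ σ a := by
    by_cases e : σ (σ a) = a
    · by_contra hno
      push Not at hno
      have : σ = swap a (σ a) := Perm.ext fun x => by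
        by_cases x1 : x = a
        · rw [x1, swap_apply_left]
        by_cases x2 : x = σ a
        · rw [x2, swap_apply_right, e]
        rw [swap_apply_of_ne_of_ne x1 x2]
        by_contra hx
        exact x2 (hno x hx x1)
      rw [this, Perm.sign_swap (Ne.symm ha)] at heven
      exact absurd heven (by decide)
    · exact ⟨σ (σ a), fun h' => hb (σ.injective h'), e, hb⟩
  have mem : ∀ x, σ x ≠ x → x ∈ Δ := fun x hx => by_contra fun hc => hx (hσ x hc)
  have hρ := h a (mem a ha) (σ a) (mem _ hb) c (mem c hc) (Ne.symm ha) hca.symm hcb.symm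
  set ρ := swap (σ a) c * swap a (σ a) with hρdef
  have hρfix : ∀ x, x ≠ a → x ≠ σ a → x ≠ c → ρ x = x := fun x x1 x2 x3 => by
    rw [hρdef, Perm.mul_apply, swap_apply_of_ne_of_ne x1 x2, swap_apply_of_ne_of_ne x2 x3]
  have hρa : ρ (σ a) = a := by
    rw [hρdef, Perm.mul_apply, swap_apply_right, swap_apply_of_ne_of_ne (Ne.symm ha) hca.symm]
  have key : ρ * σ ∈ indGroup G Δ := by
    refine ih _ ?_ (ρ * σ) rfl (fun x hx => ?_) ?_
    · rw [← hn]
      refine Finset.card_lt_card ⟨fun x hx => ?_, fun hsub => ?_⟩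
      · rw [Perm.mem_support] at hx ⊢
        intro e
        rw [Perm.mul_apply, e, hρfix x (fun y => ha (y ▸ e)) (fun y => hb (y ▸ e)) (fun y => hc (y ▸ e))] at hx
        exact hx rfl
      · have := hsub (Perm.mem_support.2 ha)
        rw [Perm.mem_support, Perm.mul_apply, hρa] at this
        exact this rfl
    · rw [Perm.mul_apply, hσ x hx, hρfix x (fun y => hx (y ▸ mem a ha)) (fun y => hx (y ▸ mem _ hb)) (fun y => hx (y ▸ mem c hc))]
    · rw [Perm.sign_mul, heven, hρdef, Perm.sign_mul, Perm.sign_swap (Ne.symm hcb), Perm.sign_swap (Ne.symm ha)]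
      decide
  have := (indGroup G Δ).mul_mem ((indGroup G Δ).inv_mem hρ) key
  rwa [inv_mul_cancel_left] at this

theorem symOn_of_swap {Δ : Finset α} (h : ∀ a ∈ Δ, ∀ b ∈ Δ, a ≠ b → swap a b ∈ indGroup G Δ) : SymOn G Δ := by
  intro σ hσ
  have halt : AltOn G Δ := altOn_of_three fun a ha b hb c hc hab hac hbc =>
    (indGroup G Δ).mul_mem (h b hb c hc hbc) (h a ha b hb hab)
  rcases Int.units_eq_one_or (Perm.sign σ) with e | e
  · exact halt σ hσ e
  · obtain ⟨a, ha⟩ : ∃ a, σ a ≠ a := not_forall.1 fun hc => by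
      rw [show σ = 1 from Perm.ext hc, Perm.sign_one] at e
      exact absurd e (by decide)
    have hb : σ (σ a) ≠ σ a := fun e' => ha (σ.injective e')
    have m1 : a ∈ Δ := by_contra fun hc => ha (hσ a hc)
    have m2 : σ a ∈ Δ := by_contra fun hc => hb (hσ _ hc)
    have hs := h a m1 (σ a) m2 (Ne.symm ha)
    have := halt (swap a (σ a) * σ) (fun x hx => by rw [Perm.mul_apply, hσ x hx, supported_swap m1 m2 x hx])
      (by rw [Perm.sign_mul, e, Perm.sign_swap (Ne.symm ha)]; decide)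
    have h2 := (indGroup G Δ).mul_mem ((indGroup G Δ).inv_mem hs) this
    rwa [inv_mul_cancel_left] at h2

theorem swap_mem_trans {U : Subgroup (Perm α)} {a b c : α} (hab : a ≠ b) (hac : a ≠ c)
    (h1 : swap a b ∈ U) (h2 : swap b c ∈ U) : swap a c ∈ U := by
  have : swap a c = swap b c * swap a b * (swap b c)⁻¹ := by
    rw [← swap_apply_apply, swap_apply_left, swap_apply_of_ne_of_ne hab hac]
  rw [this]
  exact U.mul_mem (U.mul_mem h2 h1) (U.inv_mem h2)

/-- Two point stabilisers containing the alternating groups give the alternating group. -/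
theorem altOn_of_two {Δ : Finset α} (h5 : 5 ≤ Δ.card) {p q : α} (hp : p ∈ Δ) (hq : q ∈ Δ) (hpq : p ≠ q)
    (Hp : ∀ σ : Perm α, (∀ x ∉ Δ, σ x = x) → σ p = p → Perm.sign σ = 1 → σ ∈ indGroup G Δ)
    (Hq : ∀ σ : Perm α, (∀ x ∉ Δ, σ x = x) → σ q = q → Perm.sign σ = 1 → σ ∈ indGroup G Δ) :
    AltOn G Δ := by
  refine altOn_of_three fun a ha b hb c hc hab hac hbc => ?_
  set ρ := swap b c * swap a b with hρdef
  have hsupp : ∀ x, x ≠ a → x ≠ b → x ≠ c → ρ x = x := fun x x1 x2 x3 => by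
    rw [hρdef, Perm.mul_apply, swap_apply_of_ne_of_ne x1 x2, swap_apply_of_ne_of_ne x2 x3]
  have hout : ∀ x ∉ Δ, ρ x = x := fun x hx => hsupp x (fun e => hx (e ▸ ha)) (fun e => hx (e ▸ hb)) (fun e => hx (e ▸ hc))
  have hsgn : Perm.sign ρ = 1 := by
    rw [hρdef, Perm.sign_mul, Perm.sign_swap hbc, Perm.sign_swap hab]; decide
  by_cases h1 : ρ p = p
  · exact Hp ρ hout h1 hsgn
  by_cases h2 : ρ q = q
  · exact Hq ρ hout h2 hsgn
  have hp3 : p = a ∨ p = b ∨ p = c := by
    by_contra hn; push Not at hn; exact h1 (hsupp p hn.1 hn.2.1 hn.2.2)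
  have hq3 : q = a ∨ q = b ∨ q = c := by
    by_contra hn; push Not at hn; exact h2 (hsupp q hn.1 hn.2.1 hn.2.2)
  obtain ⟨r, hr⟩ : ∃ r, r ∈ ({a, b, c} : Finset α) \ {p, q} := by
    refine Finset.Nonempty.exists_mem ?_
    rw [← Finset.card_pos]
    have e1 : ({a, b, c} : Finset α).card = 3 := Finset.card_eq_three.2 ⟨a, b, c, hab, hac, hbc, rfl⟩
    have e2 : ({p, q} : Finset α).card ≤ 2 := Finset.card_le_two
    have := Finset.le_card_sdiff ({p, q} : Finset α) ({a, b, c} : Finset α)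
    omega
  obtain ⟨s, hs, t, ht, hst⟩ : ∃ s ∈ Δ \ {a, b, c}, ∃ t ∈ Δ \ {a, b, c}, s ≠ t := by
    refine Finset.one_lt_card.1 ?_
    have e1 : ({a, b, c} : Finset α).card ≤ 3 := Finset.card_le_three
    have := Finset.le_card_sdiff ({a, b, c} : Finset α) Δ
    omega
  simp only [Finset.mem_sdiff, Finset.mem_insert, Finset.mem_singleton, not_or] at hr hs ht
  obtain ⟨hr3, hrp, hrq⟩ := hr
  have hrΔ : r ∈ Δ := by rcases hr3 with rfl | rfl | rfl <;> assumption
  have hrs : r ≠ s := fun e => by subst e; rcases hr3 with e | e | e <;> simp_all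
  have hrt : r ≠ t := fun e => by subst e; rcases hr3 with e | e | e <;> simp_all
  have hps : p ≠ s := fun e => by subst e; rcases hp3 with e | e | e <;> simp_all
  have hpt : p ≠ t := fun e => by subst e; rcases hp3 with e | e | e <;> simp_all
  have hqs : q ≠ s := fun e => by subst e; rcases hq3 with e | e | e <;> simp_all
  have hqt : q ≠ t := fun e => by subst e; rcases hq3 with e | e | e <;> simp_all
  set π := swap q s * swap r t with hπdef
  have hπ : π ∈ indGroup G Δ := Hp π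
    (fun x hx => by rw [hπdef, Perm.mul_apply, supported_swap hrΔ ht.1 x hx, supported_swap hq hs.1 x hx])
    (by rw [hπdef, Perm.mul_apply, swap_apply_of_ne_of_ne (Ne.symm hrp) hpt, swap_apply_of_ne_of_ne hpq hps])
    (by rw [hπdef, Perm.sign_mul, Perm.sign_swap hqs, Perm.sign_swap hrt]; decide)
  have hπs : π⁻¹ q = s := by
    rw [Perm.coe_inv, Equiv.symm_apply_eq, hπdef, Perm.mul_apply, swap_apply_of_ne_of_ne (Ne.symm hrs) hst, swap_apply_right]
  have hρs : ρ s = s := hsupp s hs.2.1 hs.2.2.1 hs.2.2.2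
  have hπρ : π * ρ * π⁻¹ ∈ indGroup G Δ := Hq _ (fun x hx => by
      have hx' : ∀ y ∉ Δ, π⁻¹ y = y := fun y hy => ((indGroup G Δ).inv_mem hπ).1 y hy
      rw [Perm.mul_apply, Perm.mul_apply, hx' x hx, hout x hx, hπ.1 x hx])
    (by rw [Perm.mul_apply, Perm.mul_apply, hπs, hρs, ← hπs, Perm.coe_inv, Equiv.apply_symm_apply])
    (by simp [Perm.sign_mul, hsgn])
  have h2 := (indGroup G Δ).mul_mem ((indGroup G Δ).mul_mem ((indGroup G Δ).inv_mem hπ) hπρ) hπ
  have e : π⁻¹ * (π * ρ * π⁻¹) * π = ρ := by group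
  rwa [e] at h2

section Lifts

open scoped Classical in
/-- The elements of `G` agreeing with `σ` on `S`. -/
noncomputable def lifts (G : Subgroup (Perm α)) (S : Finset α) (σ : Perm α) : Finset (Perm α) :=
  Finset.univ.filter fun g => g ∈ G ∧ ∀ x ∈ S, g x = σ x

theorem mem_lifts {S : Finset α} {σ g : Perm α} : g ∈ lifts G S σ ↔ g ∈ G ∧ ∀ x ∈ S, g x = σ x := by
  simp [lifts]

theorem card_lifts {S : Finset α} {σ g₀ : Perm α} (hg₀ : g₀ ∈ lifts G S σ) : (lifts G S σ).card = (lifts G S 1).card := by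
  obtain ⟨h0, h0'⟩ := mem_lifts.1 hg₀
  refine Finset.card_bij (fun g _ => g₀⁻¹ * g) (fun g hg => ?_) (fun g _ f _ h => mul_left_cancel h) (fun f hf => ⟨g₀ * f, ?_, by group⟩)
  · obtain ⟨h1, h1'⟩ := mem_lifts.1 hg
    refine mem_lifts.2 ⟨G.mul_mem (G.inv_mem h0) h1, fun x hx => ?_⟩
    simp [h1' x hx, ← h0' x hx]
  · obtain ⟨h1, h1'⟩ := mem_lifts.1 hf
    refine mem_lifts.2 ⟨G.mul_mem h0 h1, fun x hx => ?_⟩
    simp [h1' x hx, h0' x hx]

theorem one_mem_lifts (S : Finset α) : (1 : Perm α) ∈ lifts G S 1 := mem_lifts.2 ⟨G.one_mem, fun _ _ => rfl⟩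

theorem conj_mem_lifts {S : Finset α} {σ g c : Perm α} (hσ : ∀ x ∉ S, σ x = x) (hg : g ∈ lifts G S σ) (hc : c ∈ lifts G S 1) :
    c * g * c⁻¹ ∈ lifts G S σ := by
  obtain ⟨h0, h0'⟩ := mem_lifts.1 hg
  obtain ⟨h1, h1'⟩ := mem_lifts.1 hc
  refine mem_lifts.2 ⟨G.mul_mem (G.mul_mem h1 h0) (G.inv_mem h1), fun x hx => ?_⟩
  have e : c⁻¹ x = x := by rw [Perm.coe_inv, Equiv.symm_apply_eq]; exact (h1' x hx).symm
  rw [Perm.mul_apply, Perm.mul_apply, e, h0' x hx]
  exact h1' _ (apply_mem_of_supported hσ hx)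

/-- Points fixed by `g` outside `S`. -/
def extraFix (S : Finset α) (g : Perm α) : Finset α := Finset.univ.filter fun x => x ∉ S ∧ g x = x

theorem mem_extraFix {S : Finset α} {g : Perm α} {x : α} : x ∈ extraFix S g ↔ x ∉ S ∧ g x = x := by simp [extraFix]

/-- Inequivalent points each fixed by some lift are bounded by the average number of extra fixed points. -/
theorem orbit_bound {k c : ℕ} (hreg : Semireg G k) {S : Finset α} (hS : S.card = k) {σ : Perm α}
    (hσ : ∀ x ∉ S, σ x = x) (T : Finset α) (hT : ∀ x ∈ T, x ∉ S ∧ ∃ g ∈ lifts G S σ, g x = x)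
    (hineq : ∀ x ∈ T, ∀ y ∈ T, ∀ f ∈ lifts G S 1, f x = y → x = y)
    (hc : ∀ g ∈ lifts G S σ, (extraFix S g).card ≤ c) :
    T.card * (lifts G S 1).card ≤ ∑ g ∈ lifts G S σ, (extraFix S g).card := by
  classical
  rw [← Finset.card_product, ← Finset.card_sigma]
  choose! hmem pick hpick hfix using hT
  refine Finset.card_le_card_of_injOn (fun xf => (⟨xf.2 * pick xf.1 * xf.2⁻¹, xf.2 xf.1⟩ : Σ _ : Perm α, α)) ?_ ?_
  · rintro ⟨x, f⟩ h
    rw [Finset.mem_coe, Finset.mem_product] at h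
    rw [Finset.mem_coe, Finset.mem_sigma, mem_extraFix]
    refine ⟨conj_mem_lifts hσ (hpick x h.1) h.2, fun hfx => ?_, by simp [hfix x h.1]⟩
    have h2 := (mem_lifts.1 h.2).2 (f x) hfx
    rw [Perm.one_apply] at h2
    exact hmem x h.1 (f.injective h2 ▸ hfx)
  · rintro ⟨x, f⟩ h ⟨y, f'⟩ h' he
    simp only [Finset.mem_coe, Finset.mem_product] at h h'
    simp only [Sigma.mk.injEq, heq_eq_eq] at he
    have hm : f'⁻¹ * f ∈ lifts G S 1 := by
      refine mem_lifts.2 ⟨G.mul_mem (G.inv_mem (mem_lifts.1 h'.2).1) (mem_lifts.1 h.2).1, fun z hz => ?_⟩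
      rw [Perm.mul_apply, (mem_lifts.1 h.2).2 z hz, Perm.one_apply, Perm.coe_inv, Equiv.symm_apply_eq]
      exact ((mem_lifts.1 h'.2).2 z hz).symm
    have hxy : x = y := hineq x h.1 y h'.1 _ hm (by rw [Perm.mul_apply, he.2]; simp)
    subst hxy
    have h1 : f'⁻¹ * f = 1 := hreg _ (mem_lifts.1 hm).1 (insert x S) (by rw [Finset.card_insert_of_notMem (hmem x h.1)]; omega)
      (fun z hz => by
        rcases Finset.mem_insert.1 hz with rfl | hz
        · rw [Perm.mul_apply, he.2]; simp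
        · exact (mem_lifts.1 hm).2 z hz)
    rw [inv_mul_eq_one] at h1
    rw [h1]

theorem le_of_orbit_bound {k c : ℕ} (hreg : Semireg G k) {S : Finset α} (hS : S.card = k) {σ : Perm α}
    (hσ : ∀ x ∉ S, σ x = x) (T : Finset α) (hT : ∀ x ∈ T, x ∉ S ∧ ∃ g ∈ lifts G S σ, g x = x)
    (hineq : ∀ x ∈ T, ∀ y ∈ T, ∀ f ∈ lifts G S 1, f x = y → x = y)
    (hc : ∀ g ∈ lifts G S σ, (extraFix S g).card ≤ c) (hne : (lifts G S σ).Nonempty) : T.card ≤ c := by
  have h1 := orbit_bound hreg hS hσ T hT hineq hc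
  have h2 := Finset.sum_le_card_nsmul _ _ c hc
  obtain ⟨g₀, hg₀⟩ := hne
  rw [smul_eq_mul, card_lifts hg₀, mul_comm] at h2
  exact Nat.le_of_mul_le_mul_right (h1.trans h2) (Finset.card_pos.2 ⟨1, one_mem_lifts S⟩)

end Lifts

end Cfsg.Homog
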