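import Cfsg.Agent.Homogeneous.Hom
import Cfsg.Agent.Homogeneous.Ten

/-! Orders of homogeneous groups in which only the identity fixes `j` points. -/

set_option autoImplicit false
set_option linter.unusedSectionVars false

open Equiv

namespace Cfsg.Homog

variable {α : Type*} [Fintype α] [DecidableEq α] {G : Subgroup (Perm α)}

/-- The group induced on the range of `e`, as a subgroup of `Perm (Fin j)`. -/
noncomputable def indFin (G : Subgroup (Perm α)) {j : ℕ} (e : Fin j ↪ α) : Subgroup (Perm (Fin j)) :=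
  (indGroup G (Finset.univ.map e)).comap (Perm.viaEmbeddingHom e)

theorem mem_indFin {j : ℕ} {e : Fin j ↪ α} {π : Perm (Fin j)} :
    π ∈ indFin G e ↔ ∃ g ∈ G, ∀ i, g (e i) = e (π i) := by
  simp only [indFin, Subgroup.mem_comap, mem_indGroup, Perm.viaEmbeddingHom_apply]
  constructor
  · rintro ⟨-, g, hg, h⟩
    exact ⟨g, hg, fun i => by rw [h _ (Finset.mem_map_of_mem _ (Finset.mem_univ i)), Perm.viaEmbedding_apply]⟩
  · rintro ⟨g, hg, h⟩
    refine ⟨fun x hx => Perm.viaEmbedding_apply_of_notMem _ _ _ (fun ⟨i, hi⟩ => hx (hi ▸ Finset.mem_map_of_mem _ (Finset.mem_univ i))), g, hg, fun x hx => ?_⟩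
    obtain ⟨i, -, rfl⟩ := Finset.mem_map.1 hx
    rw [h i, Perm.viaEmbedding_apply]

theorem symOn_of_indFin_top {j : ℕ} (e : Fin j ↪ α) (h : indFin G e = ⊤) : SymOn G (Finset.univ.map e) := by
  refine symOn_of_swap fun a ha b hb hab => ?_
  obtain ⟨i, -, rfl⟩ := Finset.mem_map.1 ha
  obtain ⟨i', -, rfl⟩ := Finset.mem_map.1 hb
  obtain ⟨g, hg, hgi⟩ := mem_indFin.1 (h ▸ Subgroup.mem_top (swap i i'))
  refine ⟨supported_swap ha hb, g, hg, fun x hx => ?_⟩
  obtain ⟨r, -, rfl⟩ := Finset.mem_map.1 hx
  rw [hgi r, e.injective.swap_apply]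

/-- The order of a set-transitive group with faithful set stabilisers. -/
theorem card_eq_choose_mul {j : ℕ} (hset : SetTrans G j) (hfaith : ∀ g ∈ G, ∀ S : Finset α, j ≤ S.card → (∀ x ∈ S, g x = x) → g = 1)
    (e : Fin j ↪ α) : Nat.card G = (Fintype.card α).choose j * Nat.card (indFin G e) := by
  classical
  set E := Finset.univ.map e with hE
  have hEc : E.card = j := by simp [hE]
  let Gs : Finset (Perm α) := Finset.univ.filter fun g => g ∈ G
  have hGs : Nat.card G = Gs.card := by
    rw [Nat.card_eq_fintype_card, Fintype.card_of_subtype]; intro g; simp [Gs]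
  let D : Finset (Perm (Fin j)) := Finset.univ.filter fun π => π ∈ indFin G e
  have hD : Nat.card (indFin G e) = D.card := by
    rw [Nat.card_eq_fintype_card, Fintype.card_of_subtype]; intro g; simp [D]
  rw [hGs, hD, Finset.card_eq_sum_card_fiberwise (f := fun g : Perm α => E.image g) (t := (Finset.univ : Finset α).powersetCard j)
    (fun g _ => Finset.mem_powersetCard.2 ⟨Finset.subset_univ _, by rw [Finset.card_image_of_injective _ g.injective, hEc]⟩),
    Finset.sum_const_nat, Finset.card_powersetCard, Finset.card_univ]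
  intro T hT
  rw [Finset.mem_powersetCard] at hT
  obtain ⟨w, hw, hwT⟩ := hset E T hEc hT.2
  -- the fibre is a coset of the stabiliser of `E`
  have hpick : ∀ π ∈ D, ∃ g ∈ G, ∀ i, g (e i) = e (π i) := fun π hπ => mem_indFin.1 (Finset.mem_filter.1 hπ).2
  choose! lift hliftG hlift using hpick
  symm
  refine Finset.card_bij (fun π _ => w * lift π) (fun π hπ => ?_) (fun π hπ π' hπ' h => ?_) (fun g hg => ?_)
  · refine Finset.mem_filter.2 ⟨Finset.mem_filter.2 ⟨Finset.mem_univ _, G.mul_mem hw (hliftG π hπ)⟩, ?_⟩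
    rw [← hwT, Perm.coe_mul, ← Finset.image_image]
    congr 1
    refine Finset.eq_of_subset_of_card_le (fun x hx => ?_) (by rw [Finset.card_image_of_injective _ (lift π).injective])
    obtain ⟨y, hy, rfl⟩ := Finset.mem_image.1 hx
    obtain ⟨i, -, rfl⟩ := Finset.mem_map.1 hy
    rw [hlift π hπ i]
    exact Finset.mem_map_of_mem _ (Finset.mem_univ _)
  · refine Equiv.ext fun i => e.injective ?_
    rw [← hlift π hπ i, ← hlift π' hπ' i, mul_left_cancel h]
  · obtain ⟨hg', hgT⟩ := Finset.mem_filter.1 hg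
    have hgG := (Finset.mem_filter.1 hg').2
    have hmem : ∀ i, ∃ i', (w⁻¹ * g) (e i) = e i' := fun i => by
      have h1 : g (e i) ∈ E.image w := by
        rw [hwT, ← hgT]; exact Finset.mem_image_of_mem _ (Finset.mem_map_of_mem _ (Finset.mem_univ i))
      obtain ⟨y, hy, hy'⟩ := Finset.mem_image.1 h1
      obtain ⟨i', -, rfl⟩ := Finset.mem_map.1 hy
      exact ⟨i', by rw [Perm.mul_apply, ← hy']; simp⟩
    choose f hf using hmem
    have finj : Function.Injective f := fun a b hab => e.injective ((w⁻¹ * g).injective (by rw [hf a, hf b, hab]))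
    set π := Equiv.ofBijective f (Finite.injective_iff_bijective.1 finj) with hπ
    have hπD : π ∈ D := Finset.mem_filter.2 ⟨Finset.mem_univ _, mem_indFin.2 ⟨w⁻¹ * g, G.mul_mem (G.inv_mem hw) hgG, hf⟩⟩
    refine ⟨π, hπD, ?_⟩
    have h1 : (w * lift π)⁻¹ * g = 1 := hfaith _ (G.mul_mem (G.inv_mem (G.mul_mem hw (hliftG π hπD))) hgG) E hEc.ge fun x hx => by
      obtain ⟨i, -, rfl⟩ := Finset.mem_map.1 hx
      have h2 := hlift π hπD i
      have h3 : g (e i) = w (e (f i)) := by
        have := hf i
        rw [Perm.mul_apply, Perm.coe_inv, Equiv.symm_apply_eq] at this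
        exact this
      rw [Perm.mul_apply, h3, Perm.coe_inv, Equiv.symm_apply_eq, Perm.mul_apply, h2]
      rfl
    exact inv_mul_eq_one.1 h1

/-- The relation between two consecutive orders. -/
theorem indFin_card_rel {j : ℕ} (hj : j < Fintype.card α) (hset : SetTrans G j) (hset' : SetTrans G (j + 1))
    (hfaith : ∀ g ∈ G, ∀ S : Finset α, j ≤ S.card → (∀ x ∈ S, g x = x) → g = 1) (e : Fin j ↪ α) (e' : Fin (j + 1) ↪ α) :
    Nat.card (indFin G e') * (Fintype.card α - j) = (j + 1) * Nat.card (indFin G e) := by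
  have h1 := card_eq_choose_mul hset hfaith e
  have h2 := card_eq_choose_mul hset' (fun g hg S hS h => hfaith g hg S (by omega) h) e'
  rw [h1] at h2
  have h3 := Nat.choose_succ_right_eq (Fintype.card α) j
  have hpos : 0 < (Fintype.card α).choose j := Nat.choose_pos hj.le
  refine Nat.eq_of_mul_eq_mul_left hpos ?_
  calc (Fintype.card α).choose j * (Nat.card (indFin G e') * (Fintype.card α - j))
      = ((Fintype.card α).choose j * (Fintype.card α - j)) * Nat.card (indFin G e') := by ring
    _ = ((Fintype.card α).choose (j + 1) * (j + 1)) * Nat.card (indFin G e') := by rw [h3]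
    _ = (j + 1) * ((Fintype.card α).choose (j + 1) * Nat.card (indFin G e')) := by ring
    _ = (j + 1) * ((Fintype.card α).choose j * Nat.card (indFin G e)) := by rw [← h2]
    _ = _ := by ring

theorem kTrans_descFactorial_dvd {k : ℕ} (h : KTrans G k) (hk : k ≤ Fintype.card α) :
    (Fintype.card α).descFactorial k ∣ Nat.card G := h.descFactorial_dvd hk

/-- An element of order `p` fixing any prescribed `k` points, when `p` divides the order of their stabiliser. -/
theorem exists_fix_order {k p L : ℕ} [Fact p.Prime] (hkt : KTrans G k) (hk : k ≤ Fintype.card α)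
    (hcard : Nat.card G = (Fintype.card α).descFactorial k * L) (hp : p ∣ L) (x : Fin k ↪ α) :
    ∃ z ∈ G, orderOf z = p ∧ ∀ i, z (x i) = x i := by
  have hP : MulAction.IsPretransitive G (Fin k ↪ α) := isMultiplyPretransitive_of_kTrans hkt
  have e : Nat.card (Fin k ↪ α) = (Fintype.card α).descFactorial k := by
    rw [Nat.card_eq_fintype_card, Fintype.card_embedding_eq, Fintype.card_fin]
  have h1 := (MulAction.stabilizer G x).card_mul_index
  rw [@MulAction.index_stabilizer_of_transitive G (Fin k ↪ α) _ _ x hP, e, hcard, mul_comm] at h1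
  have h2 : Nat.card (MulAction.stabilizer G x) = L :=
    Nat.eq_of_mul_eq_mul_left (Nat.descFactorial_pos.2 hk) h1
  obtain ⟨⟨⟨z, hz⟩, hzx⟩, hzo⟩ := exists_prime_orderOf_dvd_card' p (h2 ▸ hp : p ∣ Nat.card (MulAction.stabilizer G x))
  rw [Subgroup.orderOf_mk, Subgroup.orderOf_mk] at hzo
  exact ⟨z, hz, hzo, fun i => DFunLike.congr_fun hzx i⟩

end Cfsg.Homog
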