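import Mathlib

/-! The action of the centraliser of an involution on its transpositions. -/

set_option autoImplicit false
set_option linter.unusedSectionVars false

open Equiv

namespace Cfsg.Homog

variable {α : Type*} [Fintype α] [DecidableEq α]

/-- Moved points of `g` modulo `g`, as two-element sets. -/
abbrev GPair (g : Perm α) : Type _ := {P : Finset α // ∃ a, g a ≠ a ∧ P = {a, g a}}

theorem centralizer_comm {g : Perm α} (w : Subgroup.centralizer ({g} : Set (Perm α))) (x : α) :
    (w : Perm α) (g x) = g ((w : Perm α) x) := by
  have := Subgroup.mem_centralizer_singleton_iff.1 w.2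
  rw [← Perm.mul_apply, this, Perm.mul_apply]

def pairMap {g : Perm α} (w : Subgroup.centralizer ({g} : Set (Perm α))) (P : GPair g) : GPair g :=
  ⟨P.1.image (w : Perm α), by
    obtain ⟨a, ha, e⟩ := P.2
    exact ⟨(w : Perm α) a, fun h => ha ((w : Perm α).injective ((centralizer_comm w a).trans h)),
      by rw [e, Finset.image_insert, Finset.image_singleton, centralizer_comm]⟩⟩

/-- The action on pairs. -/
def pairHom (g : Perm α) : Subgroup.centralizer ({g} : Set (Perm α)) →* Perm (GPair g) :=
  MonoidHom.mk' (fun w =>
    { toFun := pairMap w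
      invFun := pairMap w⁻¹
      left_inv := fun P => Subtype.ext (by simp [pairMap, Finset.image_image])
      right_inv := fun P => Subtype.ext (by simp [pairMap, Finset.image_image]) })
  (fun w w' => Equiv.ext fun P => Subtype.ext (by simp [pairMap, Finset.image_image, Function.comp_def]))

theorem exists_rep {g : Perm α} (P : GPair g) : ∃ a, g a ≠ a ∧ P.1 = {a, g a} := P.2

theorem pairHom_fix_iff {g : Perm α} (w : Subgroup.centralizer ({g} : Set (Perm α))) (P : GPair g) {a : α}
    (hg : ∀ x, g (g x) = x) (hP : P.1 = {a, g a}) :
    pairHom g w P = P ↔ (w : Perm α) a = a ∨ (w : Perm α) a = g a := by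
  have h : (pairHom g w P).1 = {(w : Perm α) a, g ((w : Perm α) a)} := by
    show P.1.image (w : Perm α) = _
    rw [hP, Finset.image_insert, Finset.image_singleton, centralizer_comm]
  constructor
  · intro e
    have h1 : (w : Perm α) a ∈ P.1 := by rw [← congrArg Subtype.val e, h]; simp
    simpa [hP] using h1
  · intro e
    refine Subtype.ext ?_
    rw [h, hP]
    rcases e with e | e <;> rw [e]
    rw [hg]; exact Finset.pair_comm _ _

theorem pairHom_apply_eq {g : Perm α} (w : Subgroup.centralizer ({g} : Set (Perm α))) (P Q : GPair g) {a c : α}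
    (hg : ∀ x, g (g x) = x) (hP : P.1 = {a, g a}) (hQ : Q.1 = {c, g c}) (h : (w : Perm α) a = c ∨ (w : Perm α) a = g c) :
    pairHom g w P = Q := by
  refine Subtype.ext ?_
  show P.1.image (w : Perm α) = _
  rw [hP, hQ, Finset.image_insert, Finset.image_singleton, centralizer_comm]
  rcases h with e | e <;> rw [e]
  rw [hg]; exact Finset.pair_comm _ _

end Cfsg.Homog
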