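import Cfsg.Agent.Homogeneous.FourB
import Cfsg.Agent.Homogeneous.PairAct

/-! A quadruply transitive group inducing exactly the alternating group on every five-set has degree below 8. -/

set_option autoImplicit false
set_option linter.unusedSectionVars false

open Equiv

namespace Cfsg.Homog

variable {α : Type*} [Fintype α] [DecidableEq α]

theorem five_false {G : Subgroup (Perm α)} (hkt : KTrans G 4) (h8 : 8 ≤ Fintype.card α)
    (hA : ∀ Δ : Finset α, Δ.card = 5 → AltOn G Δ)
    (hE : ∀ Δ : Finset α, Δ.card = 5 → ∀ σ ∈ indGroup G Δ, Perm.sign σ = 1) : False := by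
  classical
  have hR : Rigid G := ⟨hkt, fun a b c d x hnd hx g hg hgx => by
    obtain ⟨hgG, ga, gb, gc, gd⟩ := (mem_lifts_swap hnd).1 hg
    have hab : a ≠ b := fun e => by subst e; simp at hnd
    have h1 := hE (insert x (quad a b c d)) (by rw [Finset.card_insert_of_notMem hx, card_quad hnd]) _
      (swap_mem_indGroup (u := a) (v := b) (by simp [quad]) (by simp [quad]) hgG ga gb fun z hz z1 z2 => by
        rcases Finset.mem_insert.1 hz with rfl | hz
        · exact hgx
        rcases mem_quad.1 hz with rfl | rfl | rfl | rfl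
        exacts [absurd rfl z1, absurd rfl z2, gc, gd])
    rw [Perm.sign_swap hab] at h1
    exact absurd h1 (by decide), h8⟩
  obtain ⟨S, -, hS⟩ := Finset.exists_subset_card_eq (s := (Finset.univ : Finset α)) (n := 4) (by rw [Finset.card_univ]; omega)
  obtain ⟨a₀, b₀, x, y, hnd0, -⟩ := exists_quad hS
  obtain ⟨u, huG, huu, ua0, -, ufix⟩ := hR.exists_tlift hnd0
  have hd0 := hnd0
  simp only [List.nodup_cons, List.mem_cons, List.not_mem_nil, or_false, not_or] at hd0
  have hxy : x ≠ y := hd0.2.2.1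
  have u2 : ∀ z, u (u z) = z := fun z => by rw [← Perm.mul_apply, huu, Perm.one_apply]
  have mvx : ∀ {z}, u z ≠ z → z ≠ x ∧ z ≠ y := fun {z} hz =>
    ⟨fun e => hz ((ufix z).2 (Or.inl e)), fun e => hz ((ufix z).2 (Or.inr e))⟩
  have quadnd : ∀ a c, u a ≠ a → u c ≠ c → c ≠ a → c ≠ u a → [a, u a, c, u c].Nodup := by
    intro a c ha hc h1 h2
    have e1 : a ≠ u c := fun e => h2 (by rw [e, u2])
    have e2 : u a ≠ u c := fun e => h1 (u.injective e).symm
    simp [Ne.symm ha, Ne.symm h1, e1, Ne.symm h2, e2, Ne.symm hc]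
  set C := Subgroup.centralizer ({u} : Set (Perm α)) with hC
  have inC : ∀ {w : Perm α}, w * u = u * w → w ∈ C := fun {w} h => Subgroup.mem_centralizer_singleton_iff.2 h
  have hcm : ∀ {w : Perm α}, w ∈ C → ∀ z, w (u z) = u (w z) := fun {w} hw z => centralizer_comm ⟨w, hw⟩ z
  -- normalising a lift of a map of a pair of transpositions into the centraliser
  have adjust : ∀ a c a' c', u a' ≠ a' → u c' ≠ c' → c' ≠ a' → c' ≠ u a' → ∀ w ∈ G, w a = a' → w (u a) = u a' → w c = c' → w (u c) = u c' →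
      ∃ r ∈ G, r ∈ C ∧ r a = a' ∧ r c = c' ∧ (w x = x → r x = x) := by
    intro a c a' c' ha' hc' h1 h2 w hw wa wua wc wuc
    have hd := quadnd a' c' ha' hc' h1 h2
    simp only [List.nodup_cons, List.mem_cons, List.not_mem_nil, or_false, not_or] at hd
    set i := w * u * w⁻¹ with hi
    have hiG : i ∈ G := G.mul_mem (G.mul_mem hw huG) (G.inv_mem hw)
    have hii : i * i = 1 := by
      calc i * i = w * (u * u) * w⁻¹ := by rw [hi]; group
        _ = 1 := by rw [huu]; simp
    have winv : ∀ z z', w z = z' → w⁻¹ z' = z := fun z z' h => by rw [← h]; simp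
    have ia : i a' = u a' := by rw [hi, Perm.mul_apply, Perm.mul_apply, winv a a' wa, wua]
    have iua : i (u a') = a' := by rw [hi, Perm.mul_apply, Perm.mul_apply, winv _ _ wua, u2, wa]
    have ic : i c' = u c' := by rw [hi, Perm.mul_apply, Perm.mul_apply, winv c c' wc, wuc]
    have hodd : Odd (orderOf (u * i)) := hR.odd_order (G.mul_mem huG hiG) hd.1.1 hd.1.2.1 hd.2.1.1
      (by rw [Perm.mul_apply, ia, u2]) (by rw [Perm.mul_apply, iua]) (by rw [Perm.mul_apply, ic, u2])
    obtain ⟨k, hk, hke⟩ := conj_of_odd_mul hii huu hodd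
    obtain ⟨m, rfl⟩ := Subgroup.mem_zpowers_iff.1 hk
    have fixk : ∀ z, (u * i) z = z → ((u * i) ^ m) z = z := fun z hz => Perm.zpow_apply_eq_self_of_apply_eq_self hz m
    refine ⟨(u * i) ^ m * w, G.mul_mem (zpow_mem (G.mul_mem huG hiG) m) hw, inC ?_, ?_, ?_, fun hwx => ?_⟩
    · calc (u * i) ^ m * w * u = ((u * i) ^ m * i * ((u * i) ^ m)⁻¹) * ((u * i) ^ m * w) := by rw [hi]; group
        _ = u * ((u * i) ^ m * w) := by rw [hke]
    · rw [Perm.mul_apply, wa, fixk a' (by rw [Perm.mul_apply, ia, u2])]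
    · rw [Perm.mul_apply, wc, fixk c' (by rw [Perm.mul_apply, ic, u2])]
    · have hux : u x = x := (ufix x).2 (Or.inl rfl)
      have hix : i x = x := by rw [hi, Perm.mul_apply, Perm.mul_apply, winv x x hwx, hux, hwx]
      rw [Perm.mul_apply, hwx, fixk x (by rw [Perm.mul_apply, hix, hux])]
  -- the double transpositions fixing `x`
  have hv : ∀ a c, u a ≠ a → u c ≠ c → c ≠ a → c ≠ u a →
      ∃ v ∈ G, v ∈ C ∧ v * v = 1 ∧ v a = c ∧ v c = a ∧ v x = x ∧ v y = y := by
    intro a c ha hc h1 h2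
    have hnd := quadnd a c ha hc h1 h2
    have hd := hnd
    simp only [List.nodup_cons, List.mem_cons, List.not_mem_nil, or_false, not_or] at hd
    have hua : u (u a) ≠ u a := by rw [u2]; exact Ne.symm ha
    have huc : u (u c) ≠ u c := by rw [u2]; exact Ne.symm hc
    have hxq : x ∉ quad a (u a) c (u c) := by
      simp [quad, (mvx ha).1.symm, (mvx hua).1.symm, (mvx hc).1.symm, (mvx huc).1.symm]
    set σ := swap (u a) (u c) * swap a c with hσ
    obtain ⟨-, w, hw, hwσ⟩ := hA (insert x (quad a (u a) c (u c))) (by rw [Finset.card_insert_of_notMem hxq, card_quad hnd]) σ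
      (fun z hz => by
        simp only [quad, Finset.mem_insert, Finset.mem_singleton, not_or] at hz
        rw [hσ, Perm.mul_apply, swap_apply_of_ne_of_ne hz.2.1 hz.2.2.2.1, swap_apply_of_ne_of_ne hz.2.2.1 hz.2.2.2.2])
      (by rw [hσ, Perm.sign_mul, Perm.sign_swap (fun e => h1 (u.injective e).symm), Perm.sign_swap (Ne.symm h1)]; decide)
    have wx : w x = x := by
      rw [hwσ x (Finset.mem_insert_self _ _), hσ, Perm.mul_apply, swap_apply_of_ne_of_ne (mvx ha).1.symm (mvx hc).1.symm,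
        swap_apply_of_ne_of_ne (mvx hua).1.symm (mvx huc).1.symm]
    have wa : w a = c := by
      rw [hwσ a (by simp [quad]), hσ, Perm.mul_apply, swap_apply_left, swap_apply_of_ne_of_ne h2 (Ne.symm hc)]
    have wc : w c = a := by
      rw [hwσ c (by simp [quad]), hσ, Perm.mul_apply, swap_apply_right,
        swap_apply_of_ne_of_ne (Ne.symm ha) hd.1.2.2]
    have wua : w (u a) = u c := by
      rw [hwσ (u a) (by simp [quad]), hσ, Perm.mul_apply, swap_apply_of_ne_of_ne ha (Ne.symm h2), swap_apply_left]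
    have wuc : w (u c) = u a := by
      rw [hwσ (u c) (by simp [quad]), hσ, Perm.mul_apply, swap_apply_of_ne_of_ne (Ne.symm hd.1.2.2) hc, swap_apply_right]
    obtain ⟨r, hrG, hrC, ra, rc, rx⟩ := adjust a c c a hc ha (Ne.symm h1) hd.1.2.2 w hw wa wua wc wuc
    obtain ⟨v, ⟨m, -, hvm⟩, ⟨j, hj⟩, hag⟩ := exists_two_part r
    have hvG : v ∈ G := hvm ▸ pow_mem hrG m
    have hvC : v ∈ C := hvm ▸ pow_mem hrC m
    have va : v a = c := by rw [hag a (by rw [ra, rc]), ra]
    have vc : v c = a := by rw [hag c (by rw [rc, ra]), rc]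
    have vx : v x = x := by rw [hag x (by rw [rx wx, rx wx]), rx wx]
    have vv : v * v = 1 := hR.two_elt (G.mul_mem hvG hvG) (j := j) (by rw [← pow_two, ← pow_mul, mul_comm, pow_mul, hj, one_pow])
      (Ne.symm h1) (mvx ha).1 (mvx hc).1 (by simp [va, vc]) (by simp [va, vc]) (by simp [vx])
    refine ⟨v, hvG, hvC, vv, va, vc, vx, ?_⟩
    have h3 : u (v y) = v y := by rw [← hcm hvC, (ufix y).2 (Or.inr rfl)]
    exact ((ufix _).1 h3).resolve_left fun e => hxy (v.injective (e.trans vx.symm)).symm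
  -- the four-cycles
  have hh : ∀ a c, u a ≠ a → u c ≠ c → c ≠ a → c ≠ u a →
      ∃ h ∈ G, h ∈ C ∧ h * h = u ∧ ((h a = c ∧ h c = u a) ∨ (h a = u c ∧ h c = a)) := by
    intro a c ha hc h1 h2
    have hua : u (u a) ≠ u a := by rw [u2]; exact Ne.symm ha
    obtain ⟨w, hw, wa, wua, wc, wuc⟩ := hkt.four (quadnd a c ha hc h1 h2)
      (quadnd c (u a) hc hua (Ne.symm h2) (fun e => h1 (u.injective e).symm))
    obtain ⟨r, hrG, hrC, ra, rc, -⟩ := adjust a c c (u a) hc hua (Ne.symm h2) (fun e => h1 (u.injective e).symm) w hw wa wua wc wuc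
    obtain ⟨t, ⟨m, hm, htm⟩, ⟨j, hj⟩, -⟩ := exists_two_part r
    have htG : t ∈ G := htm ▸ pow_mem hrG m
    have htC : t ∈ C := htm ▸ pow_mem hrC m
    have rua : r (u a) = u c := by rw [hcm hrC, ra]
    have r4 : ∀ q, (r ^ (4 * q)) a = a ∧ (r ^ (4 * q)) c = c := fun q => by
      have e1 : (r ^ 4) a = a := by simp only [pow_succ, pow_zero, one_mul, Perm.mul_apply]; rw [ra, rc, rua, hcm hrC, rc, u2]
      have e2 : (r ^ 4) c = c := by simp only [pow_succ, pow_zero, one_mul, Perm.mul_apply]; rw [rc, rua, hcm hrC, rc, u2, ra]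
      exact ⟨by rw [pow_mul]; exact Perm.pow_apply_eq_self_of_apply_eq_self e1 q,
        by rw [pow_mul]; exact Perm.pow_apply_eq_self_of_apply_eq_self e2 q⟩
    have tval : (t a = c ∧ t c = u a) ∨ (t a = u c ∧ t c = a) := by
      obtain ⟨q, rfl⟩ := hm
      rcases Nat.even_or_odd q with ⟨s, hs⟩ | ⟨s, hs⟩
      · left
        rw [htm, show 2 * q + 1 = 1 + 4 * s by omega, pow_add, Perm.mul_apply, Perm.mul_apply, (r4 s).1, (r4 s).2, pow_one]
        exact ⟨ra, rc⟩
      · right
        rw [htm, show 2 * q + 1 = 3 + 4 * s by omega, pow_add, Perm.mul_apply, Perm.mul_apply, (r4 s).1, (r4 s).2]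
        simp only [pow_succ, pow_zero, one_mul, Perm.mul_apply]
        constructor
        · rw [ra, rc, rua]
        · rw [rc, rua, hcm hrC, rc, u2]
    have tt : t * t = u := by
      have hc' : Commute (t * t) u := by
        have := Subgroup.mem_centralizer_singleton_iff.1 htC
        exact (show Commute t u from this).mul_left this
      have tta : t (t a) = u a := by
        rcases tval with ⟨e1, e2⟩ | ⟨e1, e2⟩
        · rw [e1, e2]
        · rw [e1, hcm htC, e2]
      have ttc : t (t c) = u c := by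
        rcases tval with ⟨e1, e2⟩ | ⟨e1, e2⟩
        · rw [e2, hcm htC, e1]
        · rw [e2, e1]
      have key := hR.two_elt (G.mul_mem (G.mul_mem htG htG) huG) (j := j + 1) (by
          rw [hc'.mul_pow, ← pow_two, ← pow_mul, show 2 * 2 ^ (j + 1) = 2 ^ j * 4 by ring, pow_mul, hj, one_pow, one_mul,
            pow_succ', pow_mul, pow_two, huu, one_pow])
        (Ne.symm ha) (Ne.symm h1) (Ne.symm h2)
        (by rw [Perm.mul_apply, Perm.mul_apply, hcm htC, hcm htC, tta, u2]) (by rw [Perm.mul_apply, Perm.mul_apply, u2]; exact tta)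
        (by rw [Perm.mul_apply, Perm.mul_apply, hcm htC, hcm htC, ttc, u2])
      exact (eq_inv_of_mul_eq_one_left key).trans (inv_eq_of_mul_eq_one_right huu)
    exact ⟨t, htG, htC, tt, tval⟩
  -- signs on the pairs
  set φ := pairHom u with hφ
  let pr : ∀ a, u a ≠ a → GPair u := fun a ha => ⟨{a, u a}, a, ha, rfl⟩
  have pr_rep : ∀ P : GPair u, ∃ a ha, P = pr a ha := by
    rintro ⟨P, a, ha, rfl⟩; exact ⟨a, ha, rfl⟩
  set p := Fintype.card (GPair u) with hp
  have sfree : ∀ w : C, (φ w) * (φ w) = 1 → (∀ z, u z ≠ z → (w : Perm α) z ≠ z ∧ (w : Perm α) z ≠ u z) →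
      Perm.sign (φ w) = (-1) ^ (p / 2) ∧ Even p := by
    intro w hww hf
    have hsupp : (φ w).support = Finset.univ := by
      ext P
      simp only [Perm.mem_support, Finset.mem_univ, iff_true]
      obtain ⟨z, hz, rfl⟩ := pr_rep P
      rw [Ne, pairHom_fix_iff w _ u2 (a := z) rfl]
      exact fun e => e.elim (hf z hz).1 (hf z hz).2
    refine ⟨?_, ?_⟩
    · rw [sign_of_sq_eq_one hww, hsupp, Finset.card_univ]
    · have := even_support_of_sq_eq_one hww
      rwa [hsupp, Finset.card_univ] at this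
  have φu : ∀ h : u ∈ C, φ ⟨u, h⟩ = 1 := fun h => Equiv.ext fun P => by
    obtain ⟨z, hz, rfl⟩ := pr_rep P
    exact (pairHom_fix_iff _ _ u2 rfl).2 (Or.inr rfl)
  have huC : u ∈ C := inC rfl
  -- sign of the double transpositions
  have main : ∀ a c, u a ≠ a → u c ≠ c → c ≠ a → c ≠ u a → ∃ v, ∃ hvC : v ∈ C, v ∈ G ∧ v x = x ∧
      v a = c ∧ v c = a ∧ Perm.sign (φ ⟨v, hvC⟩) = -1 := by
    intro a c ha hc h1 h2
    have hd := quadnd a c ha hc h1 h2
    simp only [List.nodup_cons, List.mem_cons, List.not_mem_nil, or_false, not_or] at hd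
    obtain ⟨v, hvG, hvC, vv, va, vc, vx, vy⟩ := hv a c ha hc h1 h2
    obtain ⟨h, hhG, hhC, hhh, hval⟩ := hh a c ha hc h1 h2
    have vuv : (u * v) * (u * v) = 1 := by
      have e : v * u = u * v := Subgroup.mem_centralizer_singleton_iff.1 hvC
      calc (u * v) * (u * v) = u * (v * u) * v := by group
        _ = u * u * (v * v) := by rw [e]; group
        _ = 1 := by rw [huu, vv, mul_one]
    obtain ⟨sv, pe⟩ := sfree ⟨v, hvC⟩ (by rw [← map_mul, show (⟨v, hvC⟩ : C) * ⟨v, hvC⟩ = 1 from Subtype.ext vv, map_one])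
      (fun z hz => ⟨fun e => by
          have := hR.three_fix hvG vv (Ne.symm hxy).symm (mvx hz).1.symm (mvx hz).2.symm vx vy e
          rw [this, Perm.one_apply] at va; exact h1 va.symm,
        fun e => by
          have := hR.three_fix (G.mul_mem huG hvG) vuv (Ne.symm hxy).symm (mvx hz).1.symm (mvx hz).2.symm
            (by rw [Perm.mul_apply, vx, (ufix x).2 (Or.inl rfl)]) (by rw [Perm.mul_apply, vy, (ufix y).2 (Or.inr rfl)])
            (by rw [Perm.mul_apply]; exact (congrArg u e).trans (u2 z))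
          have e2 := congrArg (fun f : Perm α => f a) this
          simp only [Perm.mul_apply, va, Perm.one_apply] at e2
          exact h2 (by rw [← e2, u2])⟩)
    obtain ⟨sh, -⟩ := sfree ⟨h, hhC⟩ (by rw [← map_mul, show (⟨h, hhC⟩ : C) * ⟨h, hhC⟩ = ⟨u, huC⟩ from Subtype.ext hhh, φu])
      (fun z hz => ⟨fun e => hz (by rw [← hhh, Perm.mul_apply, e, e]),
        fun e => hz (by rw [← hhh, Perm.mul_apply] ; simp only at e; rw [e, hcm hhC, e, u2])⟩)
    obtain ⟨t, ⟨m, hm, htm⟩, ⟨j, hj⟩, hag⟩ := exists_two_part (h * v)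
    have hhvC : h * v ∈ C := C.mul_mem hhC hvC
    have htC : t ∈ C := htm ▸ pow_mem hhvC m
    have htG : t ∈ G := htm ▸ pow_mem (G.mul_mem hhG hvG) m
    -- the values on the quadruple
    obtain ⟨b, b', hb, hb', hbb, tb, tub, tb', tub'⟩ : ∃ b b', u b ≠ b ∧ u b' ≠ b' ∧ (b' ≠ b ∧ b' ≠ u b) ∧
        t b = u b ∧ t (u b) = b ∧ t b' = b' ∧ t (u b') = u b' := by
      rcases hval with ⟨e1, e2⟩ | ⟨e1, e2⟩
      · have x1 : (h * v) a = u a := by rw [Perm.mul_apply, va, e2]
        have x2 : (h * v) c = c := by rw [Perm.mul_apply, vc, e1]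
        have x3 : (h * v) (u a) = a := by rw [hcm hhvC, x1, u2]
        have x4 : (h * v) (u c) = u c := by rw [hcm hhvC, x2]
        exact ⟨a, c, ha, hc, ⟨h1, h2⟩, by rw [hag a (by rw [x1, x3]), x1], by rw [hag (u a) (by rw [x3, x1]), x3],
          by rw [hag c (by rw [x2, x2]), x2], by rw [hag (u c) (by rw [x4, x4]), x4]⟩
      · have x1 : (h * v) a = a := by rw [Perm.mul_apply, va, e2]
        have x2 : (h * v) c = u c := by rw [Perm.mul_apply, vc, e1]
        have x3 : (h * v) (u a) = u a := by rw [hcm hhvC, x1]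
        have x4 : (h * v) (u c) = c := by rw [hcm hhvC, x2, u2]
        exact ⟨c, a, hc, ha, ⟨Ne.symm h1, hd.1.2.2⟩, by rw [hag c (by rw [x2, x4]), x2], by rw [hag (u c) (by rw [x4, x2]), x4],
          by rw [hag a (by rw [x1, x1]), x1], by rw [hag (u a) (by rw [x3, x3]), x3]⟩
    have tt : t * t = 1 := hR.two_elt (G.mul_mem htG htG) (j := j) (by rw [← pow_two, ← pow_mul, mul_comm, pow_mul, hj, one_pow])
      (Ne.symm hb) (Ne.symm hbb.1) (Ne.symm hbb.2) (by simp [tb, tub]) (by simp [tb, tub]) (by simp [tb'])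
    have tut : (u * t) * (u * t) = 1 := by
      have e : t * u = u * t := Subgroup.mem_centralizer_singleton_iff.1 htC
      calc (u * t) * (u * t) = u * (t * u) * t := by group
        _ = u * u * (t * t) := by rw [e]; group
        _ = 1 := by rw [huu, tt, mul_one]
    have tsq : φ ⟨t, htC⟩ * φ ⟨t, htC⟩ = 1 := by rw [← map_mul, show (⟨t, htC⟩ : C) * ⟨t, htC⟩ = 1 from Subtype.ext tt, map_one]
    have hsupp : (φ ⟨t, htC⟩).support = Finset.univ \ {pr b hb, pr b' hb'} := by
      ext P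
      obtain ⟨z, hz, rfl⟩ := pr_rep P
      simp only [Perm.mem_support, Finset.mem_sdiff, Finset.mem_univ, true_and, Finset.mem_insert, Finset.mem_singleton, not_or]
      constructor
      · intro hm'
        constructor <;> intro e <;> apply hm' <;> rw [e]
        · exact (pairHom_fix_iff _ _ u2 rfl).2 (Or.inr tb)
        · exact (pairHom_fix_iff _ _ u2 rfl).2 (Or.inl tb')
      · rintro ⟨n1, n2⟩ e
        have hne : ∀ w hw, pr z hz ≠ pr w hw → z ≠ w ∧ z ≠ u w := fun w hw hn =>
          ⟨fun e' => hn (Subtype.ext (by show ({z, u z} : Finset α) = _; rw [e'])),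
           fun e' => hn (Subtype.ext (by show ({z, u z} : Finset α) = _; rw [e', u2]; exact Finset.pair_comm _ _))⟩
        rcases (pairHom_fix_iff _ _ u2 rfl).1 e with e' | e'
        · have := hR.three_fix htG tt (Ne.symm hb') (hne b' hb' n2).1.symm (hne b' hb' n2).2.symm tb' tub' e'
          rw [this, Perm.one_apply] at tb
          exact hb tb.symm
        · have := hR.three_fix (G.mul_mem huG htG) tut (Ne.symm hb) (hne b hb n1).1.symm (hne b hb n1).2.symm
            (by rw [Perm.mul_apply, tb, u2]) (by rw [Perm.mul_apply, tub]) (by rw [Perm.mul_apply]; simp only at e'; rw [e', u2])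
          have e2 := congrArg (fun f : Perm α => f b') this
          simp only [Perm.mul_apply, tb', Perm.one_apply] at e2
          exact hb' e2
    have hne' : pr b hb ≠ pr b' hb' := fun e => by
      have h3 : b' ∈ ({b, u b} : Finset α) := by
        rw [show ({b, u b} : Finset α) = {b', u b'} from congrArg Subtype.val e]; simp
      simp [hbb.1, hbb.2] at h3
    have st : Perm.sign (φ ⟨t, htC⟩) = (-1) ^ ((p - 2) / 2) := by
      rw [sign_of_sq_eq_one tsq, hsupp, Finset.card_sdiff_of_subset (Finset.subset_univ _), Finset.card_univ, Finset.card_pair hne']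
    have st' : Perm.sign (φ ⟨t, htC⟩) = 1 := by
      rw [show (⟨t, htC⟩ : C) = ⟨h * v, hhvC⟩ ^ m from Subtype.ext htm, map_pow, map_pow,
        show (⟨h * v, hhvC⟩ : C) = ⟨h, hhC⟩ * ⟨v, hvC⟩ from rfl, map_mul, Perm.sign_mul, sh, sv, Int.units_mul_self, one_pow]
    refine ⟨v, hvC, hvG, vx, va, vc, ?_⟩
    rw [sv]
    have hp2 : 2 ≤ p := by
      have := Fintype.one_lt_card_iff.2 ⟨_, _, hne'⟩
      omega
    rw [show p / 2 = (p - 2) / 2 + 1 by omega, pow_succ, ← st, st', one_mul]
  -- three pairs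
  obtain ⟨a, ha⟩ : ∃ a, u a ≠ a := ⟨a₀, fun e => hd0.1.1 (e.symm.trans ua0)⟩
  obtain ⟨c, hc⟩ := Finset.card_pos.1 (show 0 < (Finset.univ \ quad x y a (u a)).card by
    have := Finset.le_card_sdiff (quad x y a (u a)) (Finset.univ : Finset α)
    have : (quad x y a (u a)).card ≤ 4 := Finset.card_le_four
    rw [Finset.card_univ] at *
    omega)
  obtain ⟨e, he⟩ := Finset.card_pos.1 (show 0 < (Finset.univ \ (quad x y a (u a) ∪ {c, u c})).card by
    have := Finset.le_card_sdiff (quad x y a (u a) ∪ {c, u c}) (Finset.univ : Finset α)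
    have := Finset.card_union_le (quad x y a (u a)) {c, u c}
    have : (quad x y a (u a)).card ≤ 4 := Finset.card_le_four
    have : ({c, u c} : Finset α).card ≤ 2 := Finset.card_le_two
    rw [Finset.card_univ] at *
    omega)
  simp only [quad, Finset.mem_sdiff, Finset.mem_univ, true_and, Finset.mem_union, Finset.mem_insert, Finset.mem_singleton, not_or] at hc he
  have hcm' : u c ≠ c := fun e' => ((ufix c).1 e').elim hc.1 hc.2.1
  have hem : u e ≠ e := fun e' => ((ufix e).1 e').elim he.1.1 he.1.2.1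
  obtain ⟨v1, v1C, v1G, v1x, v1a, -, s1⟩ := main a c ha hcm' hc.2.2.1 hc.2.2.2
  obtain ⟨v2, v2C, v2G, v2x, v2c, -, s2⟩ := main c e hcm' hem he.2.1 he.2.2
  obtain ⟨v3, v3C, v3G, v3x, -, v3e, s3⟩ := main a e ha hem he.1.2.2.1 he.1.2.2.2
  set d : C := ⟨v3, v3C⟩ * (⟨v2, v2C⟩ * ⟨v1, v1C⟩) with hd
  have da : (d : Perm α) a = a := by
    show v3 (v2 (v1 a)) = a
    rw [v1a, v2c, v3e]
  have dx : (d : Perm α) x = x := by
    show v3 (v2 (v1 x)) = x
    rw [v1x, v2x, v3x]
  have ds : Perm.sign (φ d) = -1 := by rw [hd, map_mul φ, map_mul φ, Perm.sign_mul, Perm.sign_mul, s1, s2, s3]; rfl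
  have dG : (d : Perm α) ∈ G := G.mul_mem v3G (G.mul_mem v2G v1G)
  obtain ⟨t, ⟨m, hm, htm⟩, ⟨j, hj⟩, -⟩ := exists_two_part (d : Perm α)
  have fx : ∀ z, (d : Perm α) z = z → t z = z := fun z hz => htm ▸ Perm.pow_apply_eq_self_of_apply_eq_self hz m
  have h1 : t = 1 := hR.two_elt (htm ▸ pow_mem dG m) hj (Ne.symm ha) (mvx ha).1
    (mvx (show u (u a) ≠ u a by rw [u2]; exact Ne.symm ha)).1 (fx a da) (fx _ (by rw [hcm d.2, da])) (fx x dx)
  have : d ^ m = 1 := Subtype.ext (by rw [Subgroup.coe_pow, ← htm, h1]; rfl)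
  have h2 := congrArg Perm.sign (congrArg φ this)
  rw [map_pow, map_pow, ds, hm.neg_one_pow, map_one, Perm.sign_one] at h2
  exact absurd h2 (by decide)

end Cfsg.Homog
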