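import Cfsg.Agent.Homogeneous.Seven

/-! The case `k = 5`. -/

set_option autoImplicit false
set_option linter.unusedSectionVars false

open Equiv

namespace Cfsg.Homog

set_option synthInstance.maxSize 2000 in
/-- Subgroups of order 6 in `S₄` contain no double transposition. -/
theorem six_no_dt (a c : Perm (Fin 4)) : a * a = 1 → a ≠ 1 → Perm.sign a = 1 → c * c * c = 1 → c ≠ 1 →
    ({1, a, c, c * c, a * c, a * (c * c), c * a * (c * c)} : Finset (Perm (Fin 4))).card = 7 := by
  revert a c
  decide +kernel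

set_option synthInstance.maxSize 2000 in
theorem inv_cases (π : Perm (Fin 4)) : π * π = 1 → π ≠ 1 → Perm.sign π ≠ 1 →
    ∃ i j : Fin 4, i ≠ j ∧ π i = i ∧ π j = j := by
  revert π
  decide +kernel

theorem swap_even_false {D : Subgroup (Perm (Fin 4))} (h12 : Nat.card D = 12) {π : Perm (Fin 4)} (hπ : π ∈ D) : Perm.sign π = 1 := by
  have hmul := D.card_mul_index
  rw [h12, Nat.card_perm, Nat.card_fin] at hmul
  rw [Perm.eq_alternatingGroup_of_index_eq_two (show D.index = 2 by simp [Nat.factorial] at hmul; omega)] at hπ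
  exact hπ

theorem six_false' {D : Subgroup (Perm (Fin 4))} (h6 : Nat.card D = 6) {a : Perm (Fin 4)} (ha : a ∈ D)
    (haa : a * a = 1) (ha1 : a ≠ 1) (has : Perm.sign a = 1) : False := by
  classical
  have : Fact (Nat.Prime 3) := ⟨Nat.prime_three⟩
  obtain ⟨⟨c, hc⟩, hco⟩ := exists_prime_orderOf_dvd_card' 3 (by rw [h6]; decide : 3 ∣ Nat.card D)
  rw [Subgroup.orderOf_mk] at hco
  have hc3 : c * c * c = 1 := by
    have := hco ▸ pow_orderOf_eq_one c
    rwa [pow_succ, pow_two] at this
  have hc1 : c ≠ 1 := fun e => by rw [e, orderOf_one] at hco; omega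
  have h7 := six_no_dt a c haa ha1 has hc3 hc1
  have hle : ({1, a, c, c * c, a * c, a * (c * c), c * a * (c * c)} : Finset (Perm (Fin 4))).card ≤ Nat.card D := by
    rw [Nat.card_eq_fintype_card, ← Finset.card_univ, ← Finset.card_image_of_injective _ (Subtype.val_injective (p := (· ∈ D)))]
    refine Finset.card_le_card fun x hx => ?_
    simp only [Finset.mem_insert, Finset.mem_singleton] at hx
    have m2 := D.mul_mem hc hc
    refine Finset.mem_image.2 ⟨⟨x, ?_⟩, Finset.mem_univ _, rfl⟩
    rcases hx with rfl | rfl | rfl | rfl | rfl | rfl | rfl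
    exacts [D.one_mem, ha, hc, m2, D.mul_mem ha hc, D.mul_mem ha m2, D.mul_mem (D.mul_mem hc ha) m2]
  omega

theorem swap_mem_of_card_eight {D : Subgroup (Perm (Fin 4))} (h8 : Nat.card D = 8) : ∃ i j : Fin 4, i ≠ j ∧ swap i j ∈ D := by
  classical
  have : Fact (Nat.Prime 2) := ⟨Nat.prime_two⟩
  let P : Sylow 2 (Perm (Fin 4)) := Sylow.ofCard D (by
    rw [h8, Nat.card_perm, Nat.card_fin,
      Nat.factorization_def _ Nat.prime_two]
    have : (Nat.factorial 4) = 2 ^ 3 * 3 := by decide
    rw [this, padicValNat.mul (by norm_num) (by norm_num), padicValNat.prime_pow, padicValNat.eq_zero_of_not_dvd (by norm_num)]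
    rfl)
  obtain ⟨R, hR⟩ := (IsPGroup.of_card (n := 1) (show Nat.card (Subgroup.zpowers (swap (0 : Fin 4) 1)) = 2 ^ 1 by
    rw [Nat.card_zpowers, pow_one]; exact orderOf_eq_prime (by decide) (by decide))).exists_le_sylow
  obtain ⟨g, hg⟩ := MulAction.exists_smul_eq (Perm (Fin 4)) R P
  refine ⟨g 0, g 1, fun e => absurd (g.injective e) (by decide), ?_⟩
  rw [swap_apply_apply]
  have : g * swap 0 1 * g⁻¹ ∈ (P : Subgroup (Perm (Fin 4))) := by
    rw [← hg, Sylow.coe_subgroup_smul]
    exact ⟨swap 0 1, hR (Subgroup.mem_zpowers _), rfl⟩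
  exact this

variable {α : Type*} [Fintype α] [DecidableEq α] {G : Subgroup (Perm α)}

theorem vec4_injective {β : Type*} {a b c d : β} (h : [a, b, c, d].Nodup) : Function.Injective ![a, b, c, d] := by
  simp only [List.nodup_cons, List.mem_cons, List.not_mem_nil, or_false, not_or, List.nodup_nil, and_true] at h
  obtain ⟨⟨h1, h2, h3⟩, ⟨h4, h5⟩, h6, -⟩ := h
  intro i j hij
  fin_cases i <;> fin_cases j <;>
    simp [h1, h2, h3, h4, h5, h6, Ne.symm h1, Ne.symm h2, Ne.symm h3, Ne.symm h4, Ne.symm h5, Ne.symm h6] at hij ⊢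

theorem case_list : ∀ d ∈ [1, 2, 3, 4, 6, 8, 12], ∀ m < 61, 2 ≤ m → m ∣ 5 * d → 5 * d / m ∣ 120 → 24 ∣ (m + 1) * d →
    (d, m + 4) ∈ [(3, 19), (4, 9), (6, 7), (6, 19), (8, 6), (8, 9), (8, 12), (8, 24), (12, 7), (12, 9), (12, 19)] := by
  decide +kernel

theorem five_case (h3 : KTrans G 3) (hn4 : ¬ KTrans G 4) (hset4 : SetTrans G 4) (hset5 : SetTrans G 5)
    (hreg : Semireg G 3) (hn : 6 ≤ Fintype.card α) :
    (Fintype.card α = 6 ∧ Nat.card G = 120) ∨ (Fintype.card α = 9 ∧ (Nat.card G = 504 ∨ Nat.card G = 1512)) := by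
  classical
  obtain ⟨e⟩ : Nonempty (Fin 4 ↪ α) := Function.Embedding.nonempty_of_card_le (by rw [Fintype.card_fin]; omega)
  obtain ⟨e'⟩ : Nonempty (Fin 5 ↪ α) := Function.Embedding.nonempty_of_card_le (by rw [Fintype.card_fin]; omega)
  have hfaith : ∀ g ∈ G, ∀ S : Finset α, 4 ≤ S.card → (∀ x ∈ S, g x = x) → g = 1 :=
    fun g hg S hS h => hreg g hg S (by omega) h
  have hord := card_eq_choose_mul hset4 hfaith e
  have hrel := indFin_card_rel (j := 4) (by omega) hset4 hset5 hfaith e e'
  obtain ⟨L, hL⟩ := h3.descFactorial_dvd (by omega)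
  have hdT : ∀ T : Fin 4 ↪ α, Nat.card (indFin G T) = Nat.card (indFin G e) := fun T => by
    have hT := card_eq_choose_mul hset4 hfaith T
    rw [hord] at hT
    exact (Nat.eq_of_mul_eq_mul_left (Nat.choose_pos (by omega)) hT).symm
  have hd24 : Nat.card (indFin G e) ∣ 24 := by
    have := Subgroup.card_subgroup_dvd_card (indFin G e)
    rwa [Nat.card_perm, Nat.card_fin] at this
  have hd5 : Nat.card (indFin G e') ∣ 120 := by
    have := Subgroup.card_subgroup_dvd_card (indFin G e')
    rwa [Nat.card_perm, Nat.card_fin] at this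
  have hdlt : Nat.card (indFin G e) ≠ 24 := fun h24 => by
    refine hn4 (kTrans_of_symOn (by omega) hset4 (Δ := Finset.univ.map e) (by simp) (symOn_of_indFin_top e ?_))
    refine Subgroup.eq_top_of_card_eq _ ?_
    rw [h24, Nat.card_perm, Nat.card_fin]; rfl
  set n := Fintype.card α with hn'
  set d := Nat.card (indFin G e) with hd
  have hL24 : (n - 3) * d = 24 * L := by
    have h4 : 24 * n.choose 4 = n.descFactorial 4 := by rw [Nat.descFactorial_eq_factorial_mul_choose]; rfl
    have h4' : n.descFactorial 4 = (n - 3) * n.descFactorial 3 := Nat.descFactorial_succ n 3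
    have hpos : 0 < n.descFactorial 3 := Nat.descFactorial_pos.2 (by omega)
    refine Nat.eq_of_mul_eq_mul_left hpos ?_
    calc n.descFactorial 3 * ((n - 3) * d) = 24 * n.choose 4 * d := by rw [h4, h4']; ring
      _ = 24 * Nat.card G := by rw [hord]; ring
      _ = _ := by rw [hL]; ring
  have hdmem : d ∈ [1, 2, 3, 4, 6, 8, 12] := by
    have h1 := Nat.le_of_dvd (by norm_num) hd24
    interval_cases d <;> first | decide | omega
  have hm := case_list d hdmem (n - 4)
    (by
      have h1 : n - 4 ≤ (4 + 1) * d := Nat.le_of_dvd (Nat.mul_pos (by norm_num) (by rcases Nat.eq_zero_or_pos d with h | h; (· simp [h] at hd24); exact h))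
        ⟨_, by rw [← hrel]; ring⟩
      have h2 : d ≤ 12 := by
        have := Nat.le_of_dvd (by norm_num) hd24
        interval_cases d <;> omega
      omega)
    (by omega) ⟨Nat.card (indFin G e'), by rw [show 5 * d = (4 + 1) * d from rfl, ← hrel]; ring⟩
    (by
      rw [show 5 * d = (4 + 1) * d from rfl, ← hrel, Nat.mul_div_cancel _ (by omega)]
      exact hd5)
    ⟨L, by rw [← hL24, show n - 4 + 1 = n - 3 by omega]⟩
  rw [show n - 4 + 4 = n by omega] at hm
  -- elements of the pointwise stabiliser of three points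
  obtain ⟨x⟩ : Nonempty (Fin 3 ↪ α) := Function.Embedding.nonempty_of_card_le (by rw [Fintype.card_fin]; omega)
  have mk : ∀ (T : Fin 4 ↪ α) (π : Perm (Fin 4)), (∃ g ∈ G, ∀ i, g (T i) = T (π i)) → π ∈ indFin G T :=
    fun T π h => mem_indFin.2 h
  have fix3 : ∀ g ∈ G, g ≠ 1 → ∀ T : Finset α, (∀ v ∈ T, g v = v) → T.card ≤ 3 := fun g hg hg1 T hT => by
    by_contra hc
    exact hg1 (hfaith g hg T (by omega) hT)
  have twopairs : ∀ g ∈ G, g * g = 1 → ∀ a c, g a ≠ a → g c ≠ c → c ≠ a → c ≠ g a →
      ∃ T : Fin 4 ↪ α, swap (0 : Fin 4) 1 * swap 2 3 ∈ indFin G T := by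
    intro g hg hgg a c ha hc h1 h2
    have g2 : ∀ v, g (g v) = v := fun v => by rw [← Perm.mul_apply, hgg, Perm.one_apply]
    have hnd : [a, g a, c, g c].Nodup := by
      have e1 : a ≠ g c := fun e0 => h2 (by rw [e0, g2])
      have e2 : g a ≠ g c := fun e0 => h1 (g.injective e0).symm
      simp [Ne.symm ha, Ne.symm h1, e1, Ne.symm h2, e2, Ne.symm hc]
    refine ⟨⟨![a, g a, c, g c], vec4_injective hnd⟩, mk _ _ ⟨g, hg, fun i => ?_⟩⟩
    fin_cases i
    · rfl
    · exact g2 a
    · rfl
    · exact g2 c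
  have even_inv : 2 ∣ L → (∃ T : Fin 4 ↪ α, swap (2 : Fin 4) 3 ∈ indFin G T) ∧
      (7 ≤ n → ∃ T : Fin 4 ↪ α, swap (0 : Fin 4) 1 * swap 2 3 ∈ indFin G T) := by
    intro h2L
    have : Fact (Nat.Prime 2) := ⟨Nat.prime_two⟩
    obtain ⟨z, hzG, hz2, hzx⟩ := exists_fix_order h3 (by omega) hL h2L x
    have hzz : z * z = 1 := by rw [← pow_two, ← hz2]; exact pow_orderOf_eq_one z
    have hz1 : z ≠ 1 := fun h0 => by rw [h0, orderOf_one] at hz2; omega
    obtain ⟨v, hv⟩ : ∃ v, z v ≠ v := not_forall.1 fun h0 => hz1 (Perm.ext h0)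
    have g2 : ∀ v, z (z v) = v := fun v => by rw [← Perm.mul_apply, hzz, Perm.one_apply]
    have hne : ∀ i, x i ≠ v ∧ x i ≠ z v := fun i => ⟨fun h0 => hv (h0 ▸ hzx i), fun h0 => hv (z.injective (h0 ▸ hzx i))⟩
    refine ⟨⟨⟨![x 0, x 1, v, z v], vec4_injective (by
        simp [x.injective.ne (show (0 : Fin 3) ≠ 1 by decide), (hne 0).1, (hne 0).2, (hne 1).1, (hne 1).2, Ne.symm hv])⟩,
      mk _ _ ⟨z, hzG, fun i => by
        fin_cases i
        · exact hzx 0
        · exact hzx 1
        · rfl
        · exact g2 v⟩⟩, fun h7 => ?_⟩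
    have hfle := fix3 z hzG hz1 (Finset.univ.filter fun w => z w = w) (fun w hw => (Finset.mem_filter.1 hw).2)
    have hsum := card_fix_add_card_support z
    obtain ⟨c, hc, hc'⟩ := Finset.exists_mem_notMem_of_card_lt_card (t := z.support) (s := {v, z v})
      (lt_of_le_of_lt Finset.card_le_two (by omega))
    simp only [Finset.mem_insert, Finset.mem_singleton, not_or] at hc'
    exact twopairs z hzG hzz v c hv (Perm.mem_support.1 hc) hc'.1 hc'.2
  have swapsign : ∀ i j : Fin 4, i ≠ j → Perm.sign (swap i j) = -1 := fun i j h => Perm.sign_swap h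
  simp only [List.mem_cons, List.not_mem_nil, or_false, Prod.mk.injEq] at hm
  rcases hm with ⟨hdd, hnn⟩ | ⟨hdd, hnn⟩ | ⟨hdd, hnn⟩ | ⟨hdd, hnn⟩ | ⟨hdd, hnn⟩ | ⟨hdd, hnn⟩ | ⟨hdd, hnn⟩ |
    ⟨hdd, hnn⟩ | ⟨hdd, hnn⟩ | ⟨hdd, hnn⟩ | ⟨hdd, hnn⟩ <;> rw [hdd, hnn] at hL24
  · -- (3,19)
    exfalso
    obtain ⟨T, hT⟩ := (even_inv ⟨1, by omega⟩).1
    have := Subgroup.orderOf_dvd_natCard _ hT
    rw [hdT, hdd, orderOf_eq_prime (p := 2) (by decide) (by decide)] at this
    omega
  · exact Or.inr ⟨hnn, Or.inl (by rw [hord, hdd, hnn]; rfl)⟩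
  · -- (6,7)
    exfalso
    have : Fact (Nat.Prime 2) := ⟨Nat.prime_two⟩
    obtain ⟨⟨π, hπ⟩, hπo⟩ := exists_prime_orderOf_dvd_card' 2 (by rw [← hd, hdd]; decide : 2 ∣ Nat.card (indFin G e))
    rw [Subgroup.orderOf_mk] at hπo
    have hππ : π * π = 1 := by rw [← pow_two, ← hπo]; exact pow_orderOf_eq_one π
    have hπ1 : π ≠ 1 := fun h0 => by rw [h0, orderOf_one] at hπo; omega
    by_cases hs : Perm.sign π = 1
    · exact six_false' (hdT e ▸ hdd : Nat.card (indFin G e) = 6) hπ hππ hπ1 hs
    obtain ⟨i, j, hij, hi, hj⟩ := inv_cases π hππ hπ1 hs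
    obtain ⟨g, hg, hgπ⟩ := mem_indFin.1 hπ
    have hgg : g * g = 1 := hfaith _ (G.mul_mem hg hg) (Finset.univ.map e) (by simp) fun v hv => by
      obtain ⟨r, -, rfl⟩ := Finset.mem_map.1 hv
      rw [Perm.mul_apply, hgπ, hgπ, ← Perm.mul_apply, hππ, Perm.one_apply]
    have hg1 : g ≠ 1 := fun h0 => hπ1 (Equiv.ext fun r => e.injective (by rw [← hgπ r, h0]; rfl))
    have hfle := fix3 g hg hg1 (Finset.univ.filter fun w => g w = w) (fun w hw => (Finset.mem_filter.1 hw).2)
    have hf2 : 2 ≤ (Finset.univ.filter fun w => g w = w).card := by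
      refine (Finset.card_pair (e.injective.ne hij)).ge.trans (Finset.card_le_card fun w hw => ?_)
      simp only [Finset.mem_insert, Finset.mem_singleton] at hw
      simp only [Finset.mem_filter, Finset.mem_univ, true_and]
      rcases hw with rfl | rfl
      · rw [hgπ, hi]
      · rw [hgπ, hj]
    have hsum := card_fix_add_card_support g
    obtain ⟨r, hr⟩ := even_support_of_sq_eq_one hgg
    obtain ⟨a, ha⟩ := Finset.card_pos.1 (show 0 < g.support.card by omega)
    obtain ⟨c, hc, hc'⟩ := Finset.exists_mem_notMem_of_card_lt_card (t := g.support) (s := {a, g a})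
      (lt_of_le_of_lt Finset.card_le_two (by omega))
    simp only [Finset.mem_insert, Finset.mem_singleton, not_or] at hc'
    obtain ⟨T, hT⟩ := twopairs g hg hgg a c (Perm.mem_support.1 ha) (Perm.mem_support.1 hc) hc'.1 hc'.2
    exact six_false' ((hdT T).trans hdd) hT (by decide) (by decide) (by decide)
  · -- (6,19)
    exfalso
    obtain ⟨T, hT⟩ := (even_inv ⟨2, by omega⟩).2 (by omega)
    exact six_false' ((hdT T).trans hdd) hT (by decide) (by decide) (by decide)
  · exact Or.inl ⟨hnn, by rw [hord, hdd, hnn]; rfl⟩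
  · -- (8,9)
    exfalso
    exact nine_false h3 hreg hnn hL ⟨1, by omega⟩
  · -- (8,12)
    exfalso
    have : Fact (Nat.Prime 3) := ⟨Nat.prime_three⟩
    obtain ⟨z, hzG, hz3, hzx⟩ := exists_fix_order h3 (by omega) hL (p := 3) ⟨1, by omega⟩ x
    have hz1 : z ≠ 1 := fun h0 => by rw [h0, orderOf_one] at hz3; omega
    obtain ⟨v, hv⟩ : ∃ v, z v ≠ v := not_forall.1 fun h0 => hz1 (Perm.ext h0)
    have hz3' : z (z (z v)) = v := by
      have := congrArg (fun f : Perm α => f v) (hz3 ▸ pow_orderOf_eq_one z : z ^ 3 = 1)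
      simpa [pow_succ, Perm.mul_apply] using this
    have hv2 : z (z v) ≠ v := fun h0 => by rw [h0] at hz3'; exact hv hz3'
    have hv3 : z (z v) ≠ z v := fun h0 => hv (z.injective h0)
    have hx0 : x 0 ≠ v ∧ x 0 ≠ z v ∧ x 0 ≠ z (z v) :=
      ⟨fun h0 => hv (h0 ▸ hzx 0), fun h0 => hv (z.injective (h0 ▸ hzx 0)), fun h0 => hv (z.injective (z.injective (h0 ▸ hzx 0)))⟩
    let T : Fin 4 ↪ α := ⟨![x 0, v, z v, z (z v)], vec4_injective (by simp [hx0, Ne.symm hv, Ne.symm hv2, Ne.symm hv3])⟩
    have hmem : swap (1 : Fin 4) 2 * swap 2 3 ∈ indFin G T := mk _ _ ⟨z, hzG, fun i => by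
      fin_cases i
      · exact hzx 0
      · rfl
      · rfl
      · exact hz3'⟩
    have := Subgroup.orderOf_dvd_natCard _ hmem
    rw [hdT, hdd, orderOf_eq_prime (p := 3) (by decide) (by decide)] at this
    omega
  · -- (8,24)
    exfalso
    set I : Finset (Perm α) := Finset.univ.filter fun g => g ∈ G ∧ g * g = 1 ∧ (Finset.univ.filter fun w => g w = w).card = 2 with hI
    set C := ((Finset.univ : Finset α).powersetCard 4) with hC
    have hCc : C.card = n.choose 4 := by rw [hC, Finset.card_powersetCard, Finset.card_univ]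
    have hsup : ∀ g ∈ I, g.support.card = 22 := fun g hg => by
      simp only [hI, Finset.mem_filter, Finset.mem_univ, true_and] at hg
      have := card_fix_add_card_support g
      omega
    -- every 4-set is the union of the fixed points and one transposition of such an involution
    have hA : ∀ S ∈ C, ∃ g ∈ I, ∃ a, g a ≠ a ∧ S = (Finset.univ.filter fun w => g w = w) ∪ {a, g a} := by
      intro S hS
      rw [hC, Finset.mem_powersetCard] at hS
      obtain ⟨T, hT⟩ : ∃ T : Fin 4 ↪ α, Finset.univ.map T = S :=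
        ⟨((Finset.equivFinOfCardEq hS.2).symm.toEmbedding).trans (Function.Embedding.subtype _), by
          refine Finset.eq_of_subset_of_card_le (fun y hy => ?_) (by simp [hS.2])
          obtain ⟨i, -, rfl⟩ := Finset.mem_map.1 hy
          exact Finset.coe_mem _⟩
      obtain ⟨i, j, hij, hmem⟩ := swap_mem_of_card_eight ((hdT T).trans hdd)
      obtain ⟨g, hg, hgs⟩ := mem_indFin.1 hmem
      have hgg : g * g = 1 := hfaith _ (G.mul_mem hg hg) (Finset.univ.map T) (by simp) fun v hv => by
        obtain ⟨r, -, rfl⟩ := Finset.mem_map.1 hv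
        rw [Perm.mul_apply, hgs, hgs, swap_apply_self]
      have hgi : g (T i) = T j := by rw [hgs, swap_apply_left]
      have hg1 : g ≠ 1 := fun h0 => by
        rw [h0, Perm.one_apply] at hgi
        exact hij (T.injective hgi)
      have hfix : ∀ r, r ≠ i → r ≠ j → g (T r) = T r := fun r r1 r2 => by rw [hgs, swap_apply_of_ne_of_ne r1 r2]
      have hfle := fix3 g hg hg1 (Finset.univ.filter fun w => g w = w) (fun w hw => (Finset.mem_filter.1 hw).2)
      have hge : 2 ≤ (Finset.univ.filter fun w => g w = w).card := by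
        refine le_trans ?_ (Finset.card_le_card (show ((Finset.univ \ {i, j}).map T) ⊆ _ from fun w hw => ?_))
        · rw [Finset.card_map, Finset.card_sdiff_of_subset (Finset.subset_univ _), Finset.card_univ, Fintype.card_fin,
            Finset.card_pair hij]
        · obtain ⟨r, hr, rfl⟩ := Finset.mem_map.1 hw
          simp only [Finset.mem_sdiff, Finset.mem_univ, true_and, Finset.mem_insert, Finset.mem_singleton, not_or] at hr
          exact Finset.mem_filter.2 ⟨Finset.mem_univ _, hfix r hr.1 hr.2⟩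
      obtain ⟨q, hq⟩ := even_support_of_sq_eq_one hgg
      have hsum := card_fix_add_card_support g
      have hf : (Finset.univ.filter fun w => g w = w).card = 2 := by omega
      refine ⟨g, Finset.mem_filter.2 ⟨Finset.mem_univ _, hg, hgg, hf⟩, T i, by rw [hgi]; exact T.injective.ne hij.symm, ?_⟩
      rw [← hT]
      refine Finset.eq_of_subset_of_card_le (fun w hw => ?_) ?_
      · obtain ⟨r, -, rfl⟩ := Finset.mem_map.1 hw
        by_cases r1 : r = i
        · simp [r1]
        by_cases r2 : r = j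
        · simp [r2, hgi]
        exact Finset.mem_union_left _ (Finset.mem_filter.2 ⟨Finset.mem_univ _, hfix r r1 r2⟩)
      · refine (Finset.card_union_le _ _).trans ?_
        rw [hf, Finset.card_map, Finset.card_univ, Fintype.card_fin]
        have : ({T i, g (T i)} : Finset α).card ≤ 2 := Finset.card_le_two
        omega
    have : Nonempty α := ⟨x 0⟩
    choose! gS hgS aS haS hSeq using hA
    have hlow : 2 * C.card ≤ 22 * I.card := by
      rw [mul_comm 22, ← Finset.sum_const_nat hsup, ← Finset.card_sigma, show 2 * C.card = (C ×ˢ (Finset.univ : Finset Bool)).card by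
        rw [Finset.card_product, Finset.card_univ, Fintype.card_bool, mul_comm]]
      refine Finset.card_le_card_of_injOn (fun p => (⟨gS p.1, if p.2 then aS p.1 else gS p.1 (aS p.1)⟩ : Σ _ : Perm α, α)) ?_ ?_
      · rintro ⟨S, b⟩ hp
        simp only [Finset.mem_coe, Finset.mem_product] at hp
        simp only [Finset.mem_coe, Finset.mem_sigma, Perm.mem_support]
        refine ⟨hgS S hp.1, ?_⟩
        cases b
        · exact fun h0 => haS S hp.1 ((gS S).injective h0)
        · exact haS S hp.1
      · rintro ⟨S, b⟩ hp ⟨S', b'⟩ hp' h0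
        simp only [Finset.mem_coe, Finset.mem_product] at hp hp'
        simp only [Sigma.mk.injEq, heq_eq_eq] at h0
        obtain ⟨h1, h2⟩ := h0
        have g2 : ∀ v, gS S (gS S v) = v := fun v => by
          rw [← Perm.mul_apply, ((Finset.mem_filter.1 (hgS S hp.1)).2).2.1, Perm.one_apply]
        have hSS : S = S' := by
          rw [hSeq S hp.1, hSeq S' hp'.1, ← h1]
          congr 1
          cases b <;> cases b' <;> simp only [Bool.false_eq_true, if_false, if_true, ← h1] at h2
          · rw [(gS S).injective h2]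
          · rw [← h2, g2]; exact Finset.pair_comm _ _
          · rw [h2, g2]; exact Finset.pair_comm _ _
          · rw [h2]
        subst hSS
        refine Prod.ext rfl ?_
        cases b <;> cases b' <;> simp only [Bool.false_eq_true, if_false, if_true] at h2 ⊢
        · exact absurd h2 (haS S hp.1)
        · exact absurd h2.symm (haS S hp.1)
    have hup : 440 * I.card ≤ 24 * C.card := by
      have hc1 : ∀ g ∈ I, ∀ a ∈ g.support, (g.support \ {a, g a}).card = 20 := fun g hg a ha => by
        rw [Finset.card_sdiff_of_subset (by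
          intro w hw
          simp only [Finset.mem_insert, Finset.mem_singleton] at hw
          rcases hw with rfl | rfl
          · exact ha
          · exact Perm.apply_mem_support.2 ha), hsup g hg, Finset.card_pair (Ne.symm (Perm.mem_support.1 ha))]
      have e1 : 440 * I.card = (I.sigma fun g => g.support.sigma fun a => g.support \ {a, g a}).card := by
        rw [Finset.card_sigma, Finset.sum_const_nat (m := 440), mul_comm]
        intro g hg
        rw [Finset.card_sigma, Finset.sum_const_nat (hc1 g hg), hsup g hg]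
      have e2 : 24 * C.card = (Finset.univ : Finset (Fin 4 ↪ α)).card := by
        rw [Finset.card_univ, Fintype.card_embedding_eq, Fintype.card_fin, hCc, Nat.descFactorial_eq_factorial_mul_choose]; rfl
      rw [e1, e2]
      refine Finset.card_le_card_of_injOn (fun t =>
        if h : [t.2.1, t.1 t.2.1, t.2.2, t.1 t.2.2].Nodup then ⟨![t.2.1, t.1 t.2.1, t.2.2, t.1 t.2.2], vec4_injective h⟩ else e) (fun _ _ => Finset.mem_coe.2 (Finset.mem_univ _)) ?_
      have hnd : ∀ g ∈ I, ∀ a c, g a ≠ a → g c ≠ c → c ≠ a → c ≠ g a → [a, g a, c, g c].Nodup := by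
        intro g hg a c ha hc h1 h2
        have g2 : ∀ v, g (g v) = v := fun v => by rw [← Perm.mul_apply, ((Finset.mem_filter.1 hg).2).2.1, Perm.one_apply]
        have e3 : a ≠ g c := fun h0 => h2 (by rw [h0, g2])
        have e4 : g a ≠ g c := fun h0 => h1 (g.injective h0).symm
        simp [Ne.symm ha, Ne.symm h1, e3, Ne.symm h2, e4, Ne.symm hc]
      rintro ⟨g, a, c⟩ ht ⟨g', a', c'⟩ ht' h0
      simp only [Finset.mem_coe, Finset.mem_sigma, Finset.mem_sdiff, Finset.mem_insert, Finset.mem_singleton, not_or,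
        Perm.mem_support] at ht ht'
      have n1 := hnd g ht.1 a c ht.2.1 ht.2.2.1 ht.2.2.2.1 ht.2.2.2.2
      have n2 := hnd g' ht'.1 a' c' ht'.2.1 ht'.2.2.1 ht'.2.2.2.1 ht'.2.2.2.2
      simp only [dif_pos n1, dif_pos n2] at h0
      have k0 : a = a' := DFunLike.congr_fun h0 0
      have k1 : g a = g' a' := DFunLike.congr_fun h0 1
      have k2 : c = c' := DFunLike.congr_fun h0 2
      have k3 : g c = g' c' := DFunLike.congr_fun h0 3
      subst k0 k2
      obtain ⟨hgG, hgg, -⟩ := (Finset.mem_filter.1 ht.1).2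
      obtain ⟨hgG', hgg', -⟩ := (Finset.mem_filter.1 ht'.1).2
      have g2 : ∀ v, g (g v) = v := fun v => by rw [← Perm.mul_apply, hgg, Perm.one_apply]
      have g2' : ∀ v, g' (g' v) = v := fun v => by rw [← Perm.mul_apply, hgg', Perm.one_apply]
      have : g'⁻¹ * g = 1 := hfaith _ (G.mul_mem (G.inv_mem hgG') hgG) [a, g a, c, g c].toFinset
        (by rw [List.toFinset_card_of_nodup n1]; simp) fun v hv => by
          simp only [List.mem_toFinset, List.mem_cons, List.not_mem_nil, or_false] at hv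
          rw [Perm.mul_apply, Perm.coe_inv, Equiv.symm_apply_eq]
          rcases hv with rfl | rfl | rfl | rfl
          · exact k1
          · rw [g2, k1, g2']
          · exact k3
          · rw [g2, k3, g2']
      rw [inv_mul_eq_one.1 this]
    have hpos : 0 < C.card := by rw [hCc]; exact Nat.choose_pos (by omega)
    omega
  · -- (12,7)
    exfalso
    obtain ⟨T, hT⟩ := (even_inv ⟨1, by omega⟩).1
    have := swap_even_false ((hdT T).trans hdd) hT
    rw [swapsign _ _ (by decide)] at this
    exact absurd this (by decide)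
  · exact Or.inr ⟨hnn, Or.inr (by rw [hord, hdd, hnn]; rfl)⟩
  · -- (12,19)
    exfalso
    obtain ⟨T, hT⟩ := (even_inv ⟨4, by omega⟩).1
    have := swap_even_false ((hdT T).trans hdd) hT
    rw [swapsign _ _ (by decide)] at this
    exact absurd this (by decide)

end Cfsg.Homog
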