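import Cfsg.Agent.Homogeneous.Step

/-! `k = 4`, semiregular case: no lift of a transposition has a further fixed point. -/

set_option autoImplicit false
set_option linter.unusedSectionVars false

open Equiv

namespace Cfsg.Homog

variable {α : Type*} [Fintype α] [DecidableEq α] {G : Subgroup (Perm α)}

def quad (a b c d : α) : Finset α := {a, b, c, d}

theorem mem_quad {a b c d x : α} : x ∈ quad a b c d ↔ x = a ∨ x = b ∨ x = c ∨ x = d := by simp [quad]

theorem card_quad {a b c d : α} (h : [a, b, c, d].Nodup) : (quad a b c d).card = 4 := by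
  have e : quad a b c d = [a, b, c, d].toFinset := by ext x; simp [quad]
  rw [e, List.toFinset_card_of_nodup h]; rfl

theorem KTrans.four (hkt : KTrans G 4) {a b c d a' b' c' d' : α} (h : [a, b, c, d].Nodup) (h' : [a', b', c', d'].Nodup) :
    ∃ g ∈ G, g a = a' ∧ g b = b' ∧ g c = c' ∧ g d = d' := by
  obtain ⟨g, hg, hl⟩ := hkt [a, b, c, d] [a', b', c', d'] h h' rfl le_rfl
  simp only [List.map_cons, List.map_nil, List.cons.injEq, and_true] at hl
  exact ⟨g, hg, hl.1, hl.2.1, hl.2.2.1, hl.2.2.2⟩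

theorem mem_lifts_swap {a b c d : α} (h : [a, b, c, d].Nodup) {g : Perm α} :
    g ∈ lifts G (quad a b c d) (swap a b) ↔ g ∈ G ∧ g a = b ∧ g b = a ∧ g c = c ∧ g d = d := by
  simp only [List.nodup_cons, List.mem_cons, List.not_mem_nil, or_false, not_or, List.nodup_nil, and_true] at h
  obtain ⟨⟨h1, h2, h3⟩, ⟨h4, h5⟩, h6, -⟩ := h
  rw [mem_lifts]
  refine and_congr_right fun _ => ⟨fun hh => ?_, fun hh x hx => ?_⟩
  · refine ⟨?_, ?_, ?_, ?_⟩
    · rw [hh a (mem_quad.2 (Or.inl rfl)), swap_apply_left]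
    · rw [hh b (mem_quad.2 (Or.inr (Or.inl rfl))), swap_apply_right]
    · rw [hh c (mem_quad.2 (Or.inr (Or.inr (Or.inl rfl)))), swap_apply_of_ne_of_ne (Ne.symm h2) (Ne.symm h4)]
    · rw [hh d (mem_quad.2 (Or.inr (Or.inr (Or.inr rfl)))), swap_apply_of_ne_of_ne (Ne.symm h3) (Ne.symm h5)]
  · rcases mem_quad.1 hx with rfl | rfl | rfl | rfl
    · rw [swap_apply_left]; exact hh.1
    · rw [swap_apply_right]; exact hh.2.1
    · rw [swap_apply_of_ne_of_ne (Ne.symm h2) (Ne.symm h4)]; exact hh.2.2.1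
    · rw [swap_apply_of_ne_of_ne (Ne.symm h3) (Ne.symm h5)]; exact hh.2.2.2

theorem lift_swap_exists (hkt : KTrans G 4) {a b c d : α} (h : [a, b, c, d].Nodup) :
    ∃ g, g ∈ lifts G (quad a b c d) (swap a b) := by
  have h' : [b, a, c, d].Nodup := (List.Perm.nodup_iff (List.Perm.swap a b [c, d])).2 h
  obtain ⟨g, hg, e⟩ := hkt.four h h'
  exact ⟨g, (mem_lifts_swap h).2 ⟨hg, e.1, e.2.1, e.2.2.1, e.2.2.2⟩⟩

theorem swap_mem_indGroup {Δ : Finset α} {u v : α} (hu : u ∈ Δ) (hv : v ∈ Δ) {g : Perm α} (hg : g ∈ G)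
    (h1 : g u = v) (h2 : g v = u) (h : ∀ z ∈ Δ, z ≠ u → z ≠ v → g z = z) : swap u v ∈ indGroup G Δ := by
  refine ⟨supported_swap hu hv, g, hg, fun z hz => ?_⟩
  by_cases e1 : z = u
  · rw [e1, swap_apply_left, h1]
  by_cases e2 : z = v
  · rw [e2, swap_apply_right, h2]
  rw [swap_apply_of_ne_of_ne e1 e2, h z hz e1 e2]

/-- Every lift of a transposition fixes exactly two further points. -/
def Two (G : Subgroup (Perm α)) : Prop :=
  ∀ a b c d : α, [a, b, c, d].Nodup → ∀ g ∈ lifts G (quad a b c d) (swap a b), (extraFix (quad a b c d) g).card = 2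

variable (hkt : KTrans G 4) (hreg : Semireg G 4)

include hreg in
theorem extraFix_le_two {a b c d : α} (h : [a, b, c, d].Nodup) {g : Perm α}
    (hg : g ∈ lifts G (quad a b c d) (swap a b)) : (extraFix (quad a b c d) g).card ≤ 2 := by
  have hab : a ≠ b := by
    intro e; subst e; simp at h
  refine (extraFix_le (M := {a, b}) hreg (card_quad h) (by intro x hx; simp at hx; rcases hx with rfl | rfl <;> simp [quad])
    (a := a) (by simp [quad]) (by rw [swap_apply_left]; exact (Ne.symm hab)) (fun x _ hx => ?_) hg).trans Finset.card_le_two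
  simp only [Finset.mem_insert, Finset.mem_singleton, not_or] at hx
  exact swap_apply_of_ne_of_ne hx.1 hx.2

include hkt hreg in
theorem two_of_pair {a b c d x y : α} (h : [a, b, c, d].Nodup) (hx : x ∉ quad a b c d) (hy : y ∉ quad a b c d)
    (hgx : ∃ g ∈ lifts G (quad a b c d) (swap a b), g x = x) (hgy : ∃ g ∈ lifts G (quad a b c d) (swap a b), g y = y)
    (hne : ∀ f ∈ lifts G (quad a b c d) 1, f x ≠ y ∧ f y ≠ x) : Two G := by
  classical
  set S := quad a b c d with hS
  have hxy : x ≠ y := fun e => (hne 1 (one_mem_lifts S)).1 e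
  have hsw : ∀ z ∉ S, swap a b z = z := supported_swap (by simp [hS, quad]) (by simp [hS, quad])
  have h1 := orbit_bound (c := 2) hreg (card_quad h) hsw {x, y}
    (fun z hz => by
      simp only [Finset.mem_insert, Finset.mem_singleton] at hz
      rcases hz with rfl | rfl
      · exact ⟨hx, hgx⟩
      · exact ⟨hy, hgy⟩)
    (fun u hu v hv f hf he => by
      simp only [Finset.mem_insert, Finset.mem_singleton] at hu hv
      rcases hu with rfl | rfl <;> rcases hv with rfl | rfl
      · rfl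
      · exact absurd he (hne f hf).1
      · exact absurd he (hne f hf).2
      · rfl)
    (fun g hg => extraFix_le_two hreg h hg)
  obtain ⟨g₀, hg₀⟩ := lift_swap_exists hkt h
  rw [Finset.card_pair hxy, ← card_lifts hg₀] at h1
  have hsat : ∀ g ∈ lifts G S (swap a b), (extraFix S g).card = 2 := by
    intro g hg
    by_contra hg2
    have := Finset.sum_lt_sum (g := fun _ => 2) (fun z hz => extraFix_le_two hreg h hz)
      ⟨g, hg, lt_of_le_of_ne (extraFix_le_two hreg h hg) hg2⟩
    rw [Finset.sum_const, smul_eq_mul] at this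
    omega
  intro a' b' c' d' h' g' hg'
  obtain ⟨w, hw, wa, wb, wc, wd⟩ := hkt.four h h'
  obtain ⟨hg'G, ga, gb, gc, gd⟩ := (mem_lifts_swap h').1 hg'
  have hmem : w⁻¹ * g' * w ∈ lifts G S (swap a b) :=
    (mem_lifts_swap h).2 ⟨G.mul_mem (G.mul_mem (G.inv_mem hw) hg'G) hw,
      by rw [Perm.mul_apply, Perm.mul_apply, wa, ga, Perm.coe_inv, Equiv.symm_apply_eq, wb],
      by rw [Perm.mul_apply, Perm.mul_apply, wb, gb, Perm.coe_inv, Equiv.symm_apply_eq, wa],
      by rw [Perm.mul_apply, Perm.mul_apply, wc, gc, Perm.coe_inv, Equiv.symm_apply_eq, wc],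
      by rw [Perm.mul_apply, Perm.mul_apply, wd, gd, Perm.coe_inv, Equiv.symm_apply_eq, wd]⟩
  rw [← hsat _ hmem]
  refine (Finset.card_bij (fun z _ => w z) (fun z hz => ?_) (fun z _ v _ e => w.injective e) (fun z hz => ⟨w⁻¹ z, ?_, by simp⟩)).symm
  · obtain ⟨hz1, hz2⟩ := mem_extraFix.1 hz
    refine mem_extraFix.2 ⟨fun hc => hz1 ?_, ?_⟩
    · rcases mem_quad.1 hc with e | e | e | e
      · exact mem_quad.2 (Or.inl (w.injective (e.trans wa.symm)))
      · exact mem_quad.2 (Or.inr (Or.inl (w.injective (e.trans wb.symm))))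
      · exact mem_quad.2 (Or.inr (Or.inr (Or.inl (w.injective (e.trans wc.symm)))))
      · exact mem_quad.2 (Or.inr (Or.inr (Or.inr (w.injective (e.trans wd.symm)))))
    · simpa [Equiv.symm_apply_eq] using hz2
  · obtain ⟨hz1, hz2⟩ := mem_extraFix.1 hz
    refine mem_extraFix.2 ⟨fun hc => hz1 ?_, by simp [hz2]⟩
    rcases mem_quad.1 hc with e | e | e | e
    · exact mem_quad.2 (Or.inl (by rw [← wa, ← e]; simp))
    · exact mem_quad.2 (Or.inr (Or.inl (by rw [← wb, ← e]; simp)))
    · exact mem_quad.2 (Or.inr (Or.inr (Or.inl (by rw [← wc, ← e]; simp))))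
    · exact mem_quad.2 (Or.inr (Or.inr (Or.inr (by rw [← wd, ← e]; simp))))

include hkt hreg in
/-- If a lift of `(a b)` fixes `c, d, x` then the complementary transposition is induced, unless `Two` holds. -/
theorem comp_or_two {a b c d x : α} (h : [a, b, c, d].Nodup) (hx : x ∉ quad a b c d) {g : Perm α}
    (hg : g ∈ lifts G (quad a b c d) (swap a b)) (hgx : g x = x) :
    Two G ∨ swap c d ∈ indGroup G (insert x (quad a b c d)) := by
  classical
  by_cases hs : swap c d ∈ indGroup G (insert x (quad a b c d))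
  · exact Or.inr hs
  refine Or.inl ?_
  have hcd : [a, b, d, c].Nodup := (List.Perm.nodup_iff ((List.Perm.swap c d []).cons b |>.cons a)).2 h
  obtain ⟨q, hq, qa, qb, qc, qd⟩ := hkt.four h hcd
  obtain ⟨hgG, ga, gb, gc, gd⟩ := (mem_lifts_swap h).1 hg
  have qinv : q⁻¹ a = a ∧ q⁻¹ b = b ∧ q⁻¹ c = d ∧ q⁻¹ d = c := by
    simp only [Perm.coe_inv, Equiv.symm_apply_eq]
    exact ⟨qa.symm, qb.symm, qd.symm, qc.symm⟩
  have hqx : q x ∉ quad a b c d := fun hc => by
    apply hx
    rcases mem_quad.1 hc with e | e | e | e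
    · exact mem_quad.2 (Or.inl (q.injective (e.trans qa.symm)))
    · exact mem_quad.2 (Or.inr (Or.inl (q.injective (e.trans qb.symm))))
    · exact mem_quad.2 (Or.inr (Or.inr (Or.inr (q.injective (e.trans qd.symm)))))
    · exact mem_quad.2 (Or.inr (Or.inr (Or.inl (q.injective (e.trans qc.symm)))))
  have key : ∀ g' ∈ G, g' a = a → g' b = b → g' c = d → g' d = c → g' x ≠ x := by
    intro g' hg' e1 e2 e3 e4 e5
    refine hs (swap_mem_indGroup (by simp [quad]) (by simp [quad]) hg' e3 e4 fun z hz z1 z2 => ?_)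
    rcases Finset.mem_insert.1 hz with rfl | hz
    · exact e5
    rcases mem_quad.1 hz with rfl | rfl | rfl | rfl
    · exact e1
    · exact e2
    · exact absurd rfl z1
    · exact absurd rfl z2
  refine two_of_pair hkt hreg h hx hqx ⟨g, hg, hgx⟩ ⟨q * g * q⁻¹, (mem_lifts_swap h).2
    ⟨G.mul_mem (G.mul_mem hq hgG) (G.inv_mem hq), ?_, ?_, ?_, ?_⟩, by simp [hgx]⟩ fun f hf => ?_
  · rw [Perm.mul_apply, Perm.mul_apply, qinv.1, ga, qb]
  · rw [Perm.mul_apply, Perm.mul_apply, qinv.2.1, gb, qa]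
  · rw [Perm.mul_apply, Perm.mul_apply, qinv.2.2.1, gd, qd]
  · rw [Perm.mul_apply, Perm.mul_apply, qinv.2.2.2, gc, qc]
  · obtain ⟨hfG, hfS⟩ := mem_lifts.1 hf
    have fa : f a = a := hfS a (by simp [quad])
    have fb : f b = b := hfS b (by simp [quad])
    have fc : f c = c := hfS c (by simp [quad])
    have fd : f d = d := hfS d (by simp [quad])
    constructor <;> intro he
    · refine key (f⁻¹ * q) (G.mul_mem (G.inv_mem hfG) hq) ?_ ?_ ?_ ?_ (by simp [← he])
      · rw [Perm.mul_apply, qa, Perm.coe_inv, Equiv.symm_apply_eq, fa]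
      · rw [Perm.mul_apply, qb, Perm.coe_inv, Equiv.symm_apply_eq, fb]
      · rw [Perm.mul_apply, qc, Perm.coe_inv, Equiv.symm_apply_eq, fd]
      · rw [Perm.mul_apply, qd, Perm.coe_inv, Equiv.symm_apply_eq, fc]
    · exact key (f * q) (G.mul_mem hfG hq) (by simp [qa, fa]) (by simp [qb, fb]) (by simp [qc, fd]) (by simp [qd, fc]) he

include hkt hreg in
theorem two_of_fix (hfail : ∀ Δ : Finset α, Δ.card = 5 → ¬ AltOn G Δ) {a b c d x : α} (h : [a, b, c, d].Nodup)
    (hx : x ∉ quad a b c d) {g : Perm α} (hg : g ∈ lifts G (quad a b c d) (swap a b)) (hgx : g x = x) : Two G := by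
  classical
  obtain ⟨hgG, ga, gb, gc, gd⟩ := (mem_lifts_swap h).1 hg
  have hd := h
  simp only [List.nodup_cons, List.mem_cons, List.not_mem_nil, or_false, not_or, List.nodup_nil, and_true] at hd
  obtain ⟨⟨hab, hac, had⟩, ⟨hbc, hbd⟩, hcd, -⟩ := hd
  have hx' := hx
  simp only [quad, Finset.mem_insert, Finset.mem_singleton, not_or] at hx'
  obtain ⟨hxa, hxb, hxc, hxd⟩ := hx'
  have h2 : [a, b, x, d].Nodup := by
    simp [hab, had, hbd, Ne.symm hxa, Ne.symm hxb, hxd]
  obtain ⟨w, hw, wa, wb, wx, wd⟩ := hkt.four h2 h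
  have winv : w⁻¹ a = a ∧ w⁻¹ b = b ∧ w⁻¹ c = x ∧ w⁻¹ d = d := by
    simp only [Perm.coe_inv, Equiv.symm_apply_eq]
    exact ⟨wa.symm, wb.symm, wx.symm, wd.symm⟩
  rcases comp_or_two hkt hreg h hx hg hgx with ht | hcdS
  · exact ht
  by_cases hne : ∀ f ∈ lifts G (quad a b c d) 1, f x ≠ w c ∧ f (w c) ≠ x
  · refine two_of_pair hkt hreg h hx (fun hc => ?_) ⟨g, hg, hgx⟩ ⟨w * g * w⁻¹, (mem_lifts_swap h).2
      ⟨G.mul_mem (G.mul_mem hw hgG) (G.inv_mem hw), ?_, ?_, ?_, ?_⟩, by simp [gc]⟩ hne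
    · rcases mem_quad.1 hc with e | e | e | e
      · exact (Ne.symm hac) (w.injective (e.trans wa.symm))
      · exact (Ne.symm hbc) (w.injective (e.trans wb.symm))
      · exact (Ne.symm hxc) (w.injective (e.trans wx.symm))
      · exact hcd (w.injective (e.trans wd.symm))
    · rw [Perm.mul_apply, Perm.mul_apply, winv.1, ga, wb]
    · rw [Perm.mul_apply, Perm.mul_apply, winv.2.1, gb, wa]
    · rw [Perm.mul_apply, Perm.mul_apply, winv.2.2.1, hgx, wx]
    · rw [Perm.mul_apply, Perm.mul_apply, winv.2.2.2, gd, wd]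
  push Not at hne
  obtain ⟨f, hf, hfe⟩ := hne
  obtain ⟨hfG, hfS⟩ := mem_lifts.1 hf
  obtain ⟨r, hr, ra, rb, rd, rc, rx⟩ : ∃ r ∈ G, r a = a ∧ r b = b ∧ r d = d ∧ r c = x ∧ r x = c := by
    have fa : f a = a := hfS a (by simp [quad])
    have fb : f b = b := hfS b (by simp [quad])
    have fc : f c = c := hfS c (by simp [quad])
    have fd : f d = d := hfS d (by simp [quad])
    by_cases e : f x = w c
    · refine ⟨f⁻¹ * w, G.mul_mem (G.inv_mem hfG) hw, ?_, ?_, ?_, ?_, ?_⟩
      · rw [Perm.mul_apply, wa, Perm.coe_inv, Equiv.symm_apply_eq, fa]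
      · rw [Perm.mul_apply, wb, Perm.coe_inv, Equiv.symm_apply_eq, fb]
      · rw [Perm.mul_apply, wd, Perm.coe_inv, Equiv.symm_apply_eq, fd]
      · rw [Perm.mul_apply, ← e]; simp
      · rw [Perm.mul_apply, wx, Perm.coe_inv, Equiv.symm_apply_eq, fc]
    · exact ⟨f * w, G.mul_mem hfG hw, by simp [wa, fa], by simp [wb, fb], by simp [wd, fd], hfe e, by simp [wx, fc]⟩
  set Δ := insert x (quad a b c d) with hΔ
  have hxcS : swap c x ∈ indGroup G Δ := swap_mem_indGroup (by simp [hΔ, quad]) (by simp [hΔ]) hr rc rx fun z hz z1 z2 => by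
    rcases Finset.mem_insert.1 hz with e | hz
    · exact absurd e z2
    rcases mem_quad.1 hz with rfl | rfl | rfl | rfl
    · exact ra
    · exact rb
    · exact absurd rfl z1
    · exact rd
  obtain ⟨-, q, hq, hqv⟩ := hcdS
  have q_of : ∀ z ∈ Δ, q z = swap c d z := hqv
  have h3 : [c, d, a, x].Nodup := by
    simp [hcd, (Ne.symm hac), (Ne.symm had), (Ne.symm hxc), (Ne.symm hxd), (Ne.symm hxa)]
  have e3 : insert b (quad c d a x) = Δ := by
    ext z; simp [hΔ, quad]; tauto
  rcases comp_or_two hkt hreg h3 (x := b) (g := q) (by simp [quad, hbc, hbd, (Ne.symm hab), (Ne.symm hxb)])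
    ((mem_lifts_swap h3).2 ⟨hq, by rw [q_of c (by simp [hΔ, quad]), swap_apply_left],
      by rw [q_of d (by simp [hΔ, quad]), swap_apply_right],
      by rw [q_of a (by simp [hΔ, quad]), swap_apply_of_ne_of_ne hac had],
      by rw [q_of x (by simp [hΔ]), swap_apply_of_ne_of_ne hxc hxd]⟩)
    (by rw [q_of b (by simp [hΔ, quad]), swap_apply_of_ne_of_ne hbc hbd]) with ht | haxS
  · exact ht
  rw [e3] at haxS
  have habS : swap a b ∈ indGroup G Δ := swap_mem_indGroup (by simp [hΔ, quad]) (by simp [hΔ, quad]) hgG ga gb fun z hz z1 z2 => by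
    rcases Finset.mem_insert.1 hz with rfl | hz
    · exact hgx
    rcases mem_quad.1 hz with rfl | rfl | rfl | rfl
    · exact absurd rfl z1
    · exact absurd rfl z2
    · exact gc
    · exact gd
  have hcdS' : swap c d ∈ indGroup G Δ := ⟨supported_swap (by simp [hΔ, quad]) (by simp [hΔ, quad]), q, hq, hqv⟩
  have tox : ∀ z ∈ Δ, z = x ∨ swap z x ∈ indGroup G Δ := by
    intro z hz
    rcases Finset.mem_insert.1 hz with rfl | hz
    · exact Or.inl rfl
    right
    rcases mem_quad.1 hz with rfl | rfl | rfl | rfl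
    · exact haxS
    · exact swap_mem_trans (Ne.symm hab) (Ne.symm hxb) (swap_comm z a ▸ habS) haxS
    · exact hxcS
    · exact swap_mem_trans (Ne.symm hcd) (Ne.symm hxd) (swap_comm z c ▸ hcdS') hxcS
  refine absurd (symOn_of_swap fun u hu v hv huv => ?_).altOn (hfail Δ (by rw [hΔ, Finset.card_insert_of_notMem hx, card_quad h]))
  rcases tox u hu with rfl | hu' <;> rcases tox v hv with rfl | hv'
  · exact absurd rfl huv
  · exact swap_comm v u ▸ hv'
  · exact hu'
  · by_cases hxu : u = x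
    · subst hxu; exact swap_comm v u ▸ hv'
    by_cases hxv : v = x
    · subst hxv; exact hu'
    exact swap_mem_trans hxu huv hu' (swap_comm v x ▸ hv')

theorem card_lifts_one_eq (hkt : KTrans G 4) {S S' : Finset α} (hS : S.card = 4) (hS' : S'.card = 4) :
    (lifts G S 1).card = (lifts G S' 1).card := by
  obtain ⟨e⟩ : Nonempty (S ≃ S') := ⟨Finset.equivOfCardEq (hS.trans hS'.symm)⟩
  obtain ⟨w, hw, hwv⟩ := hkt.exists_of_injOn S hS.le (fun z => if h : z ∈ S then (e ⟨z, h⟩ : α) else z) (by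
    intro u hu v hv he
    simp only [Finset.mem_coe] at hu hv
    simp only [hu, hv, dif_pos] at he
    exact congrArg Subtype.val (e.injective (Subtype.ext he)))
  have winv : ∀ z ∈ S', w⁻¹ z ∈ S := fun z hz => by
    obtain ⟨⟨v, hv⟩, hev⟩ := e.surjective ⟨z, hz⟩
    have : w v = z := by rw [hwv v hv, dif_pos hv, hev]
    rw [← this]; simpa using hv
  refine Finset.card_bij (fun g _ => w * g * w⁻¹) (fun g hg => ?_) (fun g _ f _ h => ?_) (fun f hf => ⟨w⁻¹ * f * w, ?_, by group⟩)
  · obtain ⟨hgG, hgS⟩ := mem_lifts.1 hg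
    refine mem_lifts.2 ⟨G.mul_mem (G.mul_mem hw hgG) (G.inv_mem hw), fun z hz => ?_⟩
    rw [Perm.mul_apply, Perm.mul_apply, hgS _ (winv z hz), Perm.one_apply]; simp
  · exact mul_left_cancel (mul_right_cancel h)
  · obtain ⟨hfG, hfS⟩ := mem_lifts.1 hf
    refine mem_lifts.2 ⟨G.mul_mem (G.mul_mem (G.inv_mem hw) hfG) hw, fun z hz => ?_⟩
    have : w z ∈ S' := by rw [hwv z hz, dif_pos hz]; exact (e ⟨z, hz⟩).2
    rw [Perm.mul_apply, Perm.mul_apply, hfS _ this]; simp

theorem exists_quad {S : Finset α} (hS : S.card = 4) : ∃ a b c d, [a, b, c, d].Nodup ∧ S = quad a b c d := by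
  obtain ⟨a, ha⟩ := Finset.card_pos.1 (show 0 < S.card by omega)
  obtain ⟨b, c, d, hbc, hbd, hcd, he⟩ := Finset.card_eq_three.1 (show (S.erase a).card = 3 by rw [Finset.card_erase_of_mem ha, hS])
  have hb : b ∈ S.erase a := by simp [he]
  have hc : c ∈ S.erase a := by simp [he]
  have hd : d ∈ S.erase a := by simp [he]
  refine ⟨a, b, c, d, ?_, ?_⟩
  · simp [(Finset.mem_erase.1 hb).1.symm, (Finset.mem_erase.1 hc).1.symm, (Finset.mem_erase.1 hd).1.symm, hbc, hbd, hcd]
  · rw [← Finset.insert_erase ha, he]; rfl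

include hkt hreg in
theorem two_false (h5 : 5 ≤ Fintype.card α) (hfail : ∀ Δ : Finset α, Δ.card = 5 → ¬ AltOn G Δ) (htwo : Two G) : False := by
  classical
  -- lifts are involutions
  have hsq : ∀ a b c d : α, [a, b, c, d].Nodup → ∀ g ∈ lifts G (quad a b c d) (swap a b), g * g = 1 := by
    intro a b c d h g hg
    obtain ⟨hgG, ga, gb, gc, gd⟩ := (mem_lifts_swap h).1 hg
    refine hreg _ (G.mul_mem hgG hgG) (quad a b c d ∪ extraFix (quad a b c d) g) ?_ ?_
    · rw [Finset.card_union_of_disjoint (Finset.disjoint_left.2 fun z hz hz' => (mem_extraFix.1 hz').1 hz), card_quad h, htwo a b c d h g hg]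
      omega
    · intro z hz
      rcases Finset.mem_union.1 hz with hz | hz
      · rcases mem_quad.1 hz with rfl | rfl | rfl | rfl <;> simp [ga, gb, gc, gd]
      · simp [(mem_extraFix.1 hz).2]
  have huniq : ∀ S : Finset α, S.card = 4 → ∀ z ∈ lifts G S 1, ∀ z' ∈ lifts G S 1, z * z = 1 → z ≠ 1 → z' * z' = 1 → z' ≠ 1 → z = z' := by
    intro S hS z hz z' hz' zz z1 zz' z1'
    obtain ⟨a, b, c, d, h, rfl⟩ := exists_quad hS
    obtain ⟨g, hg⟩ := lift_swap_exists hkt h
    obtain ⟨hgG, ga, gb, gc, gd⟩ := (mem_lifts_swap h).1 hg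
    obtain ⟨x1, x2, hx12, hX⟩ := Finset.card_eq_two.1 (htwo a b c d h g hg)
    have hx1 := mem_extraFix.1 (show x1 ∈ extraFix (quad a b c d) g by simp [hX])
    have key : ∀ y ∈ lifts G (quad a b c d) 1, y * y = 1 → y ≠ 1 → y x1 = x2 := by
      intro y hy yy y1
      obtain ⟨hyG, hyS⟩ := mem_lifts.1 hy
      have hgy : g * y ∈ lifts G (quad a b c d) (swap a b) := (mem_lifts_swap h).2 ⟨G.mul_mem hgG hyG,
        by simp [hyS a (by simp [quad]), ga], by simp [hyS b (by simp [quad]), gb],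
        by simp [hyS c (by simp [quad]), gc], by simp [hyS d (by simp [quad]), gd]⟩
      have e1 := hsq a b c d h _ hgy
      have e2 := hsq a b c d h g hg
      have hcomm : g * y = y * g := by
        calc g * y = (g * y) * ((g * y) * (g * y))⁻¹ := by rw [e1, inv_one, mul_one]
          _ = y⁻¹ * g⁻¹ := by group
          _ = y * g := by rw [inv_eq_of_mul_eq_one_right yy, inv_eq_of_mul_eq_one_right e2]
      have hfx : g (y x1) = y x1 := by rw [← Perm.mul_apply, hcomm, Perm.mul_apply, hx1.2]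
      have hyx : y x1 ∈ extraFix (quad a b c d) g := mem_extraFix.2 ⟨fun hc => by
        have := hyS _ hc
        rw [Perm.one_apply] at this
        exact hx1.1 (y.injective this ▸ hc), hfx⟩
      rw [hX, Finset.mem_insert, Finset.mem_singleton] at hyx
      refine hyx.resolve_left fun e => y1 (hreg y hyG (insert x1 (quad a b c d))
        (by rw [Finset.card_insert_of_notMem hx1.1, card_quad h]; omega) fun v hv => ?_)
      rcases Finset.mem_insert.1 hv with rfl | hv
      · exact e
      · exact hyS v hv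
    have hzG := (mem_lifts.1 hz).1
    have hm : z'⁻¹ * z = 1 := hreg _ (G.mul_mem (G.inv_mem (mem_lifts.1 hz').1) hzG) (insert x1 (quad a b c d))
      (by rw [Finset.card_insert_of_notMem hx1.1, card_quad h]; omega) fun v hv => by
        rw [Perm.mul_apply, Perm.coe_inv, Equiv.symm_apply_eq]
        rcases Finset.mem_insert.1 hv with rfl | hv
        · rw [key z hz zz z1, key z' hz' zz' z1']
        · rw [(mem_lifts.1 hz).2 v hv, (mem_lifts.1 hz').2 v hv]
    exact (inv_mul_eq_one.1 hm).symm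
  have hexS : ∀ S : Finset α, S.card = 4 → ∃ z ∈ lifts G S 1, z * z = 1 ∧ z ≠ 1 := by
    intro S hS
    obtain ⟨a, b, c, d, h, rfl⟩ := exists_quad hS
    obtain ⟨g, hg⟩ := lift_swap_exists hkt h
    obtain ⟨hgG, ga, gb, gc, gd⟩ := (mem_lifts_swap h).1 hg
    obtain ⟨x1, x2, hx12, hX⟩ := Finset.card_eq_two.1 (htwo a b c d h g hg)
    have hx1 := mem_extraFix.1 (show x1 ∈ extraFix (quad a b c d) g by simp [hX])
    have hx2 := mem_extraFix.1 (show x2 ∈ extraFix (quad a b c d) g by simp [hX])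
    have hnd : [c, d, x1, x2].Nodup := by
      have e1 := hx1.1; have e2 := hx2.1
      simp only [quad, Finset.mem_insert, Finset.mem_singleton, not_or] at e1 e2
      have hd := h
      simp only [List.nodup_cons, List.mem_cons, List.not_mem_nil, or_false, not_or] at hd
      simp [hd.2.2.1, Ne.symm e1.2.2.1, Ne.symm e1.2.2.2, Ne.symm e2.2.2.1, Ne.symm e2.2.2.2, hx12]
    obtain ⟨w, hw, w1, w2, w3, w4⟩ := hkt.four hnd h
    refine ⟨w * g * w⁻¹, mem_lifts.2 ⟨G.mul_mem (G.mul_mem hw hgG) (G.inv_mem hw), fun v hv => ?_⟩, ?_, ?_⟩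
    · have hfix : ∀ u ∈ [c, d, x1, x2], g u = u := by simp [gc, gd, hx1.2, hx2.2]
      rcases mem_quad.1 hv with rfl | rfl | rfl | rfl
      · rw [← w1]; simp [gc]
      · rw [← w2]; simp [gd]
      · rw [← w3]; simp [hx1.2]
      · rw [← w4]; simp [hx2.2]
    · calc w * g * w⁻¹ * (w * g * w⁻¹) = w * (g * g) * w⁻¹ := by group
        _ = 1 := by rw [hsq a b c d h g hg]; simp
    · intro e
      have : g = 1 := by
        calc g = w⁻¹ * (w * g * w⁻¹) * w := by group
          _ = 1 := by rw [e]; simp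
      have hd := h
      simp only [List.nodup_cons, List.mem_cons, List.not_mem_nil, or_false, not_or] at hd
      rw [this, Perm.one_apply] at ga
      exact hd.1.1 ga
  choose! z hz hz2 hz1 using hexS
  have hzfix : ∀ S : Finset α, S.card = 4 → ∀ v, v ∈ S ↔ z S v = v := by
    refine fun S hS v => ⟨fun hv => (mem_lifts.1 (hz S hS)).2 v hv, fun hv => by_contra fun hc => hz1 S hS ?_⟩
    refine hreg _ (mem_lifts.1 (hz S hS)).1 (insert v S) (by rw [Finset.card_insert_of_notMem hc, hS]; omega) fun u hu => ?_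
    rcases Finset.mem_insert.1 hu with rfl | hu
    · exact hv
    · exact (mem_lifts.1 (hz S hS)).2 u hu
  set n := Fintype.card α with hn
  obtain ⟨S₀, -, hS₀⟩ := Finset.exists_subset_card_eq (s := (Finset.univ : Finset α)) (n := 4) (by rw [Finset.card_univ]; omega)
  set e := (lifts G S₀ 1).card with he
  set P := (Finset.univ : Finset α).powersetCard 4 with hP
  -- the incidence count
  have hcount : n - 4 ≤ 2 * e := by
    set L : Finset (Σ _ : Finset α, α × α × α) := P.sigma fun S => (Finset.univ \ S) ×ˢ S.offDiag with hL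
    set R : Finset (Σ _ : Finset α, (α × α) × Perm α) := P.sigma fun S => S.offDiag.sigma (fun q => Finset.univ.filter fun g : Perm α =>
      g ∈ G ∧ g q.1 = q.1 ∧ g q.2 = q.2 ∧ ∀ v ∈ S, v ≠ q.1 → v ≠ q.2 → g v ∈ S ∧ g v ≠ v) |>.image (fun t => (t.1, t.2)) with hR
    have hLc : L.card = P.card * ((n - 4) * 12) := by
      rw [hL, Finset.card_sigma, Finset.sum_const_nat]
      intro S hS
      rw [hP, Finset.mem_powersetCard] at hS
      rw [Finset.card_product, Finset.offDiag_card, Finset.card_sdiff_of_subset (Finset.subset_univ _), Finset.card_univ, hS.2]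
    have hRc : R.card ≤ P.card * (12 * e) := by
      rw [hR, Finset.card_sigma]
      refine Finset.sum_le_card_nsmul _ _ _ (fun S hS => ?_) |>.trans (le_of_eq (smul_eq_mul _ _))
      rw [hP, Finset.mem_powersetCard] at hS
      refine Finset.card_image_le.trans ?_
      rw [Finset.card_sigma]
      refine (Finset.sum_le_card_nsmul _ _ e fun q hq => ?_).trans (le_of_eq (by rw [smul_eq_mul, Finset.offDiag_card, hS.2]))
      rw [Finset.mem_offDiag] at hq
      obtain ⟨u, v, huv, huvS⟩ := Finset.card_eq_two.1 (show (S \ {q.1, q.2}).card = 2 by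
        rw [Finset.card_sdiff_of_subset (by simp [Finset.insert_subset_iff, hq.1, hq.2.1]), hS.2, Finset.card_pair hq.2.2])
      have hu : u ∈ S \ {q.1, q.2} := by simp [huvS]
      have hv : v ∈ S \ {q.1, q.2} := by simp [huvS]
      simp only [Finset.mem_sdiff, Finset.mem_insert, Finset.mem_singleton, not_or] at hu hv
      have hnd : [u, v, q.1, q.2].Nodup := by simp [huv, hu.2.1, hu.2.2, hv.2.1, hv.2.2, hq.2.2]
      have hSq : S = quad u v q.1 q.2 := by
        refine (Finset.eq_of_subset_of_card_le (fun x hx => ?_) (by rw [card_quad hnd, hS.2])).symm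
        rcases mem_quad.1 hx with e' | e' | e' | e' <;> rw [e']
        exacts [hu.1, hv.1, hq.1, hq.2.1]
      obtain ⟨g₀, hg₀⟩ := lift_swap_exists hkt hnd
      rw [he, card_lifts_one_eq hkt hS₀ (card_quad hnd), ← card_lifts hg₀]
      refine Finset.card_le_card fun g hg => ?_
      simp only [Finset.mem_filter, Finset.mem_univ, true_and] at hg
      obtain ⟨hgG, g1, g2, g3⟩ := hg
      have mv : ∀ x ∈ S, x ≠ q.1 → x ≠ q.2 → g x = u ∨ g x = v := by
        intro x hx x1 x2
        have : g x ∈ S \ {q.1, q.2} := by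
          simp only [Finset.mem_sdiff, Finset.mem_insert, Finset.mem_singleton, not_or]
          exact ⟨(g3 x hx x1 x2).1, fun e' => x1 (g.injective (e'.trans g1.symm)), fun e' => x2 (g.injective (e'.trans g2.symm))⟩
        rw [huvS] at this
        simpa using this
      exact (mem_lifts_swap hnd).2 ⟨hgG, (mv u hu.1 hu.2.1 hu.2.2).resolve_left (g3 u hu.1 hu.2.1 hu.2.2).2,
        (mv v hv.1 hv.2.1 hv.2.2).resolve_right (g3 v hv.1 hv.2.1 hv.2.2).2, g1, g2⟩
    have hle : L.card ≤ 2 * R.card := by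
      let φ : (Σ _ : Finset α, α × α × α) → Σ _ : Finset α, (α × α) × Perm α := fun t =>
        ⟨{t.2.1, z t.1 t.2.1, t.2.2.1, t.2.2.2}, (t.2.2, z t.1)⟩
      refine Finset.card_le_mul_card_image_of_maps_to (f := φ) (fun t ht => ?_) 2 (fun r hr => ?_)
      · obtain ⟨S, y, u, v⟩ := t
        simp only [hL, Finset.mem_sigma, Finset.mem_product, Finset.mem_offDiag, Finset.mem_sdiff, Finset.mem_univ, true_and, hP, Finset.mem_powersetCard] at ht
        obtain ⟨⟨-, hS⟩, hy, hu, hv, huv⟩ := ht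
        have hzy : z S y ≠ y := fun hc => hy ((hzfix S hS y).2 hc)
        have hzy' : z S y ∉ S := fun hc => by
          have := (hzfix S hS _).1 hc
          exact hzy ((z S).injective this)
        have hzz : z S (z S y) = y := by rw [← Perm.mul_apply, hz2 S hS, Perm.one_apply]
        have hnd : [y, z S y, u, v].Nodup := by
          simp [Ne.symm hzy, (ne_of_mem_of_not_mem hu hy).symm, (ne_of_mem_of_not_mem hv hy).symm,
            (ne_of_mem_of_not_mem hu hzy').symm, (ne_of_mem_of_not_mem hv hzy').symm, huv]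
        simp only [hR, φ, Finset.mem_sigma, hP, Finset.mem_powersetCard, Finset.subset_univ, true_and, Finset.mem_image]
        refine ⟨card_quad hnd, ⟨(u, v), z S⟩, ?_, rfl⟩
        simp only [Finset.mem_sigma, Finset.mem_offDiag, Finset.mem_filter, Finset.mem_univ, true_and]
        refine ⟨⟨by simp, by simp, huv⟩, (mem_lifts.1 (hz S hS)).1, (hzfix S hS u).1 hu, (hzfix S hS v).1 hv, fun x hx x1 x2 => ?_⟩
        simp only [Finset.mem_insert, Finset.mem_singleton] at hx
        rcases hx with rfl | rfl | rfl | rfl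
        · exact ⟨by simp, hzy⟩
        · exact ⟨by simp [hzz], by rw [hzz]; exact Ne.symm hzy⟩
        · exact absurd rfl x1
        · exact absurd rfl x2
      · obtain ⟨T, ⟨u, v⟩, g⟩ := r
        refine (Finset.card_le_card (t := (T \ {u, v}).image fun y =>
          (⟨Finset.univ.filter (fun x => g x = x), (y, u, v)⟩ : Σ _ : Finset α, α × α × α)) ?_).trans (Finset.card_image_le.trans ?_)
        · rintro ⟨S, y, u', v'⟩ ht
          simp only [Finset.mem_filter, hL, Finset.mem_sigma, Finset.mem_product, Finset.mem_offDiag, Finset.mem_sdiff, Finset.mem_univ,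
            true_and, hP, Finset.mem_powersetCard, φ, Sigma.mk.injEq, heq_eq_eq, Prod.mk.injEq] at ht
          obtain ⟨⟨⟨-, hS⟩, hy, hu, hv, -⟩, hT, ⟨eu, ev⟩, eg⟩ := ht
          subst eu ev eg
          refine Finset.mem_image.2 ⟨y, ?_, ?_⟩
          · simp only [Finset.mem_sdiff, Finset.mem_insert, Finset.mem_singleton, not_or]
            exact ⟨hT ▸ Finset.mem_insert_self _ _, (ne_of_mem_of_not_mem hu hy).symm, (ne_of_mem_of_not_mem hv hy).symm⟩
          · have : Finset.univ.filter (fun x => z S x = x) = S := by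
              ext x; simp [hzfix S hS x]
            rw [this]
        · simp only [hR, Finset.mem_sigma, hP, Finset.mem_powersetCard, Finset.mem_image] at hr
          obtain ⟨⟨-, hTc⟩, ⟨⟨u', v'⟩, g'⟩, hq, he'⟩ := hr
          simp only [Prod.mk.injEq] at he'
          obtain ⟨⟨rfl, rfl⟩, rfl⟩ := he'
          simp only [Finset.mem_sigma, Finset.mem_offDiag] at hq
          rw [Finset.card_sdiff_of_subset (by simp [Finset.insert_subset_iff, hq.1.1, hq.1.2.1]), hTc, Finset.card_pair hq.1.2.2]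
    rw [hLc] at hle
    have hPpos : 0 < P.card := by
      rw [hP, Finset.card_powersetCard, Finset.card_univ]
      exact Nat.choose_pos (by omega)
    have h1 : P.card * ((n - 4) * 12) ≤ P.card * (2 * (12 * e)) := hle.trans (by rw [Nat.mul_left_comm]; exact Nat.mul_le_mul_left 2 hRc)
    have := Nat.le_of_mul_le_mul_left h1 hPpos
    omega
  -- so every point is fixed by some lift
  have hall : ∀ a b c d : α, [a, b, c, d].Nodup → ∀ x ∉ quad a b c d, ∃ g ∈ lifts G (quad a b c d) (swap a b), g x = x := by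
    intro a b c d h x hx
    by_contra hno
    push Not at hno
    obtain ⟨g₀, hg₀⟩ := lift_swap_exists hkt h
    have hsum : ((lifts G (quad a b c d) (swap a b)).sigma fun g => extraFix (quad a b c d) g).card = 2 * e := by
      rw [Finset.card_sigma, Finset.sum_const_nat (htwo a b c d h), card_lifts hg₀, he, card_lifts_one_eq hkt hS₀ (card_quad h)]
      ring
    have hle := Finset.card_le_card_of_injOn (t := Finset.univ \ insert x (quad a b c d)) (fun t : Σ _ : Perm α, α => t.2)
      (s := (lifts G (quad a b c d) (swap a b)).sigma fun g => extraFix (quad a b c d) g)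
      (by
        rintro ⟨g, y⟩ ht
        simp only [Finset.mem_coe, Finset.mem_sigma, mem_extraFix] at ht
        simp only [Finset.mem_coe, Finset.mem_sdiff, Finset.mem_univ, true_and, Finset.mem_insert, not_or]
        exact ⟨fun e' => hno g ht.1 (e' ▸ ht.2.2), ht.2.1⟩)
      (by
        rintro ⟨g, y⟩ ht ⟨g', y'⟩ ht' he'
        simp only [Finset.mem_coe, Finset.mem_sigma, mem_extraFix] at ht ht'
        simp only at he'
        subst he'
        have hm : g'⁻¹ * g = 1 := hreg _ (G.mul_mem (G.inv_mem (mem_lifts.1 ht'.1).1) (mem_lifts.1 ht.1).1)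
          (insert y (quad a b c d)) (by rw [Finset.card_insert_of_notMem ht.2.1, card_quad h]; omega) fun u hu => by
            rw [Perm.mul_apply, Perm.coe_inv, Equiv.symm_apply_eq]
            rcases Finset.mem_insert.1 hu with rfl | hu
            · rw [ht.2.2, ht'.2.2]
            · rw [(mem_lifts.1 ht.1).2 u hu, (mem_lifts.1 ht'.1).2 u hu]
        rw [inv_mul_eq_one.1 hm])
    rw [hsum, Finset.card_sdiff_of_subset (Finset.subset_univ _), Finset.card_univ, Finset.card_insert_of_notMem hx, card_quad h, ← hn] at hle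
    omega
  obtain ⟨Δ, -, hΔ⟩ := Finset.exists_subset_card_eq (s := (Finset.univ : Finset α)) (n := 5) (by rw [Finset.card_univ]; omega)
  refine hfail Δ hΔ (symOn_of_swap fun a ha b hb hab => ?_).altOn
  obtain ⟨x, c, d, hxc, hxd, hcd, hrest⟩ := Finset.card_eq_three.1 (show (Δ \ {a, b}).card = 3 by
    rw [Finset.card_sdiff_of_subset (by simp [Finset.insert_subset_iff, ha, hb]), hΔ, Finset.card_pair hab])
  have hm : ∀ v ∈ ({x, c, d} : Finset α), v ∈ Δ ∧ v ≠ a ∧ v ≠ b := fun v hv => by
    rw [← hrest] at hv; simpa using hv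
  obtain ⟨hc, hca, hcb⟩ := hm c (by simp)
  obtain ⟨hd, hda, hdb⟩ := hm d (by simp)
  obtain ⟨hx, hxa, hxb⟩ := hm x (by simp)
  have hnd : [a, b, c, d].Nodup := by simp [hab, Ne.symm hca, Ne.symm hcb, Ne.symm hda, Ne.symm hdb, hcd]
  obtain ⟨g, hg, hgx⟩ := hall a b c d hnd x (by simp [quad, hxa, hxb, hxc, hxd])
  obtain ⟨hgG, ga, gb, gc, gd⟩ := (mem_lifts_swap hnd).1 hg
  refine swap_mem_indGroup ha hb hgG ga gb fun v hv v1 v2 => ?_
  have : v ∈ ({x, c, d} : Finset α) := by rw [← hrest]; simp [hv, v1, v2]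
  simp only [Finset.mem_insert, Finset.mem_singleton] at this
  rcases this with rfl | rfl | rfl
  exacts [hgx, gc, gd]

include hkt hreg in
theorem no_extra_fix (h5 : 5 ≤ Fintype.card α) (hfail : ∀ Δ : Finset α, Δ.card = 5 → ¬ AltOn G Δ)
    {a b c d x : α} (h : [a, b, c, d].Nodup) (hx : x ∉ quad a b c d) {g : Perm α}
    (hg : g ∈ lifts G (quad a b c d) (swap a b)) : g x ≠ x :=
  fun hgx => two_false hkt hreg h5 hfail (two_of_fix hkt hreg hfail h hx hg hgx)

end Cfsg.Homog
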