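import Mathlib

/-! Involutions in permutation groups. -/

set_option autoImplicit false
set_option linter.unusedSectionVars false

open Equiv

namespace Cfsg.Homog

variable {α : Type*} [Fintype α] [DecidableEq α]

theorem sign_of_sq_eq_one {σ : Perm α} (h : σ * σ = 1) : Perm.sign σ = (-1) ^ (σ.support.card / 2) := by
  have h2 : ∀ c ∈ σ.cycleType, c = 2 := by
    have : Fact (Nat.Prime 2) := ⟨Nat.prime_two⟩
    exact (Perm.pow_prime_eq_one_iff (p := 2)).1 (by rw [pow_two, h])
  have e := Multiset.eq_replicate_card.2 h2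
  rw [Perm.sign_of_cycleType, ← Perm.sum_cycleType, e, Multiset.sum_replicate, Multiset.card_replicate, smul_eq_mul,
    Nat.mul_div_cancel _ (by norm_num : 0 < 2), pow_add, pow_mul', neg_one_sq, one_pow, one_mul]

theorem even_support_of_sq_eq_one {σ : Perm α} (h : σ * σ = 1) : Even σ.support.card := by
  have h2 : ∀ c ∈ σ.cycleType, c = 2 := by
    have : Fact (Nat.Prime 2) := ⟨Nat.prime_two⟩
    exact (Perm.pow_prime_eq_one_iff (p := 2)).1 (by rw [pow_two, h])
  rw [← Perm.sum_cycleType, Multiset.eq_replicate_card.2 h2, Multiset.sum_replicate, smul_eq_mul, mul_comm]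
  exact even_two_mul _

theorem card_fix_add_card_support (σ : Perm α) :
    (Finset.univ.filter fun x => σ x = x).card + σ.support.card = Fintype.card α := by
  rw [← Finset.card_univ, ← Finset.card_filter_add_card_filter_not (s := Finset.univ) (fun x => σ x = x)]
  rfl

/-- A power of `g` of `2`-power order agreeing with `g` where `g` is an involution. -/
theorem exists_two_part (g : Perm α) :
    ∃ t : Perm α, (∃ m : ℕ, Odd m ∧ t = g ^ m) ∧ (∃ j : ℕ, t ^ (2 ^ j) = 1) ∧ ∀ x, g (g x) = x → t x = g x := by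
  obtain ⟨m, hm, hd⟩ : ∃ m, Odd m ∧ ∃ j, orderOf g = 2 ^ j * m := by
    obtain ⟨j, m, hm, e⟩ := Nat.exists_eq_two_pow_mul_odd (orderOf_pos g).ne'
    exact ⟨m, hm, j, e⟩
  obtain ⟨j, hj⟩ := hd
  refine ⟨g ^ m, ⟨m, hm, rfl⟩, ⟨j, by rw [← pow_mul, mul_comm, ← hj, pow_orderOf_eq_one]⟩, fun x hx => ?_⟩
  obtain ⟨r, rfl⟩ := hm
  have key : ∀ r : ℕ, (g ^ (2 * r)) x = x := fun r => by
    induction r with
    | zero => rfl
    | succ r ih => rw [Nat.mul_succ, pow_add, Perm.mul_apply, pow_two, Perm.mul_apply, hx, ih]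
  rw [pow_succ', Perm.mul_apply, key]

/-- Two involutions with product of odd order are conjugate by a power of that product. -/
theorem conj_of_odd_mul {H : Type*} [Group H] {i i' : H} (hi : i * i = 1) (hi' : i' * i' = 1) (hodd : Odd (orderOf (i' * i))) :
    ∃ k ∈ Subgroup.zpowers (i' * i), k * i * k⁻¹ = i' := by
  obtain ⟨r, hr⟩ := hodd
  refine ⟨(i' * i) ^ (r + 1), pow_mem (Subgroup.mem_zpowers _) _, ?_⟩
  have hii : i⁻¹ = i := inv_eq_of_mul_eq_one_right hi
  have hii' : i'⁻¹ = i' := inv_eq_of_mul_eq_one_right hi'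
  have hinv : i * (i' * i) * i⁻¹ = (i' * i)⁻¹ := by
    rw [mul_inv_rev, hii, hii']
    calc i * (i' * i) * i = i * i' * (i * i) := by group
      _ = i * i' := by rw [hi, mul_one]
  have h1 : i * (i' * i) ^ (r + 1) * i⁻¹ = ((i' * i) ^ (r + 1))⁻¹ := by rw [← conj_pow, hinv, inv_pow]
  calc (i' * i) ^ (r + 1) * i * ((i' * i) ^ (r + 1))⁻¹
      = (i' * i) ^ (r + 1) * i * (i * (i' * i) ^ (r + 1) * i⁻¹) := by rw [h1]
    _ = (i' * i) ^ (r + 1) * (i * i) * (i' * i) ^ (r + 1) * i⁻¹ := by group
    _ = (i' * i) ^ (2 * r + 1) * (i' * i) * i⁻¹ := by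
        rw [hi, mul_one, ← pow_add, show r + 1 + (r + 1) = 2 * r + 1 + 1 by ring, pow_succ]
    _ = i' := by rw [← hr, pow_orderOf_eq_one, one_mul, mul_assoc, mul_inv_cancel, mul_one]

/-- A group all of whose elements outside a central subgroup of order 2 square to its generator has order at most 8. -/
theorem card_le_eight {H : Type*} [Group H] [Fintype H] [DecidableEq H] {z : H} (hz : z * z = 1)
    (hsq : ∀ x : H, x ≠ 1 → x ≠ z → x * x = z) (hz1 : z ≠ 1) (hcomm : ∀ x : H, z * x = x * z) : Fintype.card H ≤ 8 := by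
  by_cases hA : ∃ a : H, a ≠ 1 ∧ a ≠ z
  · obtain ⟨a, ha1, haz⟩ := hA
    have haa := hsq a ha1 haz
    have hainv : a⁻¹ = a * z := inv_eq_of_mul_eq_one_right (by rw [← mul_assoc, haa, hz])
    have hcent : ∀ c : H, c * a = a * c → c ∈ ({1, z, a, a * z} : Finset H) := by
      intro c hc
      by_cases c1 : c = 1
      · simp [c1]
      by_cases c2 : c = z
      · simp [c2]
      have hcc := hsq c c1 c2
      have : (a⁻¹ * c) * (a⁻¹ * c) = 1 := by
        have e : c * a⁻¹ = a⁻¹ * c := by
          rw [eq_inv_mul_iff_mul_eq, ← mul_assoc, ← hc, mul_assoc, mul_inv_cancel, mul_one]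
        calc (a⁻¹ * c) * (a⁻¹ * c) = a⁻¹ * (c * a⁻¹) * c := by group
          _ = (a * a)⁻¹ * (c * c) := by rw [e]; group
          _ = 1 := by rw [haa, hcc, inv_mul_cancel]
      have h2 : a⁻¹ * c = 1 ∨ a⁻¹ * c = z := by
        by_contra hn
        push Not at hn
        exact hz1 ((hsq _ hn.1 hn.2).symm.trans this)
      rcases h2 with e | e
      · simp [(inv_mul_eq_one.1 e).symm]
      · simp [eq_mul_of_inv_mul_eq e]
    have hanti : ∀ b : H, b * a ≠ a * b → b * a = a * b * z := by
      intro b hb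
      have hb1 : b ≠ 1 := fun e => hb (by rw [e, one_mul, mul_one])
      have hbz : b ≠ z := fun e => hb (by rw [e, hcomm])
      have hbb := hsq b hb1 hbz
      have h1 : a * b ≠ 1 := fun e => hb (by rw [eq_inv_of_mul_eq_one_right e, inv_mul_cancel, mul_inv_cancel])
      have h2 : a * b ≠ z := fun e => hb (by
        have : b = a := by rw [show b = a⁻¹ * z by rw [← e, inv_mul_cancel_left], hainv, mul_assoc, hz, mul_one]
        rw [this])
      have hab := hsq _ h1 h2
      have e : b * a = a⁻¹ * (a * b * (a * b)) * b⁻¹ := by group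
      rw [e, hab, hainv, inv_eq_of_mul_eq_one_right (show b * (b * z) = 1 by rw [← mul_assoc, hbb, hz]),
        mul_assoc a z z, hz, mul_one, mul_assoc]
    by_cases hB : ∃ b : H, b * a ≠ a * b
    · obtain ⟨b, hb⟩ := hB
      refine (Finset.card_le_card (t := ({1, z, a, a * z} : Finset H) ∪ ({1, z, a, a * z} : Finset H).image (b * ·)) fun c _ => ?_).trans
        ((Finset.card_union_le _ _).trans ((add_le_add Finset.card_le_four (Finset.card_image_le.trans Finset.card_le_four)).trans le_rfl))
      by_cases hc : c * a = a * c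
      · exact Finset.mem_union_left _ (hcent c hc)
      · refine Finset.mem_union_right _ (Finset.mem_image.2 ⟨b⁻¹ * c, hcent _ ?_, mul_inv_cancel_left b c⟩)
        have h1 := hanti b hb
        have h2 := hanti c hc
        have h3 : b⁻¹ * a = a * z * b⁻¹ := by
          rw [eq_mul_inv_iff_mul_eq, mul_assoc, inv_mul_eq_iff_eq_mul]
          calc a * b = a * b * (z * z) := by rw [hz, mul_one]
            _ = b * a * z := by rw [← mul_assoc, ← h1]
            _ = b * (a * z) := by rw [mul_assoc]
        calc b⁻¹ * c * a = b⁻¹ * (a * c * z) := by rw [mul_assoc, h2]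
          _ = b⁻¹ * a * (c * z) := by group
          _ = a * z * b⁻¹ * (c * z) := by rw [h3]
          _ = a * (z * (b⁻¹ * c)) * z := by group
          _ = a * ((b⁻¹ * c) * z) * z := by rw [hcomm]
          _ = a * (b⁻¹ * c) * (z * z) := by group
          _ = a * (b⁻¹ * c) := by rw [hz, mul_one]
    · push Not at hB
      exact ((Finset.card_le_card (t := ({1, z, a, a * z} : Finset H)) fun c _ => hcent c (hB c)).trans Finset.card_le_four).trans (by norm_num)
  · push Not at hA
    refine ((Finset.card_le_card (t := ({1, z} : Finset H)) fun c _ => ?_).trans Finset.card_le_two).trans (by norm_num)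
    by_cases c1 : c = 1
    · simp [c1]
    · simp [hA c c1]

end Cfsg.Homog
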