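import Cfsg.Agent.Homogeneous.FourA
import Cfsg.Agent.Homogeneous.Inv

/-! `k = 4`, semiregular case, with every transposition lift fixing only two points: impossible for degree at least 8. -/

set_option autoImplicit false
set_option linter.unusedSectionVars false

open Equiv

namespace Cfsg.Homog

variable {α : Type*} [Fintype α] [DecidableEq α]

/-- The standing hypotheses. -/
structure Rigid (G : Subgroup (Perm α)) : Prop where
  kt : KTrans G 4
  nef : ∀ a b c d x : α, [a, b, c, d].Nodup → x ∉ quad a b c d → ∀ g ∈ lifts G (quad a b c d) (swap a b), g x ≠ x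
  big : 8 ≤ Fintype.card α

namespace Rigid

variable {G : Subgroup (Perm α)} (hR : Rigid G)
include hR

theorem three_fix {i : Perm α} (hi : i ∈ G) (hii : i * i = 1) {c d x : α} (hcd : c ≠ d) (hcx : c ≠ x) (hdx : d ≠ x)
    (hc : i c = c) (hd : i d = d) (hx : i x = x) : i = 1 := by
  by_contra h1
  obtain ⟨a, ha⟩ : ∃ a, i a ≠ a := not_forall.1 fun h => h1 (Perm.ext h)
  have hia : i (i a) = a := by rw [← Perm.mul_apply, hii, Perm.one_apply]
  have ne : ∀ v, i v = v → a ≠ v ∧ i a ≠ v := fun v hv => ⟨fun e => ha (e.symm ▸ hv), fun e => by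
    have h2 := congrArg i e
    rw [hia, hv] at h2
    exact ha (h2.symm ▸ hv)⟩
  have hnd : [a, i a, c, d].Nodup := by simp [Ne.symm ha, ne c hc, ne d hd, hcd]
  exact hR.nef a (i a) c d x hnd (by simp [quad, Ne.symm (ne x hx).1, Ne.symm (ne x hx).2, hcx.symm, hdx.symm])
    i ((mem_lifts_swap hnd).2 ⟨hi, rfl, hia, hc, hd⟩) hx

theorem two_elt {g : Perm α} (hg : g ∈ G) {j : ℕ} (hj : g ^ (2 ^ j) = 1) {c d x : α} (hcd : c ≠ d) (hcx : c ≠ x) (hdx : d ≠ x)
    (hc : g c = c) (hd : g d = d) (hx : g x = x) : g = 1 := by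
  induction j generalizing g with
  | zero => simpa using hj
  | succ j ih =>
    refine hR.three_fix hg ?_ hcd hcx hdx hc hd hx
    exact ih (G.mul_mem hg hg) (by rw [← pow_two, ← pow_mul, ← pow_succ']; exact hj) (by simp [hc]) (by simp [hd]) (by simp [hx])

theorem odd_order {g : Perm α} (hg : g ∈ G) {c d x : α} (hcd : c ≠ d) (hcx : c ≠ x) (hdx : d ≠ x)
    (hc : g c = c) (hd : g d = d) (hx : g x = x) : Odd (orderOf g) := by
  rw [← Nat.not_even_iff_odd]
  intro he
  obtain ⟨m, hm⟩ := he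
  have h0 := orderOf_pos g
  have fix : ∀ v, g v = v → (g ^ m) v = v := fun v hv => Perm.pow_apply_eq_self_of_apply_eq_self hv m
  have h1 : g ^ m = 1 := hR.two_elt (pow_mem hg m) (j := 1)
    (by rw [← pow_mul, show m * 2 ^ 1 = m + m by ring, ← hm]; exact pow_orderOf_eq_one g) hcd hcx hdx (fix c hc) (fix d hd) (fix x hx)
  have := orderOf_le_of_pow_eq_one (by omega) h1
  omega

theorem dt_conj {a b c e : α} (hab : a ≠ b) (hac : a ≠ c) (hbc : b ≠ c) {i i' : Perm α} (hi : i ∈ G) (hi' : i' ∈ G)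
    (hii : i * i = 1) (hii' : i' * i' = 1) (ha : i a = b) (hc : i c = e) (ha' : i' a = b) (hc' : i' c = e) :
    ∃ k ∈ G, k a = a ∧ k c = c ∧ k * i * k⁻¹ = i' := by
  have r : ∀ v w, i v = w → i' v = w → (i' * i) v = v ∧ (i' * i) w = w := fun v w h h' => by
    have h2 : i w = v := by rw [← h, ← Perm.mul_apply, hii, Perm.one_apply]
    have h2' : i' w = v := by rw [← h', ← Perm.mul_apply, hii', Perm.one_apply]
    exact ⟨by rw [Perm.mul_apply, h, h2'], by rw [Perm.mul_apply, h2, h']⟩
  have hodd : Odd (orderOf (i' * i)) := hR.odd_order (G.mul_mem hi' hi) hab hac hbc (r a b ha ha').1 (r a b ha ha').2 (r c e hc hc').1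
  obtain ⟨k, hk, hke⟩ := conj_of_odd_mul hii hii' hodd
  obtain ⟨m, rfl⟩ := Subgroup.mem_zpowers_iff.1 hk
  exact ⟨_, zpow_mem (G.mul_mem hi' hi) m, Perm.zpow_apply_eq_self_of_apply_eq_self (r a b ha ha').1 m,
    Perm.zpow_apply_eq_self_of_apply_eq_self (r c e hc hc').1 m, hke⟩

/-- A transposition lift: an involution fixing exactly two points. -/
theorem exists_tlift {a b c d : α} (h : [a, b, c, d].Nodup) :
    ∃ t ∈ G, t * t = 1 ∧ t a = b ∧ t b = a ∧ ∀ v, t v = v ↔ v = c ∨ v = d := by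
  obtain ⟨g, hg⟩ := lift_swap_exists hR.kt h
  obtain ⟨hgG, ga, gb, gc, gd⟩ := (mem_lifts_swap h).1 hg
  obtain ⟨t, ⟨m, -, htm⟩, ⟨j, hj⟩, hagree⟩ := exists_two_part g
  have htG : t ∈ G := htm ▸ pow_mem hgG m
  have ta : t a = b := by rw [hagree a (by rw [ga, gb]), ga]
  have tb : t b = a := by rw [hagree b (by rw [gb, ga]), gb]
  have tc : t c = c := by rw [hagree c (by rw [gc, gc]), gc]
  have td : t d = d := by rw [hagree d (by rw [gd, gd]), gd]
  have hd := h
  simp only [List.nodup_cons, List.mem_cons, List.not_mem_nil, or_false, not_or] at hd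
  have htt : t * t = 1 := hR.two_elt (G.mul_mem htG htG) (j := j) (by rw [← pow_two, ← pow_mul, mul_comm, pow_mul, hj, one_pow])
    hd.1.1 hd.1.2.1 hd.2.1.1 (by simp [ta, tb]) (by simp [ta, tb]) (by simp [tc])
  refine ⟨t, htG, htt, ta, tb, fun v => ⟨fun hv => ?_, ?_⟩⟩
  · by_contra hn
    push Not at hn
    have h1 := hR.three_fix htG htt hd.2.2.1 (Ne.symm hn.1) (Ne.symm hn.2) tc td hv
    rw [h1, Perm.one_apply] at ta
    exact hd.1.1 ta
  · rintro (rfl | rfl)
    exacts [tc, td]

/-- Every involution fixes exactly two points. -/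
theorem fix_two {i : Perm α} (hi : i ∈ G) (hii : i * i = 1) (hi1 : i ≠ 1) :
    (Finset.univ.filter fun v => i v = v).card = 2 := by
  classical
  have hle : ∀ j ∈ G, j * j = 1 → j ≠ 1 → (Finset.univ.filter fun v => j v = v).card ≤ 2 := fun j hj hjj hj1 => by
    by_contra hc
    obtain ⟨c, d, x, hc', hd', hx', hcd, hcx, hdx⟩ := Finset.two_lt_card_iff.1 (not_le.1 hc)
    simp only [Finset.mem_filter, Finset.mem_univ, true_and] at hc' hd' hx'
    exact hj1 (hR.three_fix hj hjj hcd hcx hdx hc' hd' hx')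
  have hsum := card_fix_add_card_support i
  have hb := hR.big
  have h4 := hle i hi hii hi1
  obtain ⟨a, ha⟩ := Finset.card_pos.1 (show 0 < i.support.card by omega)
  obtain ⟨c, hc⟩ := Finset.card_pos.1 (show 0 < (i.support \ {a, i a}).card by
    have := Finset.le_card_sdiff {a, i a} i.support
    have : ({a, i a} : Finset α).card ≤ 2 := Finset.card_le_two
    omega)
  simp only [Finset.mem_sdiff, Finset.mem_insert, Finset.mem_singleton, not_or, Perm.mem_support] at ha hc
  obtain ⟨hc0, hca, hcia⟩ := hc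
  have hi2 : ∀ v, i (i v) = v := fun v => by rw [← Perm.mul_apply, hii, Perm.one_apply]
  have hnd : [a, i a, c, i c].Nodup := by
    have e1 : a ≠ i c := fun e => hcia (by rw [e, hi2])
    have e2 : i a ≠ i c := fun e => hca (i.injective e).symm
    simp [Ne.symm ha, Ne.symm hca, e1, Ne.symm hcia, e2, Ne.symm hc0]
  obtain ⟨t, htG, htt, ta, tb, tfix⟩ := hR.exists_tlift hnd
  -- a second pair of `t`
  obtain ⟨e, he⟩ := Finset.card_pos.1 (show 0 < (Finset.univ \ quad a (i a) c (i c)).card by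
    rw [Finset.card_sdiff_of_subset (Finset.subset_univ _), Finset.card_univ, card_quad hnd]; omega)
  simp only [quad, Finset.mem_sdiff, Finset.mem_univ, true_and, Finset.mem_insert, Finset.mem_singleton, not_or] at he
  have te : t e ≠ e := fun h => by
    rcases (tfix e).1 h with h | h
    exacts [he.2.2.1 h, he.2.2.2 h]
  have ht2 : ∀ v, t (t v) = v := fun v => by rw [← Perm.mul_apply, htt, Perm.one_apply]
  have hnd2 : [a, i a, e, t e].Nodup := by
    have e1 : a ≠ t e := fun h => he.2.1 (by rw [← ta, h, ht2])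
    have e2 : i a ≠ t e := fun h => he.1 (by rw [← tb, h, ht2])
    simp [Ne.symm ha, Ne.symm he.1, e1, Ne.symm he.2.1, e2, Ne.symm te]
  obtain ⟨w, hwG, wa, wia, we, wte⟩ := hR.kt.four hnd2 hnd
  have hd := hnd
  simp only [List.nodup_cons, List.mem_cons, List.not_mem_nil, or_false, not_or] at hd
  obtain ⟨k, hkG, -, -, hk⟩ := hR.dt_conj hd.1.1 hd.1.2.1 hd.2.1.1 (i := w * t * w⁻¹) (i' := i) (e := i c)
    (G.mul_mem (G.mul_mem hwG htG) (G.inv_mem hwG)) hi
    (by calc w * t * w⁻¹ * (w * t * w⁻¹) = w * (t * t) * w⁻¹ := by group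
      _ = 1 := by rw [htt]; simp) hii
    (by rw [Perm.mul_apply, Perm.mul_apply, show w⁻¹ a = a by rw [Perm.coe_inv, Equiv.symm_apply_eq, wa], ta, wia])
    (by rw [Perm.mul_apply, Perm.mul_apply, show w⁻¹ c = e by rw [Perm.coe_inv, Equiv.symm_apply_eq, we], wte]) rfl rfl
  refine le_antisymm h4 ?_
  have hfix : ∀ v, t v = v → i ((k * w) v) = (k * w) v := fun v hv => by
    rw [← hk]; simp [hv]
  refine (Finset.card_pair (show (k * w) c ≠ (k * w) (i c) from fun h => hc0 ((k * w).injective h).symm)).ge.trans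
    (Finset.card_le_card fun v hv => ?_)
  simp only [Finset.mem_insert, Finset.mem_singleton] at hv
  simp only [Finset.mem_filter, Finset.mem_univ, true_and]
  rcases hv with rfl | rfl
  · exact hfix c ((tfix c).2 (Or.inl rfl))
  · exact hfix (i c) ((tfix (i c)).2 (Or.inr rfl))

end Rigid

end Cfsg.Homog
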