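import Cfsg.Agent.Homogeneous.Inv

/-! A doubly transitive group with two-point stabilisers `{1, t}` and fixed-point-free swapping involutions. -/

set_option autoImplicit false
set_option linter.unusedSectionVars false

open Equiv

namespace Cfsg.Homog

variable {β : Type*} [Fintype β] [DecidableEq β]

theorem sign_fpf {h : Perm β} (hh : h * h = 1) (hf : ∀ P, h P ≠ P) : Perm.sign h = (-1) ^ (Fintype.card β / 2) := by
  rw [sign_of_sq_eq_one hh]
  have : h.support = Finset.univ := by ext P; simp [hf P]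
  rw [this, Finset.card_univ]

theorem sign_two_fix {t : Perm β} (ht : t * t = 1) {P Q : β} (hPQ : P ≠ Q) (hf : ∀ R, t R = R ↔ R = P ∨ R = Q) :
    Perm.sign t = (-1) ^ ((Fintype.card β - 2) / 2) := by
  rw [sign_of_sq_eq_one ht]
  have : t.support = Finset.univ \ {P, Q} := by ext R; simp [hf R]
  rw [this, Finset.card_sdiff_of_subset (Finset.subset_univ _), Finset.card_univ, Finset.card_pair hPQ]

theorem regular_subgroup (U : Subgroup (Perm β)) (Good : Perm β → Prop) (h3 : 3 ≤ Fintype.card β)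
    (T2 : ∀ P Q P' Q' : β, P ≠ Q → P' ≠ Q' → ∃ u ∈ U, u P = P' ∧ u Q = Q')
    (S2 : ∀ P Q : β, P ≠ Q → ∃ t ∈ U, t * t = 1 ∧ (∀ R, t R = R ↔ R = P ∨ R = Q) ∧ ∀ u ∈ U, u P = P → u Q = Q → u = 1 ∨ u = t)
    (H : ∀ P Q : β, P ≠ Q → ∃ h ∈ U, h * h = 1 ∧ h P = Q ∧ (∀ R, h R ≠ R) ∧ Good h) :
    ∃ N : Subgroup (Perm β), N ≤ U ∧ Nat.card N = Fintype.card β ∧ ∀ u ∈ N, u ≠ 1 → Good u := by
  classical
  set p := Fintype.card β with hp
  have h2 : ∀ P : β, ∃ Q, P ≠ Q := fun P => by
    obtain ⟨Q, hQ⟩ := Fintype.exists_ne_of_one_lt_card (by omega : 1 < Fintype.card β) P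
    exact ⟨Q, hQ.symm⟩
  choose! t htU htt htfix htst using S2
  choose! h hhU hhh hPQ hfpf hgood using H
  obtain ⟨P₀⟩ : Nonempty β := Fintype.card_pos_iff.1 (by omega)
  obtain ⟨Q₀, hPQ₀⟩ := h2 P₀
  have hpe : Even p := by
    have := even_support_of_sq_eq_one (hhh P₀ Q₀ hPQ₀)
    have e : (h P₀ Q₀).support = Finset.univ := by ext P; simp [hfpf P₀ Q₀ hPQ₀ P]
    rwa [e, Finset.card_univ] at this
  have sh : ∀ P Q, P ≠ Q → Perm.sign (h P Q) = (-1) ^ (p / 2) := fun P Q hne => sign_fpf (hhh P Q hne) (hfpf P Q hne)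
  have st : ∀ P Q, P ≠ Q → Perm.sign (t P Q) = (-1) ^ ((p - 2) / 2) := fun P Q hne => sign_two_fix (htt P Q hne) hne (htfix P Q hne)
  have opp : ((-1 : ℤˣ)) ^ (p / 2) = - ((-1 : ℤˣ) ^ ((p - 2) / 2)) := by
    rw [show p / 2 = (p - 2) / 2 + 1 by omega, pow_succ]; simp
  rcases Int.units_eq_one_or ((-1 : ℤˣ) ^ ((p - 2) / 2)) with e | e
  · -- the `t` even, the `h` odd: impossible
    exfalso
    rw [e] at opp
    have sh' : ∀ P Q, P ≠ Q → Perm.sign (h P Q) = -1 := fun P Q hne => by rw [sh P Q hne, opp]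
    have st' : ∀ P Q, P ≠ Q → Perm.sign (t P Q) = 1 := fun P Q hne => by rw [st P Q hne, e]
    obtain ⟨R₀, hR₀⟩ : ∃ R, R ∉ ({P₀, Q₀} : Finset β) := by
      by_contra hn
      push Not at hn
      have : (Finset.univ : Finset β).card ≤ ({P₀, Q₀} : Finset β).card := Finset.card_le_card fun R _ => hn R
      rw [Finset.card_univ, Finset.card_pair hPQ₀] at this
      omega
    simp only [Finset.mem_insert, Finset.mem_singleton, not_or] at hR₀
    set d := (h P₀ R₀) * ((h R₀ Q₀) * (h P₀ Q₀)) with hd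
    have hdU : d ∈ U := U.mul_mem (hhU _ _ (Ne.symm hR₀.1)) (U.mul_mem (hhU _ _ hR₀.2) (hhU _ _ hPQ₀))
    have hdP : d P₀ = P₀ := by
      have e1 : h R₀ Q₀ Q₀ = R₀ := by
        conv_lhs => arg 2; rw [← hPQ R₀ Q₀ hR₀.2]
        rw [← Perm.mul_apply, hhh R₀ Q₀ hR₀.2, Perm.one_apply]
      have e2 : h P₀ R₀ R₀ = P₀ := by
        conv_lhs => arg 2; rw [← hPQ P₀ R₀ (Ne.symm hR₀.1)]
        rw [← Perm.mul_apply, hhh P₀ R₀ (Ne.symm hR₀.1), Perm.one_apply]
      rw [hd, Perm.mul_apply, Perm.mul_apply, hPQ P₀ Q₀ hPQ₀, e1, e2]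
    have hds : Perm.sign d = -1 := by
      rw [hd, Perm.sign_mul, Perm.sign_mul, sh' _ _ (Ne.symm hR₀.1), sh' _ _ hR₀.2, sh' _ _ hPQ₀]; rfl
    obtain ⟨d', ⟨m, hm, hdm⟩, ⟨j, hj⟩, -⟩ := exists_two_part d
    have hd's : Perm.sign d' = -1 := by rw [hdm, map_pow, hds, hm.neg_one_pow]
    have : Fact (Nat.Prime 2) := ⟨Nat.prime_two⟩
    have hmod := Perm.card_fixedPoints_modEq (p := 2) (n := j) (f := d'.toFun) (by
      have h1 : (d'.toFun)^[2 ^ j] = id := by
        rw [show d'.toFun = ⇑d' from rfl, Perm.iterate_eq_pow, hj]; rfl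
      exact h1)
    obtain ⟨Q, hQP, hQ⟩ : ∃ Q, Q ≠ P₀ ∧ d' Q = Q := by
      by_contra hn
      push Not at hn
      have hset : Fintype.card (Function.fixedPoints d'.toFun) = 1 := by
        rw [Fintype.card_eq_one_iff]
        refine ⟨⟨P₀, by rw [hdm]; exact Perm.pow_apply_eq_self_of_apply_eq_self hdP m⟩, fun ⟨Q, hQ⟩ => Subtype.ext ?_⟩
        by_contra hne
        exact hn Q hne hQ
      rw [hset, ← hp] at hmod
      unfold Nat.ModEq at hmod
      obtain ⟨r, hr⟩ := hpe
      omega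
    have hd'P : d' P₀ = P₀ := by rw [hdm]; exact Perm.pow_apply_eq_self_of_apply_eq_self hdP m
    rcases htst P₀ Q (Ne.symm hQP) d' (hdm ▸ pow_mem hdU m) hd'P hQ with e' | e' <;> rw [e'] at hd's
    · rw [Perm.sign_one] at hd's; exact absurd hd's (by decide)
    · rw [st' _ _ (Ne.symm hQP)] at hd's; exact absurd hd's (by decide)
  rw [e, neg_neg] at opp
  have sh' : ∀ P Q, P ≠ Q → Perm.sign (h P Q) = 1 := fun P Q hne => by rw [sh P Q hne, opp]
  have st' : ∀ P Q, P ≠ Q → Perm.sign (t P Q) = -1 := fun P Q hne => by rw [st P Q hne, e]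
  let E : Finset (Perm β) := Finset.univ.filter fun u => u ∈ U ∧ Perm.sign u = 1
  have memE : ∀ {u}, u ∈ E ↔ u ∈ U ∧ Perm.sign u = 1 := fun {u} => by simp [E]
  have uniq : ∀ P Q : β, P ≠ Q → ∀ u ∈ E, ∀ v ∈ E, u P = v P → u Q = v Q → u = v := by
    intro P Q hne u hu v hv eP eQ
    have h1 : (v⁻¹ * u) P = P := by simp [eP]
    have h2 : (v⁻¹ * u) Q = Q := by simp [eQ]
    rcases htst P Q hne _ (U.mul_mem (U.inv_mem (memE.1 hv).1) (memE.1 hu).1) h1 h2 with e' | e'
    · exact (inv_mul_eq_one.1 e').symm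
    · have := congrArg Perm.sign e'
      rw [st' P Q hne, Perm.sign_mul, Perm.sign_inv, (memE.1 hu).2, (memE.1 hv).2] at this
      exact absurd this (by decide)
  have T2E : ∀ P Q P' Q' : β, P ≠ Q → P' ≠ Q' → ∃ u ∈ E, u P = P' ∧ u Q = Q' := by
    intro P Q P' Q' hne hne'
    obtain ⟨u, hu, uP, uQ⟩ := T2 P Q P' Q' hne hne'
    rcases Int.units_eq_one_or (Perm.sign u) with e' | e'
    · exact ⟨u, memE.2 ⟨hu, e'⟩, uP, uQ⟩
    · refine ⟨u * t P Q, memE.2 ⟨U.mul_mem hu (htU P Q hne), by rw [Perm.sign_mul, e', st' P Q hne]; decide⟩, ?_, ?_⟩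
      · rw [Perm.mul_apply, (htfix P Q hne P).2 (Or.inl rfl), uP]
      · rw [Perm.mul_apply, (htfix P Q hne Q).2 (Or.inr rfl), uQ]
  have h1E : (1 : Perm β) ∈ E := memE.2 ⟨U.one_mem, Perm.sign_one⟩
  have cardE : E.card = p * p - p := by
    rw [show p * p - p = (Finset.univ : Finset β).offDiag.card by rw [Finset.offDiag_card, Finset.card_univ]]
    refine Finset.card_bij (fun u _ => (u P₀, u Q₀)) (fun u _ => ?_) (fun u hu v hv e' => ?_) (fun q hq => ?_)
    · simpa using hPQ₀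
    · simp only [Prod.mk.injEq] at e'
      exact uniq P₀ Q₀ hPQ₀ u hu v hv e'.1 e'.2
    · simp only [Finset.mem_offDiag, Finset.mem_univ, true_and] at hq
      obtain ⟨u, hu, u1, u2⟩ := T2E P₀ Q₀ q.1 q.2 hPQ₀ hq
      exact ⟨u, hu, by rw [u1, u2]⟩
  have cardFix : ∀ R : β, ((E.filter fun u => u R = R).erase 1).card = p - 2 := by
    intro R
    obtain ⟨S, hS⟩ := h2 R
    rw [Finset.card_erase_of_mem (Finset.mem_filter.2 ⟨h1E, rfl⟩ : (1 : Perm β) ∈ E.filter fun u => u R = R),
      show (E.filter fun u => u R = R).card = (Finset.univ.erase R).card from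
        Finset.card_bij (fun u _ => u S) (fun u hu => by
          rw [Finset.mem_filter] at hu
          simp only [Finset.mem_erase, Finset.mem_univ, and_true]
          exact fun e' => hS (u.injective (hu.2.trans e'.symm)))
        (fun u hu v hv e' => by
          rw [Finset.mem_filter] at hu hv
          exact uniq R S hS u hu.1 v hv.1 (hu.2.trans hv.2.symm) e')
        (fun S' hS' => by
          simp only [Finset.mem_erase, Finset.mem_univ, and_true] at hS'
          obtain ⟨u, hu, u1, u2⟩ := T2E R S R S' hS (Ne.symm hS')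
          exact ⟨u, Finset.mem_filter.2 ⟨hu, u1⟩, u2⟩),
      Finset.card_erase_of_mem (Finset.mem_univ R), Finset.card_univ, ← hp]
    omega
  let D : Finset (Perm β) := E.filter fun u => ∀ R, u R ≠ R
  have hsplit : E = insert 1 (D ∪ Finset.univ.biUnion fun R => (E.filter fun u => u R = R).erase 1) := by
    ext u
    simp only [D, Finset.mem_insert, Finset.mem_union, Finset.mem_filter, Finset.mem_biUnion, Finset.mem_univ, true_and,
      Finset.mem_erase]
    constructor
    · intro hu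
      by_cases u1 : u = 1
      · exact Or.inl u1
      right
      by_cases hf : ∀ R, u R ≠ R
      · exact Or.inl ⟨hu, hf⟩
      · push Not at hf
        obtain ⟨R, hR⟩ := hf
        exact Or.inr ⟨R, u1, hu, hR⟩
    · rintro (rfl | ⟨hu, -⟩ | ⟨R, -, hu, -⟩)
      exacts [h1E, hu, hu]
  have cardD : D.card + 1 + p * (p - 2) = p * p - p := by
    rw [← cardE]
    conv_rhs => rw [hsplit]
    rw [Finset.card_insert_of_notMem, Finset.card_union_of_disjoint, Finset.card_biUnion, Finset.sum_const_nat fun R _ => cardFix R,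
      Finset.card_univ]
    · ring
    · intro R _ S _ hRS
      rw [Function.onFun, Finset.disjoint_left]
      intro u hu hu'
      simp only [Finset.mem_erase, Finset.mem_filter] at hu hu'
      exact hu.1 (uniq R S hRS u hu.2.1 1 h1E (by simp [hu.2.2]) (by simp [hu'.2.2]))
    · rw [Finset.disjoint_left]
      intro u hu hu'
      simp only [Finset.mem_biUnion, Finset.mem_erase, Finset.mem_filter, D] at hu hu'
      obtain ⟨R, -, -, -, hR⟩ := hu'
      exact hu.2 R hR
    · simp [D]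
      exact fun _ => ⟨P₀⟩
  have hD : D = (Finset.univ.erase P₀).image (h P₀) := by
    symm
    refine Finset.eq_of_subset_of_card_le (fun u hu => ?_) ?_
    · obtain ⟨Q, hQ, rfl⟩ := Finset.mem_image.1 hu
      simp only [Finset.mem_erase, Finset.mem_univ, and_true] at hQ
      exact Finset.mem_filter.2 ⟨memE.2 ⟨hhU _ _ (Ne.symm hQ), sh' _ _ (Ne.symm hQ)⟩, hfpf _ _ (Ne.symm hQ)⟩
    · rw [Finset.card_image_of_injOn, Finset.card_erase_of_mem (Finset.mem_univ _), Finset.card_univ, ← hp]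
      · obtain ⟨r, hr⟩ : ∃ r, p = r + 3 := ⟨p - 3, by omega⟩
        have : p * p - p = p * (p - 2) + p := by
          rw [hr, show r + 3 - 2 = r + 1 by omega]
          refine Nat.sub_eq_of_eq_add ?_
          ring
        omega
      · intro Q hQ Q' hQ' e'
        simp only [Finset.mem_coe, Finset.mem_erase, Finset.mem_univ, and_true] at hQ hQ'
        rw [← hPQ P₀ Q (Ne.symm hQ), e', hPQ P₀ Q' (Ne.symm hQ')]
  have hDinv : ∀ u ∈ D, u * u = 1 := fun u hu => by
    rw [hD] at hu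
    obtain ⟨Q, hQ, rfl⟩ := Finset.mem_image.1 hu
    simp only [Finset.mem_erase, Finset.mem_univ, and_true] at hQ
    exact hhh _ _ (Ne.symm hQ)
  have memN : ∀ u, u ∈ insert 1 D ↔ u ∈ E ∧ (u = 1 ∨ ∀ R, u R ≠ R) := fun u => by
    simp only [D, Finset.mem_insert, Finset.mem_filter]
    constructor
    · rintro (rfl | ⟨a, b⟩)
      exacts [⟨h1E, Or.inl rfl⟩, ⟨a, Or.inr b⟩]
    · rintro ⟨a, b | b⟩
      exacts [Or.inl b, Or.inr ⟨a, b⟩]
  have inv_of : ∀ u ∈ D, u⁻¹ = u := fun u hu => inv_eq_of_mul_eq_one_right (hDinv u hu)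
  let N : Subgroup (Perm β) :=
    { carrier := ↑(insert 1 D)
      one_mem' := Finset.mem_insert_self _ _
      mul_mem' := by
        intro u v hu hv
        rw [Finset.mem_coe] at hu hv ⊢
        rcases Finset.mem_insert.1 hu with rfl | hu'
        · rwa [one_mul]
        rcases Finset.mem_insert.1 hv with rfl | hv'
        · rwa [mul_one]
        obtain ⟨hu1, -⟩ := (memN u).1 hu
        obtain ⟨hv1, -⟩ := (memN v).1 hv
        refine (memN _).2 ⟨memE.2 ⟨U.mul_mem (memE.1 hu1).1 (memE.1 hv1).1,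
          by rw [Perm.sign_mul, (memE.1 hu1).2, (memE.1 hv1).2, one_mul]⟩, ?_⟩
        by_contra hn
        push Not at hn
        obtain ⟨huv, R, hR⟩ := hn
        have hvu : v R = u R := by
          have h1 := congrArg u hR
          rwa [Perm.mul_apply, ← Perm.mul_apply u u, hDinv u hu', Perm.one_apply] at h1
        have hne : R ≠ v R := ((Finset.mem_filter.1 hv').2 R).symm
        have e' : u = v := uniq R (v R) hne u hu1 v hv1 hvu.symm (by
          conv_lhs => rw [hvu]
          rw [← Perm.mul_apply u u, hDinv u hu', ← Perm.mul_apply v v, hDinv v hv'])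
        exact huv (by rw [e', hDinv v hv'])
      inv_mem' := by
        intro u hu
        rw [Finset.mem_coe] at hu ⊢
        rcases Finset.mem_insert.1 hu with rfl | hu'
        · rwa [inv_one]
        · rwa [inv_of u hu'] }
  refine ⟨N, fun u hu => (memE.1 ((memN u).1 (Finset.mem_coe.1 hu)).1).1, ?_, fun u hu hu1 => ?_⟩
  · rw [show Nat.card N = Nat.card ↥(↑(insert 1 D) : Set (Perm β)) from rfl, Nat.card_coe_set_eq, Set.ncard_coe_finset,
      Finset.card_insert_of_notMem (by simp only [D, Finset.mem_filter]; exact fun hh => hh.2 P₀ rfl), hD, Finset.card_image_of_injOn, Finset.card_erase_of_mem (Finset.mem_univ _), Finset.card_univ]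
    · omega
    · intro Q hQ Q' hQ' e'
      simp only [Finset.mem_coe, Finset.mem_erase, Finset.mem_univ, and_true] at hQ hQ'
      rw [← hPQ P₀ Q (Ne.symm hQ), e', hPQ P₀ Q' (Ne.symm hQ')]
  · have hu' : u ∈ D := (Finset.mem_insert.1 (Finset.mem_coe.1 hu)).resolve_left hu1
    rw [hD] at hu'
    obtain ⟨Q, hQ, rfl⟩ := Finset.mem_image.1 hu'
    simp only [Finset.mem_erase, Finset.mem_univ, and_true] at hQ
    exact hgood _ _ (Ne.symm hQ)

end Cfsg.Homog
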