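import Cfsg.Agent.Homogeneous.FourB
import Cfsg.Agent.Homogeneous.PairPerm

/-! The centraliser of an involution acting on its transpositions: the degree is 10. -/

set_option autoImplicit false
set_option linter.unusedSectionVars false

open Equiv

namespace Cfsg.Homog

variable {α : Type*} [Fintype α] [DecidableEq α]

/-- The transpositions of an involution, as two-element sets. -/
abbrev Pairs (g : Perm α) : Type _ := {P : Finset α // ∃ a, g a ≠ a ∧ P = {a, g a}}

namespace Rigid

variable {G : Subgroup (Perm α)} (hR : Rigid G)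
include hR

theorem degree_eq_ten (hreg : Semireg G 4) : Fintype.card α = 10 := by
  classical
  have hb := hR.big
  obtain ⟨S, -, hS⟩ := Finset.exists_subset_card_eq (s := (Finset.univ : Finset α)) (n := 4) (by rw [Finset.card_univ]; omega)
  obtain ⟨a₀, b₀, u₀, v₀, hnd0, -⟩ := exists_quad hS
  obtain ⟨g, hgG, hgg, ga0, -, gfix⟩ := hR.exists_tlift hnd0
  have g2 : ∀ x, g (g x) = x := fun x => by rw [← Perm.mul_apply, hgg, Perm.one_apply]
  have hd0 := hnd0
  simp only [List.nodup_cons, List.mem_cons, List.not_mem_nil, or_false, not_or] at hd0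
  have huv : u₀ ≠ v₀ := hd0.2.2.1
  have hg1 : g ≠ 1 := fun e => by rw [e, Perm.one_apply] at ga0; exact hd0.1.1 ga0
  let C : Subgroup (Perm α) := G ⊓ Subgroup.centralizer {g}
  have memC : ∀ {w : Perm α}, w ∈ C → w ∈ G ∧ ∀ x, w (g x) = g (w x) := fun {w} hw => by
    refine ⟨hw.1, fun x => ?_⟩
    have := Subgroup.mem_centralizer_singleton_iff.1 hw.2
    rw [← Perm.mul_apply, this, Perm.mul_apply]
  have mkC : ∀ {w : Perm α}, w ∈ G → w * g = g * w → w ∈ C := fun {w} h1 h2 =>
    ⟨h1, Subgroup.mem_centralizer_singleton_iff.2 h2⟩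
  have gC : g ∈ C := mkC hgG rfl
  have movedC : ∀ {w : Perm α}, w ∈ C → ∀ x, g x ≠ x → g (w x) ≠ w x := fun {w} hw x hx e =>
    hx (w.injective (((memC hw).2 x).trans e))
  have quadnd : ∀ a c, g a ≠ a → g c ≠ c → c ≠ a → c ≠ g a → [a, g a, c, g c].Nodup := by
    intro a c ha hc h1 h2
    have e1 : a ≠ g c := fun e => h2 (by rw [e, g2])
    have e2 : g a ≠ g c := fun e => h1 (g.injective e).symm
    simp [Ne.symm ha, Ne.symm h1, e1, Ne.symm h2, e2, Ne.symm hc]
  have Ctrans : ∀ a c a' c', g a ≠ a → g c ≠ c → c ≠ a → c ≠ g a → g a' ≠ a' → g c' ≠ c' → c' ≠ a' → c' ≠ g a' →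
      ∃ w ∈ C, w a = a' ∧ w c = c' := by
    intro a c a' c' ha hc h1 h2 ha' hc' h1' h2'
    obtain ⟨w, hw, wa, wga, wc, wgc⟩ := hR.kt.four (quadnd a c ha hc h1 h2) (quadnd a' c' ha' hc' h1' h2')
    have hd := quadnd a' c' ha' hc' h1' h2'
    simp only [List.nodup_cons, List.mem_cons, List.not_mem_nil, or_false, not_or] at hd
    obtain ⟨k, hk, ka, kc, hke⟩ := hR.dt_conj hd.1.1 hd.1.2.1 hd.2.1.1 (i := w * g * w⁻¹) (i' := g) (e := g c')
      (G.mul_mem (G.mul_mem hw hgG) (G.inv_mem hw)) hgG
      (by calc w * g * w⁻¹ * (w * g * w⁻¹) = w * (g * g) * w⁻¹ := by group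
        _ = 1 := by rw [hgg]; simp) hgg
      (by rw [Perm.mul_apply, Perm.mul_apply, show w⁻¹ a' = a by rw [Perm.coe_inv, Equiv.symm_apply_eq, wa], wga])
      (by rw [Perm.mul_apply, Perm.mul_apply, show w⁻¹ c' = c by rw [Perm.coe_inv, Equiv.symm_apply_eq, wc], wgc]) rfl rfl
    refine ⟨k * w, mkC (G.mul_mem hk hw) ?_, by rw [Perm.mul_apply, wa, ka], by rw [Perm.mul_apply, wc, kc]⟩
    calc k * w * g = (k * (w * g * w⁻¹) * k⁻¹) * (k * w) := by group
      _ = g * (k * w) := by rw [hke]
  have himg : ∀ (w : C) (P : Pairs g), ∃ a, g a ≠ a ∧ P.1.image (w : Perm α) = {a, g a} := by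
    rintro ⟨w, hw⟩ ⟨P, a, ha, rfl⟩
    exact ⟨w a, movedC hw a ha, by rw [Finset.image_insert, Finset.image_singleton, (memC hw).2 a]⟩
  let act : C → Pairs g → Pairs g := fun w P => ⟨P.1.image (w : Perm α), himg w P⟩
  let φ : C →* Perm (Pairs g) := MonoidHom.mk' (fun w =>
      { toFun := act w
        invFun := act w⁻¹
        left_inv := fun P => Subtype.ext (by simp [act, Finset.image_image])
        right_inv := fun P => Subtype.ext (by simp [act, Finset.image_image]) })
    (fun w w' => Equiv.ext fun P => Subtype.ext (by simp [act, Finset.image_image, Function.comp_def]))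
  let pr : ∀ a, g a ≠ a → Pairs g := fun a ha => ⟨{a, g a}, a, ha, rfl⟩
  have pr_ex : ∀ P : Pairs g, ∃ a ha, P = pr a ha := by
    rintro ⟨P, a, ha, rfl⟩
    exact ⟨a, ha, rfl⟩
  have pr_eq : ∀ a ha b hb, pr a ha = pr b hb ↔ (b = a ∨ b = g a) := by
    intro a ha b hb
    constructor
    · intro e
      have h1 : b ∈ ({a, g a} : Finset α) := by
        rw [show ({a, g a} : Finset α) = {b, g b} from congrArg Subtype.val e]; simp
      simpa using h1
    · rintro (rfl | rfl)
      · rfl
      · exact Subtype.ext (by show ({a, g a} : Finset α) = {g a, g (g a)}; rw [g2]; exact Finset.pair_comm _ _)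
  have pr_of : ∀ {a b}, ({a, g a} : Finset α) = {b, g b} → (b = a ∨ b = g a) := fun {a b} e => by
    have h1 : b ∈ ({a, g a} : Finset α) := by rw [e]; simp
    simpa using h1
  have pr_to : ∀ {a b}, (b = a ∨ b = g a) → ({a, g a} : Finset α) = {b, g b} := fun {a b} e => by
    rcases e with rfl | rfl
    · rfl
    · rw [g2]; exact Finset.pair_comm _ _
  have φ_pr : ∀ (w : C) a ha, φ w (pr a ha) = pr ((w : Perm α) a) (movedC w.2 a ha) := fun w a ha => Subtype.ext (by
    show ({a, g a} : Finset α).image (w : Perm α) = _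
    rw [Finset.image_insert, Finset.image_singleton, (memC w.2).2 a])
  -- the number of pairs
  set M : Finset α := Finset.univ.filter fun x => g x ≠ x with hM
  have hMc : M.card = Fintype.card α - 2 := by
    have h1 : M = Finset.univ \ {u₀, v₀} := by ext x; simp [hM, gfix]
    rw [h1, Finset.card_sdiff_of_subset (Finset.subset_univ _), Finset.card_univ, Finset.card_pair huv]
  have hpair : M.card = Fintype.card (Pairs g) * 2 := by
    have hmap : ∀ P : Pairs g, P.1.card = 2 := by
      rintro ⟨P, a, ha, rfl⟩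
      exact Finset.card_pair (Ne.symm ha)
    rw [show M = (Finset.univ : Finset (Pairs g)).biUnion (fun P => P.1) from ?_,
      Finset.card_biUnion, Finset.sum_const_nat (fun P _ => hmap P), Finset.card_univ]
    · intro P _ Q _ hPQ
      rw [Function.onFun, Finset.disjoint_left]
      intro x hx hx'
      obtain ⟨a, ha, rfl⟩ := pr_ex P
      obtain ⟨b, hb, rfl⟩ := pr_ex Q
      apply hPQ
      simp only [pr, Finset.mem_insert, Finset.mem_singleton] at hx hx'
      refine Subtype.ext <| pr_to ?_
      rcases hx with e | e <;> rcases hx' with e' | e'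
      · exact Or.inl (e'.symm.trans e)
      · exact Or.inr (by rw [← e, e', g2])
      · exact Or.inr (e'.symm.trans e)
      · exact Or.inl (g.injective (e'.symm.trans e))
    · ext x
      simp only [hM, Finset.mem_filter, Finset.mem_univ, true_and, Finset.mem_biUnion]
      constructor
      · exact fun hx => ⟨pr x hx, by simp [pr]⟩
      · rintro ⟨P, hP⟩
        obtain ⟨a, ha, rfl⟩ := pr_ex P
        simp only [pr, Finset.mem_insert, Finset.mem_singleton] at hP
        rcases hP with rfl | rfl
        · exact ha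
        · rw [g2]; exact Ne.symm ha
  have h3 : 3 ≤ Fintype.card (Pairs g) := by omega
  have three_moved : ∀ a c, g a ≠ a → g c ≠ c → c ≠ a → c ≠ g a → ∀ w : Perm α, w ∈ G → w * w = 1 → w a = a → w (g a) = g a → w c = c → w = 1 :=
    fun a c ha hc h1 h2 w hw hww e1 e2 e3 => hR.three_fix hw hww (Ne.symm ha) (Ne.symm h1) (Ne.symm h2) e1 e2 e3
  -- the kernel of the action
  have hker : ∀ w : C, φ w = 1 → (w : Perm α) = 1 ∨ (w : Perm α) = g := by
    intro w hw
    have hcases : ∀ x, g x ≠ x → (w : Perm α) x = x ∨ (w : Perm α) x = g x := by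
      intro x hx
      have h1 := congrArg (fun f : Perm (Pairs g) => f (pr x hx)) hw
      simp only [φ_pr, Perm.one_apply] at h1
      exact pr_of (congrArg Subtype.val h1.symm)
    have hsq : ∀ x, g x ≠ x → (w : Perm α) ((w : Perm α) x) = x := fun x hx => by
      rcases hcases x hx with e | e
      · rw [e, e]
      · rw [e, (memC w.2).2 x, e, g2]
    have hww : (w : Perm α) * w = 1 := hreg _ (G.mul_mem (memC w.2).1 (memC w.2).1) M (by omega) (fun x hx => by
      rw [Perm.mul_apply]; exact hsq x (Finset.mem_filter.1 hx).2)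
    have hwg : (w : Perm α) * g = g * w := Subgroup.mem_centralizer_singleton_iff.1 w.2.2
    have hgw : (g * (w : Perm α)) * (g * w) = 1 := by
      calc (g * (w : Perm α)) * (g * w) = g * ((w : Perm α) * g) * w := by group
        _ = g * g * ((w : Perm α) * w) := by rw [hwg]; group
        _ = 1 := by rw [hgg, hww, mul_one]
    by_cases hA : 2 < (M.filter fun x => (w : Perm α) x = x).card
    · obtain ⟨c, d, x, hc, hd, hx, hcd, hcx, hdx⟩ := Finset.two_lt_card_iff.1 hA
      exact Or.inl (hR.three_fix (memC w.2).1 hww hcd hcx hdx (Finset.mem_filter.1 hc).2 (Finset.mem_filter.1 hd).2 (Finset.mem_filter.1 hx).2)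
    · have h4 : 2 < (M.filter fun x => ¬ (w : Perm α) x = x).card := by
        have := Finset.card_filter_add_card_filter_not (s := M) (fun x => (w : Perm α) x = x)
        omega
      obtain ⟨c, d, x, hc, hd, hx, hcd, hcx, hdx⟩ := Finset.two_lt_card_iff.1 h4
      have fx : ∀ y ∈ M.filter (fun y => ¬ (w : Perm α) y = y), (g * (w : Perm α)) y = y := fun y hy => by
        obtain ⟨hyM, hy'⟩ := Finset.mem_filter.1 hy
        rw [Perm.mul_apply, (hcases y (Finset.mem_filter.1 hyM).2).resolve_left hy', g2]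
      have := hR.three_fix (G.mul_mem hgG (memC w.2).1) hgw hcd hcx hdx (fx c hc) (fx d hd) (fx x hx)
      exact Or.inr (by rw [eq_inv_of_mul_eq_one_right this, inv_eq_of_mul_eq_one_right hgg])
  -- exact stabiliser of a quadruple in `C`
  have hstab : ∀ a c, g a ≠ a → g c ≠ c → c ≠ a → c ≠ g a → ∀ w : Perm α, w ∈ C → w a = a → w c = c → w = 1 := by
    intro a c ha hc h1 h2 w hw wa wc
    obtain ⟨hwG, hwg⟩ := memC hw
    have wga : w (g a) = g a := by rw [hwg, wa]
    have wgc : w (g c) = g c := by rw [hwg, wc]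
    have hodd := hR.odd_order hwG (Ne.symm ha) (Ne.symm h1) (Ne.symm h2) wa wga wc
    have hu : w u₀ = u₀ ∨ w u₀ = v₀ := (gfix _).1 (by rw [← hwg, (gfix u₀).2 (Or.inl rfl)])
    have hv : w v₀ = u₀ ∨ w v₀ = v₀ := (gfix _).1 (by rw [← hwg, (gfix v₀).2 (Or.inr rfl)])
    have hw2 : w (w u₀) = u₀ := by
      rcases hu with e | e
      · rw [e, e]
      · rw [e]
        exact hv.resolve_right fun e' => huv (w.injective (e.trans e'.symm))
    have hne : ∀ y, g y ≠ y → y ≠ u₀ := fun y hy e => hy (e ▸ (gfix u₀).2 (Or.inl rfl))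
    have hmoved : g (g a) ≠ g a := by rw [g2]; exact Ne.symm ha
    have hmoved' : g (g c) ≠ g c := by rw [g2]; exact Ne.symm hc
    have hq := quadnd a c ha hc h1 h2
    have h20 : w * w = 1 := hreg _ (G.mul_mem hwG hwG) (insert u₀ (quad a (g a) c (g c))) (by
      rw [Finset.card_insert_of_notMem, card_quad hq]
      · omega
      · simp [quad, (hne a ha).symm, (hne _ hmoved).symm, (hne c hc).symm, (hne _ hmoved').symm]) (fun y hy => by
      rcases Finset.mem_insert.1 hy with rfl | hy
      · rw [Perm.mul_apply, hw2]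
      · rcases mem_quad.1 hy with rfl | rfl | rfl | rfl <;> simp [wa, wga, wc, wgc])
    have hdvd : orderOf w ∣ 2 := orderOf_dvd_of_pow_eq_one (by rw [pow_two, h20])
    rcases (Nat.dvd_prime Nat.prime_two).1 hdvd with e | e
    · exact orderOf_eq_one_iff.1 e
    · rw [e] at hodd
      exact absurd hodd (by decide)
  have rep : ∀ P Q : Pairs g, P ≠ Q → ∃ a ha c hc, P = pr a ha ∧ Q = pr c hc ∧ c ≠ a ∧ c ≠ g a := by
    intro P Q hne
    obtain ⟨a, ha, rfl⟩ := pr_ex P
    obtain ⟨c, hc, rfl⟩ := pr_ex Q
    exact ⟨a, ha, c, hc, rfl, rfl, fun e => hne (Subtype.ext <| pr_to (Or.inl e)), fun e => hne (Subtype.ext <| pr_to (Or.inr e))⟩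
  have inv_in : ∀ w ∈ C, ∀ m : ℕ, w ^ m ∈ C := fun w hw m => C.pow_mem hw m
  obtain ⟨N, hNU, hNc, hN⟩ := regular_subgroup φ.range (fun u => ∃ t : C, φ t = u ∧ (t : Perm α) * t = g) h3 (fun P Q P' Q' hne hne' => by
      obtain ⟨a, ha, c, hc, rfl, rfl, h1, h2⟩ := rep P Q hne
      obtain ⟨a', ha', c', hc', rfl, rfl, h1', h2'⟩ := rep P' Q' hne'
      obtain ⟨w, hw, wa, wc⟩ := Ctrans a c a' c' ha hc h1 h2 ha' hc' h1' h2'
      exact ⟨φ ⟨w, hw⟩, ⟨_, rfl⟩, by simp only [φ_pr]; exact Subtype.ext <| pr_to (Or.inl wa.symm),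
        by simp only [φ_pr]; exact Subtype.ext <| pr_to (Or.inl wc.symm)⟩)
    (fun P Q hne => by
      obtain ⟨a, ha, c, hc, rfl, rfl, h1, h2⟩ := rep P Q hne
      have hq := quadnd a c ha hc h1 h2
      obtain ⟨w, hw, wa, wc⟩ := Ctrans a c a (g c) ha hc h1 h2 ha (by rw [g2]; exact Ne.symm hc)
        (fun e => h2 (by rw [← e, g2])) (fun e => h1 (g.injective e))
      have wga : w (g a) = g a := by rw [(memC hw).2, wa]
      have wgc : w (g c) = c := by rw [(memC hw).2, wc, g2]
      obtain ⟨t, ⟨m, -, htm⟩, ⟨j, hj⟩, hag⟩ := exists_two_part w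
      have htC : t ∈ C := htm ▸ inv_in w hw m
      have ta : t a = a := by rw [hag a (by rw [wa, wa]), wa]
      have tga : t (g a) = g a := by rw [hag (g a) (by rw [wga, wga]), wga]
      have tc : t c = g c := by rw [hag c (by rw [wc, wgc]), wc]
      have tgc : t (g c) = c := by rw [hag (g c) (by rw [wgc, wc]), wgc]
      have htt : t * t = 1 := hR.two_elt (G.mul_mem (memC htC).1 (memC htC).1) (j := j)
        (by rw [← pow_two, ← pow_mul, mul_comm, pow_mul, hj, one_pow]) (Ne.symm ha) (Ne.symm h1) (Ne.symm h2)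
        (by simp [ta]) (by simp [tga]) (by simp [tc, tgc])
      have htg : (t * g) * (t * g) = 1 := by
        have e : t * g = g * t := Subgroup.mem_centralizer_singleton_iff.1 htC.2
        calc (t * g) * (t * g) = (g * t) * (t * g) := by rw [e]
          _ = g * (t * t) * g := by group
          _ = 1 := by rw [htt, mul_one, hgg]
      refine ⟨φ ⟨t, htC⟩, ⟨_, rfl⟩, ?_, fun R => ?_, ?_⟩
      · rw [← map_mul, show (⟨t, htC⟩ : C) * ⟨t, htC⟩ = 1 from Subtype.ext htt, map_one]
      · obtain ⟨x, hx, rfl⟩ := pr_ex R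
        simp only [φ_pr]
        constructor
        · intro e
          rcases pr_of (congrArg Subtype.val e.symm) with e' | e'
          · refine Or.inl (Subtype.ext <| pr_to ?_)
            by_contra hn
            push Not at hn
            have := hR.three_fix (memC htC).1 htt (Ne.symm ha) hn.1 (fun e'' => hn.2 (by rw [← e'', g2])) ta tga e'
            rw [this, Perm.one_apply] at tc
            exact hc tc.symm
          · refine Or.inr (Subtype.ext <| pr_to ?_)
            by_contra hn
            push Not at hn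
            have hx2 : (t * g) x = x := by rw [Perm.mul_apply, (memC htC).2, e', g2]
            have := hR.three_fix (G.mul_mem (memC htC).1 hgG) htg (Ne.symm hc) hn.1 (fun e'' => hn.2 (by rw [← e'', g2]))
              (by rw [Perm.mul_apply, tgc]) (by rw [Perm.mul_apply, g2, tc]) hx2
            have e3 := congrArg (fun f : Perm α => f a) this
            simp only [Perm.mul_apply, tga, Perm.one_apply] at e3
            exact ha e3
        · rintro (e | e) <;> simp only [pr_eq]
          · rcases pr_of (congrArg Subtype.val e) with e' | e'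
            · left; rw [← e', ta]
            · left
              have : x = g a := by rw [e', g2]
              rw [this, tga]
          · rcases pr_of (congrArg Subtype.val e) with e' | e'
            · right; rw [← e', tc, g2]
            · right
              have : x = g c := by rw [e', g2]
              rw [this, tgc]
      · rintro u ⟨⟨s, hs⟩, rfl⟩ us1 us2
        simp only [φ_pr] at us1 us2
        have sa := pr_of (congrArg Subtype.val us1)
        have sc := pr_of (congrArg Subtype.val us2)
        have hsg := (memC hs).2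
        -- normalise the first pair
        obtain ⟨s', hs', e', sa'⟩ : ∃ s', ∃ hs' : s' ∈ C, φ ⟨s', hs'⟩ = φ ⟨s, hs⟩ ∧ s' a = a := by
          rcases sa with e | e
          · exact ⟨s, hs, rfl, e.symm⟩
          · refine ⟨g * s, C.mul_mem gC hs, ?_, by rw [Perm.mul_apply]; exact e.symm⟩
            rw [show (⟨g * s, C.mul_mem gC hs⟩ : C) = ⟨g, gC⟩ * ⟨s, hs⟩ from rfl, map_mul,
              show φ ⟨g, gC⟩ = 1 from Equiv.ext fun R => ?_, one_mul]
            obtain ⟨x, hx, rfl⟩ := pr_ex R
            simp only [φ_pr, Perm.one_apply, pr_eq]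
            exact Or.inr (g2 x).symm
        have sc' : s' c = c ∨ s' c = g c := by
          have h3 := congrArg (fun f : Perm (Pairs g) => f (pr c hc)) e'
          simp only [φ_pr] at h3
          rw [us2] at h3
          exact pr_of (congrArg Subtype.val h3.symm)
        rcases sc' with e | e
        · left
          rw [← e', show (⟨s', hs'⟩ : C) = 1 from Subtype.ext (hstab a c ha hc h1 h2 s' hs' sa' e), map_one]
        · right
          have h4 := hstab a c ha hc h1 h2 (t * s') (C.mul_mem htC hs') (by rw [Perm.mul_apply, sa', ta]) (by rw [Perm.mul_apply, e, tgc])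
          rw [← e', show (⟨s', hs'⟩ : C) = ⟨t, htC⟩ from Subtype.ext
            ((eq_inv_of_mul_eq_one_right h4).trans (inv_eq_of_mul_eq_one_right htt))])
    (fun P Q hne => by
      obtain ⟨a, ha, c, hc, rfl, rfl, h1, h2⟩ := rep P Q hne
      obtain ⟨w, hw, wa, wc⟩ := Ctrans a c c (g a) ha hc h1 h2 hc (by rw [g2]; exact Ne.symm ha)
        (Ne.symm h2) (fun e => h1 (g.injective e).symm)
      obtain ⟨t, ⟨m, hm, htm⟩, ⟨j, hj⟩, -⟩ := exists_two_part w
      have htC : t ∈ C := htm ▸ inv_in w hw m
      obtain ⟨htG, htg⟩ := memC htC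
      have w2 : w (w a) = g a := by rw [wa, wc]
      have w4 : (w ^ 4) a = a := by
        simp only [pow_succ, pow_zero, one_mul, Perm.mul_apply]
        rw [w2, (memC hw).2, (memC hw).2, w2, g2]
      obtain ⟨q, rfl⟩ := hm
      have w4q : ∀ q, (w ^ (4 * q)) a = a := fun q => by rw [pow_mul]; exact Perm.pow_apply_eq_self_of_apply_eq_self w4 q
      have tt_a : t (t a) = g a := by
        rw [htm, ← Perm.mul_apply, ← pow_add, show 2 * q + 1 + (2 * q + 1) = 2 + 4 * q by ring, pow_add, Perm.mul_apply, w4q,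
          pow_two, Perm.mul_apply, w2]
      have ta : t a = c ∨ t a = g c := by
        rcases Nat.even_or_odd q with ⟨r, hr⟩ | ⟨r, hr⟩
        · left
          rw [htm, show 2 * q + 1 = 1 + 4 * r by omega, pow_add, Perm.mul_apply, w4q, pow_one, wa]
        · right
          rw [htm, show 2 * q + 1 = 3 + 4 * r by omega, pow_add, Perm.mul_apply, w4q]
          simp only [pow_succ, pow_zero, one_mul, Perm.mul_apply]
          rw [w2, (memC hw).2, wa]
      have tt : t * t = g := by
        have hc' : t * g = g * t := Subgroup.mem_centralizer_singleton_iff.1 htC.2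
        have hga : (t * t * g) a = a := by rw [Perm.mul_apply, Perm.mul_apply, htg, htg, tt_a, g2]
        have hxa : (t * t * g) (g a) = g a := by
          rw [Perm.mul_apply, Perm.mul_apply, g2]; exact tt_a
        have hxc : (t * t * g) (t a) = t a := by
          rw [Perm.mul_apply, Perm.mul_apply, htg, htg, tt_a, htg, g2]
        have key := hR.two_elt (G.mul_mem (G.mul_mem htG htG) hgG) (j := j + 1) (by
            have hcom : Commute (t * t) g := by
              rw [Commute, SemiconjBy, mul_assoc, hc', ← mul_assoc, hc', mul_assoc]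
            rw [hcom.mul_pow, ← pow_two, ← pow_mul, show 2 * 2 ^ (j + 1) = 2 ^ j * 4 by ring, pow_mul, hj, one_pow, one_mul,
              pow_succ', pow_mul, pow_two, hgg, one_pow])
          (Ne.symm ha) (fun e => ha (by rw [← tt_a, ← e, ← e]))
          (fun e => ha (by have h7 := t.injective (tt_a.trans e); rw [e, h7])) hga hxa hxc
        exact (eq_inv_of_mul_eq_one_left key).trans (inv_eq_of_mul_eq_one_right hgg)
      refine ⟨φ ⟨t, htC⟩, ⟨_, rfl⟩, ?_, ?_, fun R => ?_, ⟨⟨t, htC⟩, rfl, tt⟩⟩
      · rw [← map_mul, show (⟨t, htC⟩ : C) * ⟨t, htC⟩ = ⟨g, gC⟩ from Subtype.ext tt]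
        refine Equiv.ext fun R => ?_
        obtain ⟨x, hx, rfl⟩ := pr_ex R
        simp only [φ_pr, Perm.one_apply, pr_eq]
        exact Or.inr (g2 x).symm
      · simp only [φ_pr, pr_eq]
        rcases ta with e | e
        · left; exact e.symm
        · right; rw [e, g2]
      · obtain ⟨x, hx, rfl⟩ := pr_ex R
        simp only [φ_pr]
        intro e
        have hh : g x = t (t x) := by rw [← Perm.mul_apply, tt]
        rcases pr_of (congrArg Subtype.val e.symm) with e' | e'
        · exact hx (by rw [hh, e', e'])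
        · exact hx (by rw [hh, e', htg, e', g2]))
  -- the preimage of `N`
  let X : Subgroup C := N.comap φ
  have hXsq : ∀ x : X, x ≠ 1 → ((x : C) : Perm α) ≠ g → ((x : C) : Perm α) * ((x : C) : Perm α) = g := by
    intro x hx1 hxg
    have hx1' : ((x : C) : Perm α) ≠ 1 := fun e => hx1 (Subtype.ext (Subtype.ext e))
    have hφ : φ (x : C) ≠ 1 := fun e => by rcases hker _ e with e' | e' <;> contradiction
    obtain ⟨t, ht, htt⟩ := hN _ x.2 hφ
    have hk := hker ((x : C) * t⁻¹) (by rw [map_mul, map_inv, ht, mul_inv_cancel])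
    rw [Subgroup.coe_mul, Subgroup.coe_inv] at hk
    rcases hk with e | e
    · rw [mul_inv_eq_one.1 e, htt]
    · rw [mul_inv_eq_iff_eq_mul] at e
      have hc : (t : Perm α) * g = g * t := Subgroup.mem_centralizer_singleton_iff.1 t.2.2
      calc ((x : C) : Perm α) * ((x : C) : Perm α) = g * (t * g) * t := by rw [e]; group
        _ = g * g * ((t : Perm α) * t) := by rw [hc]; group
        _ = g := by rw [hgg, htt, one_mul]
  have hgX : (⟨g, gC⟩ : C) ∈ X := by
    rw [Subgroup.mem_comap]
    refine (?_ : φ ⟨g, gC⟩ = 1) ▸ N.one_mem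
    refine Equiv.ext fun R => ?_
    obtain ⟨x, hx, rfl⟩ := pr_ex R
    simp only [φ_pr, Perm.one_apply, pr_eq]
    exact Or.inr (g2 x).symm
  have h8 : Fintype.card X ≤ 8 := card_le_eight (z := ⟨⟨g, gC⟩, hgX⟩) (Subtype.ext (Subtype.ext hgg))
    (fun x h1 h2 => Subtype.ext (Subtype.ext (hXsq x h1 (fun e => h2 (Subtype.ext (Subtype.ext e))))))
    (fun e => hg1 (congrArg (fun y : X => ((y : C) : Perm α)) e))
    (fun x => Subtype.ext (Subtype.ext ((Subgroup.mem_centralizer_singleton_iff.1 (x : C).2.2).symm)))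
  -- `X` maps onto `N` with kernel of order two
  let ψ : X →* N := (φ.comp X.subtype).codRestrict N (fun x => x.2)
  have hsurj : Function.Surjective ψ := fun u => by
    obtain ⟨w, hw⟩ := hNU u.2
    exact ⟨⟨w, by rw [Subgroup.mem_comap, hw]; exact u.2⟩, Subtype.ext hw⟩
  have hkc : 2 ≤ Nat.card ψ.ker := by
    rw [Nat.card_eq_fintype_card]
    refine Fintype.one_lt_card_iff.2 ⟨⟨⟨⟨g, gC⟩, hgX⟩, ?_⟩, 1, ?_⟩
    · rw [MonoidHom.mem_ker]
      refine Subtype.ext (Equiv.ext fun R => ?_)
      show φ ⟨g, gC⟩ R = R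
      obtain ⟨x, hx, rfl⟩ := pr_ex R
      simp only [φ_pr, pr_eq]
      exact Or.inr (g2 x).symm
    · exact fun e => hg1 (congrArg (fun y : ψ.ker => (((y : X) : C) : Perm α)) e)
  have hcard : Nat.card X = Nat.card ψ.ker * Nat.card N := by
    rw [← ψ.ker.card_mul_index, Subgroup.index_ker, MonoidHom.range_eq_top.2 hsurj, Subgroup.card_top]
  rw [Nat.card_eq_fintype_card (α := X), hNc] at hcard
  have hp4 : Fintype.card (Pairs g) ≤ 4 := by
    have := Nat.mul_le_mul_right (Fintype.card (Pairs g)) hkc
    omega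
  -- the number of pairs is even
  obtain ⟨u, hu, hu1⟩ : ∃ u ∈ N, u ≠ 1 := by
    by_contra hn
    push Not at hn
    have : N = ⊥ := N.eq_bot_iff_forall.2 hn
    rw [this, Subgroup.card_bot] at hNc
    omega
  obtain ⟨t, ht, htt⟩ := hN u hu hu1
  have he : Even (Fintype.card (Pairs g)) := by
    have hsq : φ t * φ t = 1 := by
      rw [← map_mul, show t * t = (⟨g, gC⟩ : C) from Subtype.ext htt]
      refine Equiv.ext fun R => ?_
      obtain ⟨x, hx, rfl⟩ := pr_ex R
      simp only [φ_pr, Perm.one_apply, pr_eq]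
      exact Or.inr (g2 x).symm
    have hfree : (φ t).support = Finset.univ := by
      ext R
      simp only [Perm.mem_support, Finset.mem_univ, iff_true]
      obtain ⟨x, hx, rfl⟩ := pr_ex R
      simp only [φ_pr]
      intro e
      have hh : g x = (t : Perm α) ((t : Perm α) x) := by rw [← Perm.mul_apply, htt]
      rcases pr_of (congrArg Subtype.val e.symm) with e' | e'
      · exact hx (by rw [hh, e', e'])
      · exact hx (by rw [hh, e', (memC t.2).2, e', g2])
    have := even_support_of_sq_eq_one hsq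
    rwa [hfree, Finset.card_univ] at this
  obtain ⟨r, hr⟩ := he
  omega

end Rigid

end Cfsg.Homog
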