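import Cfsg.Agent.Homogeneous.Count

/-! The homogeneous but insufficiently transitive groups with `k ≤ 4`. -/

set_option autoImplicit false
set_option linter.unusedSectionVars false

open Equiv

namespace Cfsg.Homog

variable {α : Type*} [Fintype α] [DecidableEq α] {G : Subgroup (Perm α)}

theorem vec3_injective {β : Type*} {a b c : β} (hab : a ≠ b) (hac : a ≠ c) (hbc : b ≠ c) : Function.Injective ![a, b, c] := by
  intro i j hij
  fin_cases i <;> fin_cases j <;> simp [hab, hac, hbc, Ne.symm hab, Ne.symm hac, Ne.symm hbc] at hij ⊢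

theorem three_case (h1 : KTrans G 1) (hn1 : ¬ KTrans G 2) (hset2 : SetTrans G 2) (hset3 : SetTrans G 3)
    (h3 : 4 ≤ Fintype.card α) : False := by
  classical
  have noswap : ∀ a b : α, a ≠ b → ∀ g ∈ G, g a = b → g b = a → False := by
    intro a b hab g hg ga gb
    refine hn1 (kTrans_of_symOn (by omega) hset2 (Δ := {a, b}) (Finset.card_pair hab) (symOn_of_swap fun x hx y hy hxy => ?_))
    simp only [Finset.mem_insert, Finset.mem_singleton] at hx hy
    rcases hx with rfl | rfl <;> rcases hy with rfl | rfl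
    · exact absurd rfl hxy
    · exact swap_mem_indGroup (by simp) (by simp) hg ga gb fun z hz z1 z2 => by simp [z1, z2] at hz
    · exact swap_mem_indGroup (by simp) (by simp) hg gb ga fun z hz z1 z2 => by simp [z1, z2] at hz
    · exact absurd rfl hxy
  obtain ⟨a₀, b₀, hab₀⟩ : ∃ a b : α, a ≠ b := Fintype.exists_pair_of_one_lt_card (by omega)
  let R : α → α → Prop := fun a b => ∃ g ∈ G, g a₀ = a ∧ g b₀ = b
  have hne : ∀ a b, R a b → a ≠ b := fun a b ⟨g, _, e1, e2⟩ h => hab₀ (g.injective (by rw [e1, e2, h]))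
  have htot : ∀ a b, a ≠ b → R a b ∨ R b a := by
    intro a b hab
    obtain ⟨g, hg, e⟩ := hset2 {a₀, b₀} {a, b} (Finset.card_pair hab₀) (Finset.card_pair hab)
    have m1 : g a₀ ∈ ({a, b} : Finset α) := e ▸ Finset.mem_image_of_mem _ (by simp)
    have m2 : g b₀ ∈ ({a, b} : Finset α) := e ▸ Finset.mem_image_of_mem _ (by simp)
    simp only [Finset.mem_insert, Finset.mem_singleton] at m1 m2
    rcases m1 with m1 | m1 <;> rcases m2 with m2 | m2
    · exact absurd (g.injective (m1.trans m2.symm)) hab₀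
    · exact Or.inl ⟨g, hg, m1, m2⟩
    · exact Or.inr ⟨g, hg, m1, m2⟩
    · exact absurd (g.injective (m1.trans m2.symm)) hab₀
  have hasymm : ∀ a b, R a b → ¬ R b a := by
    rintro a b hab ⟨g', hg', e1', e2'⟩
    obtain ⟨g, hg, e1, e2⟩ := hab
    refine noswap a b (hne a b ⟨g, hg, e1, e2⟩) (g' * g⁻¹) (G.mul_mem hg' (G.inv_mem hg)) ?_ ?_
    · rw [← e1, Perm.mul_apply, Perm.coe_inv, Equiv.symm_apply_apply, e1']
    · rw [← e2, Perm.mul_apply, Perm.coe_inv, Equiv.symm_apply_apply, e2']
  have himg : ∀ a b, R a b → ∀ g ∈ G, R (g a) (g b) := fun a b ⟨g', hg', e1, e2⟩ g hg =>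
    ⟨g * g', G.mul_mem hg hg', by simp [e1], by simp [e2]⟩
  -- a cyclic triangle
  obtain ⟨a, b, c, hab, hbc, hca⟩ : ∃ a b c, R a b ∧ R b c ∧ R c a := by
    by_contra hno
    push Not at hno
    have htr : ∀ a b c, R a b → R b c → R a c := fun a b c x y =>
      (htot a c (fun e => hasymm a b x (e ▸ y))).resolve_right (hno a b c x y)
    let out : α → ℕ := fun a => (Finset.univ.filter fun b => R a b).card
    have heq : ∀ a b, out a = out b := fun a b => by
      obtain ⟨g, hg, hgl⟩ := h1 [a] [b] (by simp) (by simp) rfl le_rfl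
      simp only [List.map_cons, List.map_nil, List.cons.injEq, and_true] at hgl
      refine Finset.card_bij (fun x _ => g x) (fun x hx => ?_) (fun x _ y _ e => g.injective e) (fun y hy => ⟨g⁻¹ y, ?_, by simp⟩)
      · simp only [Finset.mem_filter, Finset.mem_univ, true_and] at hx ⊢
        exact hgl ▸ himg a x hx g hg
      · simp only [Finset.mem_filter, Finset.mem_univ, true_and] at hy ⊢
        have := himg b y hy g⁻¹ (G.inv_mem hg)
        rwa [← hgl, Perm.coe_inv, Equiv.symm_apply_apply] at this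
    rcases htot a₀ b₀ hab₀ with h | h
    · refine absurd (heq a₀ b₀) (Nat.ne_of_gt (Finset.card_lt_card ⟨fun x hx => ?_, fun hsub => ?_⟩))
      · simp only [Finset.mem_filter, Finset.mem_univ, true_and] at hx ⊢
        exact htr _ _ _ h hx
      · have := hsub (Finset.mem_filter.2 ⟨Finset.mem_univ b₀, h⟩)
        exact hne _ _ (Finset.mem_filter.1 this).2 rfl
    · exact hasymm _ _ h ⟨1, G.one_mem, rfl, rfl⟩
  -- a triangle with a source or a sink
  obtain ⟨x, y, z, hyz, hxy, hxz⟩ : ∃ x y z, y ≠ z ∧ ((R x y ∧ R x z) ∨ (R y x ∧ R z x)) ∧ x ≠ y ∧ x ≠ z := by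
    obtain ⟨d, hd⟩ := Finset.card_pos.1 (show 0 < (Finset.univ \ {a, b, c}).card by
      have := Finset.le_card_sdiff {a, b, c} (Finset.univ : Finset α)
      have : ({a, b, c} : Finset α).card ≤ 3 := Finset.card_le_three
      rw [Finset.card_univ] at *
      omega)
    simp only [Finset.mem_sdiff, Finset.mem_univ, true_and, Finset.mem_insert, Finset.mem_singleton, not_or] at hd
    rcases htot a d (Ne.symm hd.1) with h | h
    · exact ⟨a, b, d, Ne.symm hd.2.1, Or.inl ⟨hab, h⟩, hne _ _ hab, hne _ _ h⟩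
    · exact ⟨a, c, d, Ne.symm hd.2.2, Or.inr ⟨hca, h⟩, (hne _ _ hca).symm, (hne _ _ h).symm⟩
  obtain ⟨g, hg, e⟩ := hset3 {a, b, c} {x, y, z}
    (Finset.card_eq_three.2 ⟨a, b, c, hne _ _ hab, (hne _ _ hca).symm, hne _ _ hbc, rfl⟩)
    (Finset.card_eq_three.2 ⟨x, y, z, hxz.1, hxz.2, hyz, rfl⟩)
  have key : ∀ v ∈ ({x, y, z} : Finset α), (∃ w ∈ ({x, y, z} : Finset α), R v w) ∧ (∃ w ∈ ({x, y, z} : Finset α), R w v) := by
    intro v hv
    rw [← e] at hv ⊢
    obtain ⟨u, hu, rfl⟩ := Finset.mem_image.1 hv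
    simp only [Finset.mem_insert, Finset.mem_singleton] at hu
    have m : ∀ w ∈ ({a, b, c} : Finset α), g w ∈ ({a, b, c} : Finset α).image g := fun w hw => Finset.mem_image_of_mem _ hw
    rcases hu with rfl | rfl | rfl
    · exact ⟨⟨_, m b (by simp), himg _ _ hab g hg⟩, ⟨_, m c (by simp), himg _ _ hca g hg⟩⟩
    · exact ⟨⟨_, m c (by simp), himg _ _ hbc g hg⟩, ⟨_, m a (by simp), himg _ _ hab g hg⟩⟩
    · exact ⟨⟨_, m a (by simp), himg _ _ hca g hg⟩, ⟨_, m b (by simp), himg _ _ hbc g hg⟩⟩
  obtain ⟨⟨w, hw, hw'⟩, ⟨w', hw1, hw2⟩⟩ := key x (by simp)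
  simp only [Finset.mem_insert, Finset.mem_singleton] at hw hw1
  rcases hxy with ⟨r1, r2⟩ | ⟨r1, r2⟩
  · rcases hw1 with rfl | rfl | rfl
    exacts [hne _ _ hw2 rfl, hasymm _ _ r1 hw2, hasymm _ _ r2 hw2]
  · rcases hw with rfl | rfl | rfl
    exacts [hne _ _ hw' rfl, hasymm _ _ r1 hw', hasymm _ _ r2 hw']

set_option maxHeartbeats 1600000 in
theorem four_case (h2 : KTrans G 2) (hn3 : ¬ KTrans G 3) (hset3 : SetTrans G 3) (hset4 : SetTrans G 4)
    (hreg : Semireg G 2) (hn : 5 ≤ Fintype.card α) : Fintype.card α = 5 ∧ Nat.card G = 20 := by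
  classical
  obtain ⟨e⟩ : Nonempty (Fin 3 ↪ α) := Function.Embedding.nonempty_of_card_le (by rw [Fintype.card_fin]; omega)
  obtain ⟨e'⟩ : Nonempty (Fin 4 ↪ α) := Function.Embedding.nonempty_of_card_le (by rw [Fintype.card_fin]; omega)
  have hfaith : ∀ g ∈ G, ∀ S : Finset α, 3 ≤ S.card → (∀ x ∈ S, g x = x) → g = 1 :=
    fun g hg S hS h => hreg g hg S (by omega) h
  have hord := card_eq_choose_mul hset3 hfaith e
  have hrel := indFin_card_rel (j := 3) (by omega) hset3 hset4 hfaith e e'
  obtain ⟨L, hL⟩ := h2.descFactorial_dvd (by omega)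
  have hd6 : Nat.card (indFin G e) ∣ 6 := by
    have := Subgroup.card_subgroup_dvd_card (indFin G e)
    rwa [Nat.card_perm, Nat.card_fin] at this
  have hdlt : Nat.card (indFin G e) ≠ 6 := fun h6 => by
    refine hn3 (kTrans_of_symOn (by omega) hset3 (Δ := Finset.univ.map e) (by simp) (symOn_of_indFin_top e ?_))
    refine Subgroup.eq_top_of_card_eq _ ?_
    rw [h6, Nat.card_perm, Nat.card_fin]; rfl
  set d := Nat.card (indFin G e) with hd
  set d' := Nat.card (indFin G e') with hd'
  have hd3 : d = 1 ∨ d = 2 ∨ d = 3 := by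
    have := Nat.le_of_dvd (by norm_num) hd6
    interval_cases d <;> omega
  -- `(n - 2) d = 6 L`
  set n := Fintype.card α with hn'
  have hL6 : (n - 2) * d = 6 * L := by
    have h3 : 6 * n.choose 3 = n.descFactorial 3 := by rw [Nat.descFactorial_eq_factorial_mul_choose]; rfl
    have h4 : n.descFactorial 3 = (n - 2) * n.descFactorial 2 := Nat.descFactorial_succ n 2
    have hpos : 0 < n.descFactorial 2 := Nat.descFactorial_pos.2 (by omega)
    refine Nat.eq_of_mul_eq_mul_left hpos ?_
    calc n.descFactorial 2 * ((n - 2) * d) = 6 * n.choose 3 * d := by rw [h3, h4]; ring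
      _ = 6 * Nat.card G := by rw [hord]; ring
      _ = _ := by rw [hL]; ring
  have hle : n - 3 ≤ 4 * d := Nat.le_of_dvd (by omega) ⟨d', by rw [← hrel]; ring⟩
  rcases hd3 with h | h | h <;> rw [h] at hrel hL6 hle
  · -- no group
    have : n ≤ 7 := by omega
    interval_cases n <;> omega
  · have : n ≤ 11 := by omega
    have hcases : n = 5 ∨ (n = 11 ∧ L = 3) := by interval_cases n <;> omega
    rcases hcases with h5 | ⟨h11, hL3⟩
    · refine ⟨h5, ?_⟩
      rw [hord, h5, h]; rfl
    · exfalso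
      -- an element of order 3 in a two-point stabiliser gives a 3-cycle
      have : Fact (Nat.Prime 3) := ⟨Nat.prime_three⟩
      obtain ⟨x⟩ : Nonempty (Fin 2 ↪ α) := Function.Embedding.nonempty_of_card_le (by rw [Fintype.card_fin]; omega)
      obtain ⟨z, hzG, hz3, hzx⟩ := exists_fix_order h2 (by omega) hL (p := 3) (by rw [hL3]) x
      have hz1 : z ≠ 1 := fun h0 => by rw [h0, orderOf_one] at hz3; omega
      obtain ⟨v, hv⟩ : ∃ v, z v ≠ v := not_forall.1 fun h0 => hz1 (Perm.ext h0)
      have hz3' : z (z (z v)) = v := by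
        have := congrArg (fun f : Perm α => f v) (hz3 ▸ pow_orderOf_eq_one z : z ^ 3 = 1)
        simpa [pow_succ, Perm.mul_apply] using this
      have hv2 : z (z v) ≠ v := fun h0 => by rw [h0] at hz3'; exact hv hz3'
      let T : Fin 3 ↪ α := ⟨![v, z v, z (z v)], vec3_injective (Ne.symm hv) (Ne.symm hv2) (fun h0 => hv (z.injective h0.symm))⟩
      have hrot : (finRotate 3) ∈ indFin G T := mem_indFin.2 ⟨z, hzG, fun i => by
        fin_cases i
        · rfl
        · rfl
        · exact hz3'⟩
      have hT := card_eq_choose_mul hset3 hfaith T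
      rw [hord] at hT
      have hdT : Nat.card (indFin G T) = 2 := (Nat.eq_of_mul_eq_mul_left (Nat.choose_pos (by omega)) hT).symm.trans h
      have hdiv := Subgroup.orderOf_dvd_natCard _ hrot
      have h33 : orderOf (finRotate 3) = 3 := by rw [orderOf_eq_iff (by norm_num)]; decide
      rw [hdT, h33] at hdiv
      omega
  · exfalso
    have : n ≤ 15 := by omega
    have h6 : n = 6 := by interval_cases n <;> omega
    -- every involution is fixed point free
    have hd4 : d' = 4 := by rw [h6] at hrel; omega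
    have hfpf : ∀ g ∈ G, g * g = 1 → g ≠ 1 → ∀ x, g x ≠ x := by
      intro g hg hgg hg1 x hx
      obtain ⟨v, hv⟩ : ∃ v, g v ≠ v := not_forall.1 fun h0 => hg1 (Perm.ext h0)
      have hgv : g (g v) = v := by rw [← Perm.mul_apply, hgg, Perm.one_apply]
      have hxv : x ≠ v := fun e0 => hv (e0 ▸ hx)
      have hxgv : x ≠ g v := fun e0 => hxv (by rw [← hgv, ← e0, hx])
      let T : Fin 3 ↪ α := ⟨![x, v, g v], vec3_injective hxv hxgv (Ne.symm hv)⟩
      have hsw : swap (1 : Fin 3) 2 ∈ indFin G T := mem_indFin.2 ⟨g, hg, fun i => by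
        fin_cases i
        · exact hx
        · rfl
        · exact hgv⟩
      have hT := card_eq_choose_mul hset3 hfaith T
      rw [hord] at hT
      have hdT : Nat.card (indFin G T) = 3 := (Nat.eq_of_mul_eq_mul_left (Nat.choose_pos (by omega)) hT).symm.trans h
      have hdiv := Subgroup.orderOf_dvd_natCard _ hsw
      have h22 : orderOf (swap (1 : Fin 3) 2) = 2 := orderOf_eq_prime (by decide) (by decide)
      rw [hdT, h22] at hdiv
      omega
    -- the stabiliser of a 4-set consists of involutions swapping the other two points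
    have hout : ∀ g ∈ G, (∀ i, g (e' i) ∈ Finset.univ.map e') → g ≠ 1 → ∀ v ∉ Finset.univ.map e', g v ≠ v ∧ g v ∉ Finset.univ.map e' ∧ g (g v) = v := by
      intro g hg hpres hg1 v hv
      have hv' : ∀ w, w ∉ Finset.univ.map e' → g w ∉ Finset.univ.map e' := by
        intro w hw hgw
        have heq : (Finset.univ.map e').image g = Finset.univ.map e' := Finset.eq_of_subset_of_card_le (fun y hy => by
          obtain ⟨u, hu, rfl⟩ := Finset.mem_image.1 hy
          obtain ⟨i, -, rfl⟩ := Finset.mem_map.1 hu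
          exact hpres i) (by rw [Finset.card_image_of_injective _ g.injective])
        rw [← heq] at hgw
        obtain ⟨u, hu, e0⟩ := Finset.mem_image.1 hgw
        exact hw (g.injective e0 ▸ hu)
      have hcompl : (Finset.univ \ Finset.univ.map e').card = 2 := by
        rw [Finset.card_sdiff_of_subset (Finset.subset_univ _), Finset.card_univ, Finset.card_map, Finset.card_univ, Fintype.card_fin, ← hn', h6]
      obtain ⟨p, q, hpq, hPQ⟩ := Finset.card_eq_two.1 hcompl
      have mem : ∀ {w}, w ∉ Finset.univ.map e' ↔ w = p ∨ w = q := fun {w} => by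
        have : w ∈ Finset.univ \ Finset.univ.map e' ↔ w = p ∨ w = q := by rw [hPQ]; simp
        simpa using this
      have hgg2 : ∀ w, w ∉ Finset.univ.map e' → g (g w) = w := by
        intro w hw
        have a1 := mem.1 hw
        have a2 := mem.1 (hv' w hw)
        have a3 := mem.1 (hv' _ (hv' w hw))
        by_cases e0 : g w = w
        · rw [e0, e0]
        · have e1 : g (g w) ≠ g w := fun e2 => e0 (g.injective e2)
          rcases a1 with a1 | a1 <;> rcases a2 with a2 | a2 <;> rcases a3 with a3 | a3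
          all_goals first
            | exact a3.trans a1.symm
            | exact absurd (a2.trans a1.symm) e0
            | exact absurd (a3.trans a2.symm) e1
      refine ⟨fun hfix => ?_, hv' v hv, hgg2 v hv⟩
      -- then the element fixes both, and a power of it is an involution with a fixed point
      have hfix2 : ∀ w, w ∉ Finset.univ.map e' → g w = w := by
        intro w hw
        rcases mem.1 hw with rfl | rfl <;> rcases mem.1 hv with rfl | rfl
        · exact hfix
        · exact ((mem.1 (hv' _ hw)).resolve_right fun e0 => hpq (g.injective (e0.trans hfix.symm)))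
        · exact ((mem.1 (hv' _ hw)).resolve_left fun e0 => hpq (g.injective (hfix.trans e0.symm)))
        · exact hfix
      obtain ⟨π, hπ⟩ : ∃ π : Perm (Fin 4), ∀ i, g (e' i) = e' (π i) := by
        have hmem : ∀ i, ∃ i', g (e' i) = e' i' := fun i => by
          obtain ⟨i', -, e0⟩ := Finset.mem_map.1 (hpres i)
          exact ⟨i', e0.symm⟩
        choose f hf using hmem
        have finj : Function.Injective f := fun a b hab => e'.injective (g.injective (by rw [hf a, hf b, hab]))
        exact ⟨Equiv.ofBijective f (Finite.injective_iff_bijective.1 finj), hf⟩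
      have hπ4 : orderOf π ∣ 4 := (Subgroup.orderOf_dvd_natCard _ (mem_indFin.2 ⟨g, hg, hπ⟩)).trans (dvd_of_eq (hd'.symm.trans hd4))
      have hpow : ∀ m i, (g ^ m) (e' i) = e' ((π ^ m) i) := fun m => by
        induction m with
        | zero => intro i; rfl
        | succ m ih => intro i; rw [pow_succ, Perm.mul_apply, hπ, ih, pow_succ, Perm.mul_apply]
      have hg4 : g ^ 4 = 1 := Perm.ext fun w => by
        by_cases hw : w ∈ Finset.univ.map e'
        · obtain ⟨i, -, rfl⟩ := Finset.mem_map.1 hw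
          rw [hpow, orderOf_dvd_iff_pow_eq_one.1 hπ4]; rfl
        · rw [Perm.pow_apply_eq_self_of_apply_eq_self (hfix2 w hw)]; rfl
      by_cases h22 : g * g = 1
      · exact hfpf g hg h22 hg1 v hfix
      · exact hfpf _ (G.mul_mem hg hg) (by rw [← hg4]; group; rfl) h22 v (by rw [Perm.mul_apply, hfix, hfix])
    -- three such elements
    obtain ⟨π₁, hπ₁, π₂, hπ₂, h12⟩ : ∃ π₁ ∈ (Finset.univ.filter fun π => π ∈ indFin G e').erase 1,
        ∃ π₂ ∈ (Finset.univ.filter fun π => π ∈ indFin G e').erase 1, π₁ ≠ π₂ := by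
      refine Finset.one_lt_card.1 ?_
      rw [Finset.card_erase_of_mem (by simp [Subgroup.one_mem])]
      have : (Finset.univ.filter fun π => π ∈ indFin G e').card = 4 := by
        refine Eq.trans ?_ (hd'.symm.trans hd4)
        rw [Nat.card_eq_fintype_card, Fintype.card_of_subtype]; intro π; simp
      omega
    simp only [Finset.mem_erase, Finset.mem_filter, Finset.mem_univ, true_and] at hπ₁ hπ₂
    obtain ⟨g₁, hg₁, hg₁'⟩ := mem_indFin.1 hπ₁.2
    obtain ⟨g₂, hg₂, hg₂'⟩ := mem_indFin.1 hπ₂.2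
    have hpres : ∀ (g : Perm α) (π : Perm (Fin 4)), (∀ i, g (e' i) = e' (π i)) → ∀ i, g (e' i) ∈ Finset.univ.map e' :=
      fun g π h0 i => h0 i ▸ Finset.mem_map_of_mem _ (Finset.mem_univ _)
    have hne1 : ∀ (g : Perm α) (π : Perm (Fin 4)), π ≠ 1 → (∀ i, g (e' i) = e' (π i)) → g ≠ 1 := fun g π h0 h1 e0 =>
      h0 (Equiv.ext fun i => e'.injective (by rw [← h1 i, e0]; rfl))
    obtain ⟨v, hv⟩ := Finset.card_pos.1 (show 0 < (Finset.univ \ Finset.univ.map e').card by
      rw [Finset.card_sdiff_of_subset (Finset.subset_univ _), Finset.card_univ, Finset.card_map, Finset.card_univ, Fintype.card_fin, ← hn', h6]; norm_num)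
    have hv : v ∉ Finset.univ.map e' := (Finset.mem_sdiff.1 hv).2
    obtain ⟨a1, a2, -⟩ := hout g₁ hg₁ (hpres _ _ hg₁') (hne1 _ _ hπ₁.1 hg₁') v hv
    obtain ⟨-, -, b3⟩ := hout g₂ hg₂ (hpres _ _ hg₂') (hne1 _ _ hπ₂.1 hg₂') v hv
    obtain ⟨b1, b2, -⟩ := hout g₂ hg₂ (hpres _ _ hg₂') (hne1 _ _ hπ₂.1 hg₂') v hv
    have hg12 : g₂ * g₁ ≠ 1 → False := fun hne0 => by
      refine (hout _ (G.mul_mem hg₂ hg₁) (hpres _ (π₂ * π₁) fun i => ?_) hne0 v hv).1 ?_
      · rw [Perm.mul_apply, hg₁', hg₂', Perm.mul_apply]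
      · rw [Perm.mul_apply]
        have h2c : (Finset.univ \ Finset.univ.map e').card = 2 := by
          rw [Finset.card_sdiff_of_subset (Finset.subset_univ _), Finset.card_univ, Finset.card_map, Finset.card_univ, Fintype.card_fin, ← hn', h6]
        have : g₁ v = g₂ v := by
          by_contra hne
          have : ({v, g₁ v, g₂ v} : Finset α) ⊆ Finset.univ \ Finset.univ.map e' := by
            intro w hw
            simp only [Finset.mem_insert, Finset.mem_singleton] at hw
            rcases hw with rfl | rfl | rfl <;> simp only [Finset.mem_sdiff, Finset.mem_univ, true_and]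
            exacts [hv, a2, b2]
          have := Finset.card_le_card this
          rw [Finset.card_eq_three.2 ⟨v, g₁ v, g₂ v, a1.symm, b1.symm, hne, rfl⟩, h2c] at this
          omega
        rw [this, b3]
    have hg1' : g₁ = g₂⁻¹ := eq_inv_of_mul_eq_one_right (by_contra hg12)
    -- the same with `g₁⁻¹`
    have hg12' : g₂⁻¹ * g₁ ≠ 1 → False := fun hne0 => by
      refine (hout _ (G.mul_mem (G.inv_mem hg₂) hg₁) (hpres _ (π₂⁻¹ * π₁) fun i => ?_) hne0 v hv).1 ?_
      · rw [Perm.mul_apply, hg₁', Perm.mul_apply, Perm.coe_inv, Equiv.symm_apply_eq, hg₂']; simp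
      · rw [hg1', ← mul_inv_rev, Perm.coe_inv, Equiv.symm_apply_eq, Perm.mul_apply, b3]
    have hgg : g₁ = g₂ := (inv_mul_eq_one.1 (by_contra hg12')).symm
    exact h12 (Equiv.ext fun i => e'.injective (by rw [← hg₁' i, ← hg₂' i, hgg]))

end Cfsg.Homog
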