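import Cfsg.Agent.Homogeneous.FiveCase
import Cfsg.Agent.Homogeneous.SmallCases
import Cfsg.Agent.S0744

/-! Groups that are `(k-2)`-transitive and `k`-homogeneous but not `(k-1)`-transitive. -/

set_option autoImplicit false
set_option linter.unusedSectionVars false

open Equiv

namespace Cfsg.Homog

variable {α : Type*} [Fintype α] [DecidableEq α] {G : Subgroup (Perm α)}

theorem card_fixing_eq {j : ℕ} (hset : SetTrans G j) (s t : Finset α) (hs : s.card = j) (ht : t.card = j) :
    Nat.card (fixingSubgroup G (s : Set α)) = Nat.card (fixingSubgroup G (t : Set α)) := by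
  obtain ⟨g, hg, e⟩ := hset s t hs ht
  refine Nat.card_congr
    { toFun := fun k => ⟨⟨g, hg⟩ * (k : G) * ⟨g, hg⟩⁻¹, (mem_fixingSubgroup_iff G).2 fun x hx => ?_⟩
      invFun := fun k => ⟨⟨g, hg⟩⁻¹ * (k : G) * ⟨g, hg⟩, (mem_fixingSubgroup_iff G).2 fun x hx => ?_⟩
      left_inv := fun k => Subtype.ext (by group)
      right_inv := fun k => Subtype.ext (by group) }
  · rw [Finset.mem_coe, ← e] at hx
    obtain ⟨y, hy, rfl⟩ := Finset.mem_image.1 hx
    have := (mem_fixingSubgroup_iff G).1 k.2 y (Finset.mem_coe.2 hy)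
    rw [Subgroup.smul_def, Perm.smul_def] at this ⊢
    simp [this]
  · have hx' : g x ∈ t := e ▸ Finset.mem_image_of_mem _ (Finset.mem_coe.1 hx)
    have := (mem_fixingSubgroup_iff G).1 k.2 (g x) (Finset.mem_coe.2 hx')
    rw [Subgroup.smul_def, Perm.smul_def] at this ⊢
    simp [this]

theorem semireg_of_not_kTrans {k : ℕ} (hk : 3 ≤ k) (hkn : k ≤ Fintype.card α) (hn : ¬ KTrans G (k - 1))
    (hs1 : SetTrans G (k - 1)) (hs2 : SetTrans G k) : Semireg G (k - 2) := by
  obtain ⟨s0, -, hs0⟩ := Finset.exists_subset_card_eq (s := (Finset.univ : Finset α)) (n := k - 1) (by rw [Finset.card_univ]; omega)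
  obtain ⟨t0, -, ht0⟩ := Finset.exists_subset_card_eq (s := (Finset.univ : Finset α)) (n := k) (by rw [Finset.card_univ]; omega)
  have hl : Nat.card (fixingSubgroup G (s0 : Set α)) = 1 := by
    by_contra hl
    refine hn (kTrans_of_isMultiplyPretransitive (by omega) (Cfsg.Agent.S0744.result G (k := k) (by omega) hkn _ _ ?_
      (fun s hs => card_fixing_eq hs1 s s0 hs hs0) (fun t ht => card_fixing_eq hs2 t t0 ht ht0)))
    have : 0 < Nat.card (fixingSubgroup G (s0 : Set α)) := Nat.card_pos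
    omega
  intro g hg S hS hfix
  obtain ⟨T, hTS, hT⟩ := Finset.exists_subset_card_eq (s := S) (n := k - 1) (by omega)
  have hbot : fixingSubgroup G (T : Set α) = ⊥ := Subgroup.eq_bot_of_card_eq _ ((card_fixing_eq hs1 T s0 hT hs0).trans hl)
  have hm : (⟨g, hg⟩ : G) ∈ fixingSubgroup G (T : Set α) := (mem_fixingSubgroup_iff G).2 fun x hx => hfix x (hTS (Finset.mem_coe.1 hx))
  rw [hbot, Subgroup.mem_bot] at hm
  exact congrArg Subtype.val hm

theorem eq_alternating_of_top {k : ℕ} (hk : 3 ≤ k) (hkn : k = Fintype.card α) (h : KTrans G (k - 2)) (hn : ¬ KTrans G (k - 1)) :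
    G = alternatingGroup α := by
  have hdvd := h.descFactorial_dvd (by omega)
  have hle := Nat.le_of_dvd Nat.card_pos hdvd
  have hmul := G.card_mul_index
  rw [Nat.card_perm, Nat.card_eq_fintype_card (α := α), ← hkn] at hmul
  have hfac : k.factorial = 2 * k.descFactorial (k - 2) := by
    have h2 := Nat.factorial_mul_descFactorial (show k - 2 ≤ k by omega)
    rw [show k - (k - 2) = 2 by omega] at h2
    rw [← h2]; rfl
  rw [← hkn] at hle
  have hi2 : G.index ≤ 2 := by
    by_contra hc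
    have h3 := Nat.mul_le_mul hle (not_le.1 hc)
    have h4 : 0 < k.descFactorial (k - 2) := Nat.descFactorial_pos.2 (by omega)
    omega
  rcases (show G.index = 1 ∨ G.index = 2 by have : G.index ≠ 0 := Subgroup.index_ne_zero_of_finite; omega) with e | e
  · refine absurd ?_ hn
    obtain ⟨Δ, -, hΔ⟩ := Finset.exists_subset_card_eq (s := (Finset.univ : Finset α)) (n := k - 1) (by rw [Finset.card_univ]; omega)
    refine kTrans_of_symOn (by omega) (fun s t hs ht => ?_) hΔ (fun σ hσ => ⟨hσ, σ, by rw [Subgroup.index_eq_one.1 e]; trivial, fun _ _ => rfl⟩)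
    obtain ⟨g, hg⟩ : ∃ g : Perm α, s.image g = t := by
      refine ⟨(Finset.equivOfCardEq (hs.trans ht.symm)).extendSubtype, Finset.eq_of_subset_of_card_le (fun y hy => ?_)
        (by rw [Finset.card_image_of_injective _ (Equiv.injective _), hs, ht])⟩
      obtain ⟨x, hx, rfl⟩ := Finset.mem_image.1 hy
      rw [Equiv.extendSubtype_apply_of_mem _ x hx]
      exact Finset.coe_mem _
    exact ⟨g, by rw [Subgroup.index_eq_one.1 e]; trivial, hg⟩
  · exact Perm.eq_alternatingGroup_of_index_eq_two e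

theorem homog_cases {k : ℕ} (hk : 3 ≤ k) (hkn : k ≤ Fintype.card α) (h : KTrans G (k - 2)) (hn : ¬ KTrans G (k - 1))
    (hs1 : SetTrans G (k - 1)) (hs2 : SetTrans G k) :
    (k = Fintype.card α ∧ G = alternatingGroup α) ∨ (Fintype.card α = 5 ∧ k = 4 ∧ Nat.card G = 20) ∨
      (Fintype.card α = 6 ∧ k = 5 ∧ Nat.card G = 120) ∨ (Fintype.card α = 9 ∧ k = 5 ∧ (Nat.card G = 504 ∨ Nat.card G = 1512)) := by
  rcases Nat.lt_or_ge k (Fintype.card α) with hlt | hge
  swap
  · exact Or.inl ⟨le_antisymm hkn hge, eq_alternating_of_top hk (le_antisymm hkn hge) h hn⟩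
  right
  have hreg := semireg_of_not_kTrans hk hkn hn hs1 hs2
  rcases (show k = 3 ∨ k = 4 ∨ k = 5 ∨ 6 ≤ k by omega) with rfl | rfl | rfl | h6
  · exact (three_case h hn hs1 hs2 (by omega)).elim
  · obtain ⟨a, b⟩ := four_case h hn hs1 hs2 hreg (by omega)
    exact Or.inl ⟨a, rfl, b⟩
  · rcases five_case h hn hs1 hs2 hreg (by omega) with ⟨a, b⟩ | ⟨a, b⟩
    · exact Or.inr (Or.inl ⟨a, rfl, b⟩)
    · exact Or.inr (Or.inr ⟨a, rfl, b⟩)
  · exfalso
    obtain ⟨Δ₀, hΔ₀, hA⟩ := exists_altOn (show 4 ≤ k - 2 by omega) (by omega) h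
    rcases even_or_symOn hs1 (by rw [hΔ₀]; omega : Δ₀.card = k - 1) hA with ⟨Δ, hΔ, hS⟩ | ⟨hall, hE⟩
    · exact hn (kTrans_of_symOn (by omega) hs1 hΔ hS)
    · have hkt : KTrans G (k - 1 - 1) := by rw [show k - 1 - 1 = k - 2 by omega]; exact h
      rcases Nat.lt_or_ge k 7 with h7 | h7
      · obtain rfl : k = 6 := by omega
        obtain ⟨r, hr⟩ := even_sub_fix (k := 5) (by norm_num) (by omega) hkt hE
        exact five_false h (by omega) hall hE
      · exact six_false (k := k - 1) (by omega) (by omega) hkt hE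

end Cfsg.Homog
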