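import Cfsg.Agent.Homogeneous.Five
import Cfsg.Agent.Homogeneous.Alt

/-! Homogeneous groups: from induced groups to transitivity. -/

set_option autoImplicit false
set_option linter.unusedSectionVars false

open Equiv

namespace Cfsg.Homog

variable {α : Type*} [Fintype α] [DecidableEq α] {G : Subgroup (Perm α)}

/-- Transitivity on `k`-subsets. -/
def SetTrans (G : Subgroup (Perm α)) (k : ℕ) : Prop :=
  ∀ s t : Finset α, s.card = k → t.card = k → ∃ g ∈ G, s.image g = t

theorem setTrans_of_powersetCard {k : ℕ} (h : MulAction.IsPretransitive G (Set.powersetCard α k)) : SetTrans G k := by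
  intro s t hs ht
  obtain ⟨g, hg⟩ := MulAction.exists_smul_eq G (⟨s, hs⟩ : Set.powersetCard α k) ⟨t, ht⟩
  exact ⟨g, g.2, congrArg Subtype.val hg⟩

theorem AltOn.image {Δ : Finset α} (h : AltOn G Δ) {w : Perm α} (hw : w ∈ G) : AltOn G (Δ.image w) := by
  intro σ hσ hs
  have h1 := h (w⁻¹ * σ * w) (fun x hx => by
      have : w x ∉ Δ.image w := fun hc => by
        obtain ⟨y, hy, e⟩ := Finset.mem_image.1 hc
        exact hx (w.injective e ▸ hy)
      simp [hσ _ this])
    (by rw [Perm.sign_mul, Perm.sign_mul, Perm.sign_inv, mul_comm (Perm.sign w), mul_assoc, Int.units_mul_self, mul_one, hs])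
  have h2 := indGroup_conj h1 hw
  have e : w * (w⁻¹ * σ * w) * w⁻¹ = σ := by group
  rwa [e] at h2

theorem exists_perm_mapping {k : ℕ} (X Y : Fin k ↪ α) (h : Finset.univ.map X = Finset.univ.map Y) :
    ∃ σ : Perm α, (∀ z ∉ Finset.univ.map X, σ z = z) ∧ ∀ i, σ (X i) = Y i := by
  have hex : ∀ i, ∃ j, X j = Y i := fun i => by
    have : Y i ∈ Finset.univ.map X := h ▸ Finset.mem_map_of_mem _ (Finset.mem_univ i)
    obtain ⟨j, -, e⟩ := Finset.mem_map.1 this
    exact ⟨j, e⟩
  choose f hf using hex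
  have hinj : Function.Injective f := fun a b e => Y.injective (by rw [← hf a, ← hf b, e])
  have hbij := Finite.injective_iff_bijective.1 hinj
  refine ⟨Perm.viaEmbedding (Equiv.ofBijective f hbij) X, fun z hz => ?_, fun i => ?_⟩
  · exact Perm.viaEmbedding_apply_of_notMem _ _ _ (fun ⟨j, hj⟩ => hz (hj ▸ Finset.mem_map_of_mem _ (Finset.mem_univ j)))
  · rw [Perm.viaEmbedding_apply]; exact hf i

/-- If some set of size `k` carries its full symmetric group and `G` permutes these sets transitively, `G` is `k`-transitive. -/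
theorem kTrans_of_symOn {k : ℕ} (hkn : k ≤ Fintype.card α) (hset : SetTrans G k) {Δ : Finset α} (hΔ : Δ.card = k)
    (hS : SymOn G Δ) : KTrans G k := by
  refine kTrans_of_isMultiplyPretransitive hkn ((MulAction.isMultiplyPretransitive_iff).2 fun x y => ?_)
  obtain ⟨a, ha, hax⟩ := hset (Finset.univ.map x) Δ (by simp) hΔ
  obtain ⟨b, hb, hby⟩ := hset (Finset.univ.map y) Δ (by simp) hΔ
  set X : Fin k ↪ α := x.trans a.toEmbedding with hX
  set Y : Fin k ↪ α := y.trans b.toEmbedding with hY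
  have hXΔ : Finset.univ.map X = Δ := by rw [← hax, hX, ← Finset.map_map, Finset.map_eq_image]; rfl
  have hYΔ : Finset.univ.map Y = Δ := by rw [← hby, hY, ← Finset.map_map, Finset.map_eq_image]; rfl
  obtain ⟨σ, hσ, hσv⟩ := exists_perm_mapping X Y (hXΔ.trans hYΔ.symm)
  rw [hXΔ] at hσ
  obtain ⟨-, g, hg, hgσ⟩ := hS σ hσ
  refine ⟨⟨b⁻¹ * g * a, G.mul_mem (G.mul_mem (G.inv_mem hb) hg) ha⟩, Function.Embedding.ext fun i => ?_⟩
  show (b⁻¹ * g * a) (x i) = y i
  have h1 : g (a (x i)) = b (y i) :=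
    (hgσ (X i) (hXΔ ▸ Finset.mem_map_of_mem _ (Finset.mem_univ i))).trans (hσv i)
  simp [h1]

/-- Either some `k`-set carries the symmetric group, or every induced permutation is even. -/
theorem even_or_symOn {k : ℕ} (hset : SetTrans G k) {Δ₀ : Finset α} (hΔ₀ : Δ₀.card = k) (hA : AltOn G Δ₀) :
    (∃ Δ : Finset α, Δ.card = k ∧ SymOn G Δ) ∨
      ((∀ Δ : Finset α, Δ.card = k → AltOn G Δ) ∧ ∀ Δ : Finset α, Δ.card = k → ∀ σ ∈ indGroup G Δ, Perm.sign σ = 1) := by
  have hall : ∀ Δ : Finset α, Δ.card = k → AltOn G Δ := fun Δ hΔ => by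
    obtain ⟨w, hw, e⟩ := hset Δ₀ Δ hΔ₀ hΔ
    exact e ▸ hA.image hw
  by_cases h : ∀ Δ : Finset α, Δ.card = k → ∀ σ ∈ indGroup G Δ, Perm.sign σ = 1
  · exact Or.inr ⟨hall, h⟩
  · push Not at h
    obtain ⟨Δ, hΔ, σ₀, h0, h0s⟩ := h
    refine Or.inl ⟨Δ, hΔ, fun σ hσ => ?_⟩
    rcases Int.units_eq_one_or (Perm.sign σ) with e | e
    · exact hall Δ hΔ σ hσ e
    · have h1 := hall Δ hΔ (σ₀ * σ) (fun z hz => by rw [Perm.mul_apply, hσ z hz, h0.1 z hz])
        (by rw [Perm.sign_mul, e, (Int.units_eq_one_or (Perm.sign σ₀)).resolve_left h0s]; rfl)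
      have h2 := (indGroup G Δ).mul_mem ((indGroup G Δ).inv_mem h0) h1
      rwa [inv_mul_cancel_left] at h2

theorem ind_of_fix {Δ : Finset α} {g : Perm α} {σ : Perm α} (hg : g ∈ G) (hσ : ∀ x ∉ Δ, σ x = x)
    (h : ∀ x ∈ Δ, g x = σ x) : σ ∈ indGroup G Δ := ⟨hσ, g, hg, h⟩

/-- All induced permutations on `k`-sets even: an involution fixing `k - 2` points is trivial. -/
theorem inv_fix_of_even {k : ℕ} (hk : 2 ≤ k) (hE : ∀ Δ : Finset α, Δ.card = k → ∀ σ ∈ indGroup G Δ, Perm.sign σ = 1)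
    {i : Perm α} (hi : i ∈ G) (hii : i * i = 1) (T : Finset α) (hT : k - 2 ≤ T.card) (hfix : ∀ x ∈ T, i x = x) : i = 1 := by
  by_contra h1
  obtain ⟨a, ha⟩ : ∃ a, i a ≠ a := not_forall.1 fun h => h1 (Perm.ext h)
  have hia : i (i a) = a := by rw [← Perm.mul_apply, hii, Perm.one_apply]
  obtain ⟨T', hT', hT'c⟩ := Finset.exists_subset_card_eq hT
  have haT : a ∉ T' := fun h => ha (hfix a (hT' h))
  have hbT : i a ∉ T' := fun h => ha (i.injective (hfix _ (hT' h)))
  set Δ := insert a (insert (i a) T') with hΔ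
  have hΔc : Δ.card = k := by
    rw [hΔ, Finset.card_insert_of_notMem (by simp [Ne.symm ha, haT]), Finset.card_insert_of_notMem hbT, hT'c]; omega
  have := hE Δ hΔc (swap a (i a)) (ind_of_fix hi (supported_swap (by simp [hΔ]) (by simp [hΔ])) fun x hx => by
    rcases Finset.mem_insert.1 hx with rfl | hx
    · rw [swap_apply_left]
    rcases Finset.mem_insert.1 hx with rfl | hx
    · rw [swap_apply_right, hia]
    · rw [swap_apply_of_ne_of_ne (fun e => haT (by rw [← e]; exact hx)) (fun e => hbT (by rw [← e]; exact hx))]; exact hfix x (hT' hx))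
  rw [Perm.sign_swap (Ne.symm ha)] at this
  exact absurd this (by decide)

theorem two_elt_of_even {k : ℕ} (hk : 2 ≤ k) (hE : ∀ Δ : Finset α, Δ.card = k → ∀ σ ∈ indGroup G Δ, Perm.sign σ = 1)
    {g : Perm α} (hg : g ∈ G) {j : ℕ} (hj : g ^ (2 ^ j) = 1) (T : Finset α) (hT : k - 2 ≤ T.card) (hfix : ∀ x ∈ T, g x = x) : g = 1 := by
  induction j generalizing g with
  | zero => simpa using hj
  | succ j ih =>
    refine inv_fix_of_even hk hE hg ?_ T hT hfix
    exact ih (G.mul_mem hg hg) (by rw [← pow_two, ← pow_mul, ← pow_succ']; exact hj) (fun x hx => by simp [hfix x hx])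

/-- A transposition lift: an involution with exactly `k - 3` fixed points. -/
theorem exists_inv_fix {k : ℕ} (hk : 3 ≤ k) (hkn : k ≤ Fintype.card α) (hkt : KTrans G (k - 1))
    (hE : ∀ Δ : Finset α, Δ.card = k → ∀ σ ∈ indGroup G Δ, Perm.sign σ = 1) :
    ∃ t ∈ G, t * t = 1 ∧ t ≠ 1 ∧ (Finset.univ.filter fun x => t x = x).card = k - 3 := by
  obtain ⟨S, -, hS⟩ := Finset.exists_subset_card_eq (s := (Finset.univ : Finset α)) (n := k - 1) (by rw [Finset.card_univ]; omega)
  obtain ⟨a, ha, b, hb, hab⟩ := Finset.one_lt_card.1 (show 1 < S.card by omega)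
  obtain ⟨g, hg, hgS⟩ := hkt.exists_of_injOn S hS.le (swap a b) (swap a b).injective.injOn
  obtain ⟨t, ⟨m, -, htm⟩, ⟨j, hj⟩, hag⟩ := exists_two_part g
  have htG : t ∈ G := htm ▸ pow_mem hg m
  have htS : ∀ x ∈ S, t x = swap a b x := fun x hx => by
    rw [hag x (by rw [hgS x hx, hgS _ (apply_mem_of_supported (supported_swap ha hb) hx), swap_apply_self]), hgS x hx]
  have htt : t * t = 1 := two_elt_of_even (by omega) hE (G.mul_mem htG htG) (j := j)
    (by rw [← pow_two, ← pow_mul, mul_comm, pow_mul, hj, one_pow]) S (by omega)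
    (fun x hx => by rw [Perm.mul_apply, htS x hx, htS _ (apply_mem_of_supported (supported_swap ha hb) hx), swap_apply_self])
  have ht1 : t ≠ 1 := fun e => by
    have := htS a ha
    rw [e, Perm.one_apply, swap_apply_left] at this
    exact hab this
  refine ⟨t, htG, htt, ht1, le_antisymm ?_ ?_⟩
  · by_contra hc
    exact ht1 (inv_fix_of_even (by omega) hE htG htt (Finset.univ.filter fun x => t x = x) (by omega) (fun x hx => (Finset.mem_filter.1 hx).2))
  · have hsub : S \ {a, b} ⊆ Finset.univ.filter fun x => t x = x := fun x hx => by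
      simp only [Finset.mem_sdiff, Finset.mem_insert, Finset.mem_singleton, not_or] at hx
      exact Finset.mem_filter.2 ⟨Finset.mem_univ _, by rw [htS x hx.1, swap_apply_of_ne_of_ne hx.2.1 hx.2.2]⟩
    refine le_trans ?_ (Finset.card_le_card hsub)
    rw [Finset.card_sdiff_of_subset (by simp [Finset.insert_subset_iff, ha, hb]), hS, Finset.card_pair hab]
    omega

theorem even_sub_fix {k : ℕ} (hk : 3 ≤ k) (hkn : k ≤ Fintype.card α) (hkt : KTrans G (k - 1))
    (hE : ∀ Δ : Finset α, Δ.card = k → ∀ σ ∈ indGroup G Δ, Perm.sign σ = 1) : Even (Fintype.card α - (k - 3)) := by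
  obtain ⟨t, -, htt, -, hf⟩ := exists_inv_fix hk hkn hkt hE
  have := card_fix_add_card_support t
  have he := even_support_of_sq_eq_one htt
  rwa [show Fintype.card α - (k - 3) = t.support.card by omega]

theorem six_false {k : ℕ} (hk : 6 ≤ k) (hkn : k + 2 ≤ Fintype.card α) (hkt : KTrans G (k - 1))
    (hE : ∀ Δ : Finset α, Δ.card = k → ∀ σ ∈ indGroup G Δ, Perm.sign σ = 1) : False := by
  obtain ⟨t, htG, htt, ht1, hf⟩ := exists_inv_fix (by omega) (by omega) hkt hE
  have hsum := card_fix_add_card_support t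
  obtain ⟨r, hr⟩ := even_support_of_sq_eq_one htt
  have t2 : ∀ x, t (t x) = x := fun x => by rw [← Perm.mul_apply, htt, Perm.one_apply]
  set M := t.support with hM
  have mem : ∀ {x}, x ∈ M ↔ t x ≠ x := fun {x} => Perm.mem_support
  have pick : ∀ T : Finset α, T.card < M.card → ∃ x, t x ≠ x ∧ x ∉ T := fun T hT => by
    obtain ⟨x, hx, hx'⟩ := Finset.exists_mem_notMem_of_card_lt_card hT
    exact ⟨x, mem.1 hx, hx'⟩
  obtain ⟨a, ha, -⟩ := pick ∅ (by rw [Finset.card_empty]; omega)
  obtain ⟨c, hc, hca⟩ := pick {a, t a} (lt_of_le_of_lt Finset.card_le_two (by omega))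
  obtain ⟨e, he, hea⟩ := pick ({a, t a, c, t c}) (lt_of_le_of_lt Finset.card_le_four (by omega))
  simp only [Finset.mem_insert, Finset.mem_singleton, not_or] at hca hea
  obtain ⟨T, hT, hTc⟩ := Finset.exists_subset_card_eq (s := Finset.univ.filter fun x => t x = x) (n := k - 6) (by omega)
  have htT : ∀ x ∈ T, t x = x := fun x hx => (Finset.mem_filter.1 (hT hx)).2
  have hnd : [a, t a, c, t c, e, t e].Nodup := by
    simp only [List.nodup_cons, List.mem_cons, List.not_mem_nil, or_false, not_or, List.nodup_nil, and_true, not_false_iff]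
    exact ⟨⟨Ne.symm ha, Ne.symm hca.1, fun h => hca.2 (by rw [h, t2]), Ne.symm hea.1, fun h => hea.2.1 (by rw [h, t2])⟩,
      ⟨Ne.symm hca.2, fun h => hca.1 (t.injective h).symm, Ne.symm hea.2.1, fun h => hea.1 (t.injective h).symm⟩,
      ⟨Ne.symm hc, Ne.symm hea.2.2.1, fun h => hea.2.2.2 (by rw [h, t2])⟩,
      ⟨Ne.symm hea.2.2.2, fun h => hea.2.2.1 (t.injective h).symm⟩, Ne.symm he⟩
  set P := [a, t a, c, t c, e, t e].toFinset with hP
  have hdis : Disjoint P T := Finset.disjoint_left.2 fun x hx hx' => by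
    have h1 := htT x hx'
    simp only [hP, List.mem_toFinset, List.mem_cons, List.not_mem_nil, or_false] at hx
    rcases hx with rfl | rfl | rfl | rfl | rfl | rfl
    exacts [ha h1, ha (t.injective h1), hc h1, hc (t.injective h1), he h1, he (t.injective h1)]
  set σ := swap a (t a) * (swap c (t c) * swap e (t e)) with hσ
  have hsupp : ∀ x ∉ P, σ x = x := fun x hx => by
    simp only [hP, List.mem_toFinset, List.mem_cons, List.not_mem_nil, or_false, not_or] at hx
    obtain ⟨n1, n2, n3, n4, n5, n6⟩ := hx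
    rw [hσ, Perm.mul_apply, Perm.mul_apply, swap_apply_of_ne_of_ne n5 n6, swap_apply_of_ne_of_ne n3 n4, swap_apply_of_ne_of_ne n1 n2]
  have h1 := hE (P ∪ T) (by rw [Finset.card_union_of_disjoint hdis, hP, List.toFinset_card_of_nodup hnd, hTc]; simp; omega) σ
    (ind_of_fix htG (fun x hx => hsupp x fun h => hx (Finset.mem_union_left _ h)) fun x hx => by
      simp only [List.nodup_cons, List.mem_cons, List.not_mem_nil, or_false, not_or] at hnd
      obtain ⟨⟨d1, d2, d3, d4, d5⟩, ⟨d6, d7, d8, d9⟩, ⟨d10, d11, d12⟩, ⟨d13, d14⟩, d15, -⟩ := hnd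
      rcases Finset.mem_union.1 hx with hx | hx
      · simp only [hP, List.mem_toFinset, List.mem_cons, List.not_mem_nil, or_false] at hx
        rw [hσ, Perm.mul_apply, Perm.mul_apply]
        rcases hx with rfl | rfl | rfl | rfl | rfl | rfl
        · rw [swap_apply_of_ne_of_ne d4 d5, swap_apply_of_ne_of_ne d2 d3, swap_apply_left]
        · rw [swap_apply_of_ne_of_ne d8 d9, swap_apply_of_ne_of_ne d6 d7, swap_apply_right, t2]
        · rw [swap_apply_of_ne_of_ne d11 d12, swap_apply_left, swap_apply_of_ne_of_ne (Ne.symm d3) (Ne.symm d7)]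
        · rw [swap_apply_of_ne_of_ne d13 d14, swap_apply_right, swap_apply_of_ne_of_ne (Ne.symm d2) (Ne.symm d6), t2]
        · rw [swap_apply_left, swap_apply_of_ne_of_ne (Ne.symm d12) (Ne.symm d14), swap_apply_of_ne_of_ne (Ne.symm d5) (Ne.symm d9)]
        · rw [swap_apply_right, swap_apply_of_ne_of_ne (Ne.symm d11) (Ne.symm d13), swap_apply_of_ne_of_ne (Ne.symm d4) (Ne.symm d8), t2]
      · rw [hsupp x (Finset.disjoint_right.1 hdis hx), htT x hx])
  rw [hσ, Perm.sign_mul, Perm.sign_mul, Perm.sign_swap (Ne.symm ha), Perm.sign_swap (Ne.symm hc), Perm.sign_swap (Ne.symm he)] at h1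
  exact absurd h1 (by decide)

theorem big_homog_trans {k : ℕ} (hk : 5 ≤ k) (hkn : 2 * k ≤ Fintype.card α) (hset : SetTrans G k) (hkt : KTrans G (k - 1)) :
    KTrans G k := by
  obtain ⟨Δ₀, hΔ₀, hA⟩ := exists_altOn (by omega) (by omega) hkt
  rcases even_or_symOn hset (by rw [hΔ₀]; omega : Δ₀.card = k) hA with ⟨Δ, hΔ, hS⟩ | ⟨hall, hE⟩
  · exact kTrans_of_symOn (by omega) hset hΔ hS
  · exfalso
    rcases Nat.lt_or_ge k 6 with h6 | h6
    · obtain rfl : k = 5 := by omega
      exact five_false hkt (by omega) hall hE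
    · exact six_false h6 (by omega) hkt hE

end Cfsg.Homog
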