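import Cfsg.Agent.Homogeneous.General
import Cfsg.Agent.S0736

/-! The Livingstone–Wagner theorem. -/

set_option autoImplicit false
set_option linter.unusedSectionVars false

open Equiv

namespace Cfsg.Homog

variable {α : Type*} [Fintype α] [DecidableEq α] {G : Subgroup (Perm α)}

theorem lower_homog {k : ℕ} (hk : 2 ≤ k) (hkn : 2 * k ≤ Fintype.card α)
    (hh : MulAction.IsPretransitive G (Set.powersetCard α k)) : MulAction.IsPretransitive G (Set.powersetCard α (k - 1)) :=
  Cfsg.Agent.S0736.result G hk hh fun q _ hq => by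
    have := Nat.le_of_dvd (by omega) hq
    omega

theorem pred_trans : ∀ k : ℕ, 2 ≤ k → 2 * k ≤ Fintype.card α → MulAction.IsPretransitive G (Set.powersetCard α k) → KTrans G (k - 1) := by
  intro k
  induction k using Nat.strong_induction_on with
  | _ k ih =>
  intro hk hkn hh
  have hh1 := lower_homog hk hkn hh
  have hs1 := setTrans_of_powersetCard hh1
  rcases Nat.lt_or_ge k 3 with h3 | h3
  · obtain rfl : k = 2 := by omega
    intro l l' hl hl' hlen hlk
    match l, l', hlen, hlk with
    | [], [], _, _ => exact ⟨1, G.one_mem, rfl⟩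
    | [a], [b], _, _ =>
      obtain ⟨g, hg, e⟩ := hs1 {a} {b} rfl rfl
      rw [Finset.image_singleton, Finset.singleton_inj] at e
      exact ⟨g, hg, by simp [e]⟩
  · by_contra hn
    have h2 := ih (k - 1) (by omega) (by omega) (by omega) hh1
    rw [show k - 1 - 1 = k - 2 by omega] at h2
    rcases homog_cases h3 (by omega) h2 hn hs1 (setTrans_of_powersetCard hh) with ⟨e, -⟩ | ⟨e, e', -⟩ | ⟨e, e', -⟩ | ⟨e, e', -⟩ <;> omega

end Cfsg.Homog
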