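import Cfsg.Agent.Homogeneous.Count

/-! No triply transitive group of degree 9 with the parameters `|G| = 1008`. -/

set_option autoImplicit false
set_option linter.unusedSectionVars false

open Equiv

namespace Cfsg.Homog

variable {α : Type*} [Fintype α] [DecidableEq α] {G : Subgroup (Perm α)}

theorem zmod7_sq : ∀ u : ZMod 7, u ^ 2 = 1 → u = 1 ∨ u = 6 := by decide

theorem zmod7_six : (6 : ZMod 7) * 6 = 1 := by decide

theorem nine_false (h3 : KTrans G 3) (hreg : Semireg G 3) (h9 : Fintype.card α = 9) {L : ℕ}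
    (hL : Nat.card G = (Fintype.card α).descFactorial 3 * L) (h2L : 2 ∣ L) : False := by
  classical
  have : Fact (Nat.Prime 7) := ⟨by norm_num⟩
  have : Fact (Nat.Prime 2) := ⟨Nat.prime_two⟩
  have hdvd : 7 ∣ Nat.card G := by rw [hL, h9]; exact Dvd.dvd.mul_right (by decide) _
  obtain ⟨⟨z, hzG⟩, hz⟩ := exists_prime_orderOf_dvd_card' 7 hdvd
  rw [Subgroup.orderOf_mk] at hz
  have hz7 : z ^ 7 = 1 := hz ▸ pow_orderOf_eq_one z
  have h7 : ∀ c ∈ z.cycleType, c = 7 := Perm.pow_prime_eq_one_iff.1 hz7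
  have hsum := Perm.sum_cycleType z
  rw [Multiset.eq_replicate_card.2 h7, Multiset.sum_replicate, smul_eq_mul] at hsum
  have hle : z.support.card ≤ 9 := h9 ▸ Finset.card_le_univ _
  have hz1 : z ≠ 1 := fun h => by rw [h, orderOf_one] at hz; omega
  have hpos : 0 < z.cycleType.card := Multiset.card_pos.2 (fun h => hz1 (Perm.cycleType_eq_zero.1 h))
  have hcyc : z.IsCycle := Perm.card_cycleType_eq_one.1 (by omega)
  have hsupp : z.support.card = 7 := by omega
  obtain ⟨a, b, hab, hF⟩ := Finset.card_eq_two.1 (show (Finset.univ \ z.support).card = 2 by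
    rw [Finset.card_sdiff_of_subset (Finset.subset_univ _), Finset.card_univ, h9, hsupp])
  set F : Finset α := Finset.univ \ z.support with hFdef
  have memF : ∀ {v}, v ∈ F ↔ z v = v := fun {v} => by simp [hFdef]
  have za : z a = a := memF.1 (by rw [hF]; simp)
  have zb : z b = b := memF.1 (by rw [hF]; simp)
  obtain ⟨v₀, hv₀⟩ := Finset.card_pos.1 (show 0 < z.support.card by omega)
  have hzv : z v₀ ≠ v₀ := Perm.mem_support.1 hv₀
  set T := lifts G F 1 with hT
  have Tout : ∀ g ∈ T, ∀ v, v ∉ F → g v ∉ F := fun g hg v hv hgv => by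
    have := (mem_lifts.1 hg).2 _ hgv
    rw [Perm.one_apply] at this
    exact hv (g.injective this ▸ hgv)
  have hT42 : T.card ≤ 42 := by
    have hb' : z v₀ ∉ F := fun hh => hzv (z.injective (memF.1 hh))
    have haF : v₀ ∉ F := fun hh => hzv (memF.1 hh)
    have h1 : T.card ≤ (z.support.offDiag).card := Finset.card_le_card_of_injOn (fun g => (g v₀, g (z v₀)))
      (fun g hg => by
        simp only [Finset.mem_coe, Finset.mem_offDiag, Perm.mem_support]
        exact ⟨fun hh => Tout g hg v₀ haF (memF.2 hh), fun hh => Tout g hg _ hb' (memF.2 hh), fun hh => hzv (g.injective hh).symm⟩)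
      (fun g hg f hf he => by
        simp only [Prod.mk.injEq] at he
        obtain ⟨hgG, hgF⟩ := mem_lifts.1 hg
        obtain ⟨hfG, hfF⟩ := mem_lifts.1 hf
        refine (inv_mul_eq_one.1 (hreg (f⁻¹ * g) (G.mul_mem (G.inv_mem hfG) hgG) (insert v₀ (insert (z v₀) F)) ?_ ?_)).symm
        · rw [Finset.card_insert_of_notMem (by simp [haF, Ne.symm hzv]), Finset.card_insert_of_notMem hb', hF, Finset.card_pair hab]
          omega
        · intro v hv
          rw [Perm.mul_apply, Perm.coe_inv, Equiv.symm_apply_eq]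
          simp only [Finset.mem_insert] at hv
          rcases hv with rfl | rfl | hv
          · exact he.1
          · exact he.2
          · rw [hgF v hv, hfF v hv])
    rw [Finset.offDiag_card, hsupp] at h1
    omega
  have mem_sub : ∀ g ∈ T, g ^ 7 = 1 → g ∈ Subgroup.zpowers z := by
    intro g hg hg7
    obtain ⟨hgG, hgF⟩ := mem_lifts.1 hg
    obtain ⟨⟨i, j⟩, -, ⟨i', j'⟩, -, hne, he⟩ := Finset.exists_ne_map_eq_of_card_lt_of_maps_to
      (s := (Finset.univ : Finset (Fin 7 × Fin 7))) (t := T) (f := fun ij => z ^ (ij.1 : ℕ) * g ^ (ij.2 : ℕ))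
      (by rw [Finset.card_univ, Fintype.card_prod, Fintype.card_fin]; omega)
      (fun ij _ => mem_lifts.2 ⟨G.mul_mem (pow_mem hzG _) (pow_mem hgG _), fun v hv => by
        rw [Perm.mul_apply, Perm.pow_apply_eq_self_of_apply_eq_self (hgF v hv), Perm.pow_apply_eq_self_of_apply_eq_self (memF.1 hv)]
        rfl⟩)
    simp only at he
    have h1 : g ^ ((j : ℤ) - (j' : ℤ)) = z ^ ((i' : ℤ) - (i : ℤ)) := by
      rw [zpow_sub, zpow_natCast, zpow_natCast, zpow_sub, zpow_natCast, zpow_natCast, mul_inv_eq_iff_eq_mul,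
        ← (Commute.refl z).pow_pow (i' : ℕ) (i : ℕ) |>.inv_right.symm.eq, mul_assoc, eq_inv_mul_iff_mul_eq]
      exact he
    by_cases hj : (j : ℕ) = j'
    · exfalso
      rw [hj, mul_left_inj] at he
      have := pow_injOn_Iio_orderOf (show (i : ℕ) ∈ Set.Iio (orderOf z) by rw [hz]; exact i.isLt)
        (show (i' : ℕ) ∈ Set.Iio (orderOf z) by rw [hz]; exact i'.isLt) he
      exact hne (Prod.ext (Fin.ext this) (Fin.ext hj))
    · have hcop : IsCoprime ((j : ℤ) - (j' : ℤ)) 7 := by
        rw [Int.isCoprime_iff_gcd_eq_one, Int.gcd_eq_natAbs, ← Nat.coprime_iff_gcd_eq_one, Nat.coprime_comm,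
          show Int.natAbs 7 = 7 from rfl, (show Nat.Prime 7 by norm_num).coprime_iff_not_dvd]
        intro hd
        have := j.isLt; have := j'.isLt
        have h2 := Nat.le_of_dvd (by omega) hd
        omega
      obtain ⟨u, v, huv⟩ := hcop
      have : g = (g ^ ((j : ℤ) - (j' : ℤ))) ^ u := by
        conv_lhs => rw [← zpow_one g, ← huv, zpow_add, mul_comm v 7, zpow_mul g 7 v, show g ^ (7 : ℤ) = 1 from mod_cast hg7, one_zpow, mul_one]
        rw [← zpow_mul, mul_comm]
      rw [this, h1, ← zpow_mul]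
      exact Subgroup.zpow_mem_zpowers z _
  -- conjugation exponents
  have exponent : ∀ g ∈ G, (∀ v ∈ F, g v ∈ F) → ∃ i : ℕ, g * z * g⁻¹ = z ^ i := by
    intro g hg hgF
    have him : ∀ v ∈ F, g⁻¹ v ∈ F := fun v hv => by
      have e : F.image g = F := Finset.eq_of_subset_of_card_le (fun y hy => by
        obtain ⟨u, hu, rfl⟩ := Finset.mem_image.1 hy
        exact hgF u hu) (by rw [Finset.card_image_of_injective _ g.injective])
      rw [← e] at hv
      obtain ⟨u, hu, rfl⟩ := Finset.mem_image.1 hv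
      simpa using hu
    have hm := mem_sub (g * z * g⁻¹) (mem_lifts.2 ⟨G.mul_mem (G.mul_mem hg hzG) (G.inv_mem hg), fun v hv => by
      rw [Perm.mul_apply, Perm.mul_apply, memF.1 (him v hv)]; simp⟩) (by rw [conj_pow, hz7, mul_one, mul_inv_cancel])
    obtain ⟨i, -, hi⟩ := (IsOfFinOrder.mem_powers_iff_mem_range_orderOf (isOfFinOrder_of_finite z)).1
      ((IsOfFinOrder.mem_powers_iff_mem_zpowers (isOfFinOrder_of_finite z)).2 hm) |> Finset.mem_image.1
    exact ⟨i, hi.symm⟩
  have exp_eq : ∀ i j : ℕ, z ^ i = z ^ j → (i : ZMod 7) = j := fun i j h => by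
    rw [ZMod.natCast_eq_natCast_iff', ← hz]
    exact pow_inj_mod.1 h
  have exp_iter : ∀ (g : Perm α) (i : ℕ), g * z * g⁻¹ = z ^ i → ∀ r, g ^ r * z * (g ^ r)⁻¹ = z ^ (i ^ r) := by
    intro g i h r
    induction r with
    | zero => simp
    | succ r ih =>
      calc g ^ (r + 1) * z * (g ^ (r + 1))⁻¹ = g ^ r * (g * z * g⁻¹) * (g ^ r)⁻¹ := by rw [pow_succ]; group
        _ = (g ^ r * z * (g ^ r)⁻¹) ^ i := by rw [h, conj_pow]
        _ = _ := by rw [ih, ← pow_mul, pow_succ]
  -- an element commuting with `z` has seventh power fixing the long orbit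
  have comm7 : ∀ g ∈ G, Commute g z → g ^ 7 = 1 := by
    intro g hg hgz
    have hgv : g v₀ ∉ F := fun hh => hzv (by
      have h1 := memF.1 hh
      rw [← Perm.mul_apply, ← hgz.eq, Perm.mul_apply] at h1
      exact g.injective h1)
    obtain ⟨n, hn⟩ : z.SameCycle v₀ (g v₀) := hcyc.sameCycle hzv (fun hh => hgv (memF.2 hh))
    have hgn : ∀ m : ℕ, (g ^ m) v₀ = (z ^ (n * m)) v₀ := fun m => by
      induction m with
      | zero => simp
      | succ m ih =>
        rw [pow_succ', Perm.mul_apply, ih, ← Perm.mul_apply, (hgz.zpow_right _).eq, Perm.mul_apply, ← hn, ← Perm.mul_apply,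
          ← zpow_add]
        congr 2
        push_cast; ring
    refine hreg _ (pow_mem hg 7) z.support (by omega) fun v hv => ?_
    obtain ⟨k, hk⟩ := hcyc.sameCycle hzv (Perm.mem_support.1 hv)
    rw [← hk, ← Perm.mul_apply, ((hgz.pow_left 7).zpow_right k).eq, Perm.mul_apply, hgn 7, mul_comm n,
      zpow_mul, zpow_natCast, hz7, one_zpow, Perm.one_apply]
  obtain ⟨c₀, hc₀⟩ : ∃ c, c ≠ a ∧ c ≠ b := ⟨v₀, fun e => hzv (e ▸ za), fun e => hzv (e ▸ zb)⟩
  -- the involution in the pointwise stabiliser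
  let x : Fin 3 ↪ α := ⟨![a, b, c₀], by
    intro i j hij
    fin_cases i <;> fin_cases j <;> simp [hab, hc₀.1, hc₀.2, Ne.symm hab, Ne.symm hc₀.1, Ne.symm hc₀.2] at hij ⊢⟩
  obtain ⟨y, hyG, hy2, hyx⟩ := exists_fix_order h3 (by omega) hL h2L x
  have ya : y a = a := hyx 0
  have yb : y b = b := hyx 1
  have hyy : y ^ 2 = 1 := hy2 ▸ pow_orderOf_eq_one y
  obtain ⟨i, hi⟩ := exponent y hyG (fun v hv => by
    rw [hF, Finset.mem_insert, Finset.mem_singleton] at hv ⊢
    rcases hv with rfl | rfl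
    exacts [Or.inl ya, Or.inr yb])
  have hi2 : (i : ZMod 7) ^ 2 = 1 := by
    have := exp_iter y i hi 2
    rw [hyy, one_mul, inv_one, mul_one, eq_comm] at this
    have := exp_eq _ 1 (by rw [this, pow_one])
    push_cast at this; exact this
  have hi1 : (i : ZMod 7) ≠ 1 := fun e => by
    have hc : Commute y z := by
      have hzi : z ^ i = z := by
        conv_rhs => rw [← pow_one z]
        rw [pow_inj_mod, hz]
        exact (ZMod.natCast_eq_natCast_iff' i 1 7).1 (by rw [e]; norm_num)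
      rw [Commute, SemiconjBy, ← mul_inv_eq_iff_eq_mul, hi, hzi]
    have h7y := comm7 y hyG hc
    have : y = 1 := by
      calc y = (y ^ 2) ^ 4 * (y ^ 7)⁻¹ := by group
        _ = 1 := by rw [hyy, h7y, one_pow, inv_one, one_mul]
    rw [this, orderOf_one] at hy2
    omega
  -- an element swapping `a` and `b`
  obtain ⟨s, hs, hsl⟩ := (h3.mono (show 2 ≤ 3 by omega)) [a, b] [b, a] (by simp [hab]) (by simp [Ne.symm hab]) rfl le_rfl
  simp only [List.map_cons, List.map_nil, List.cons.injEq, and_true] at hsl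
  obtain ⟨t, ⟨m, -, htm⟩, ⟨r, hr⟩, hag⟩ := exists_two_part s
  have htG : t ∈ G := htm ▸ pow_mem hs m
  have ta : t a = b := by rw [hag a (by rw [hsl.1, hsl.2]), hsl.1]
  have tb : t b = a := by rw [hag b (by rw [hsl.2, hsl.1]), hsl.2]
  obtain ⟨j, hj⟩ := exponent t htG (fun v hv => by
    rw [hF, Finset.mem_insert, Finset.mem_singleton] at hv ⊢
    rcases hv with rfl | rfl
    exacts [Or.inr ta, Or.inl tb])
  have hj2 : (j : ZMod 7) ^ (2 ^ r) = 1 := by
    have := exp_iter t j hj (2 ^ r)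
    rw [hr, one_mul, inv_one, mul_one, eq_comm] at this
    have := exp_eq _ 1 (by rw [this, pow_one])
    push_cast at this; exact this
  have hj0 : (j : ZMod 7) ≠ 0 := fun e => by
    rw [e, zero_pow (by positivity)] at hj2
    exact zero_ne_one hj2
  have hjsq : (j : ZMod 7) ^ 2 = 1 := by
    have h6 : (j : ZMod 7) ^ 6 = 1 := ZMod.pow_card_sub_one_eq_one hj0
    have hg := pow_gcd_eq_one.2 ⟨hj2, h6⟩
    have hco : Nat.Coprime (2 ^ r) 3 := Nat.Coprime.pow_left r (by norm_num)
    rw [show 6 = 2 * 3 from rfl, Nat.Coprime.gcd_mul_right_cancel_right _ hco.symm] at hg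
    exact orderOf_dvd_iff_pow_eq_one.1 ((orderOf_dvd_of_pow_eq_one hg).trans (Nat.gcd_dvd_right _ _))
  have pm : ∀ u : ZMod 7, u ^ 2 = 1 → u = 1 ∨ u = 6 := zmod7_sq
  -- an element swapping `a, b` and commuting with `z`
  obtain ⟨w, hwG, wa, hwj⟩ : ∃ w ∈ G, w a = b ∧ ∃ k : ℕ, w * z * w⁻¹ = z ^ k ∧ (k : ZMod 7) = 1 := by
    rcases pm _ hjsq with e | e
    · exact ⟨t, htG, ta, j, hj, e⟩
    · refine ⟨t * y, G.mul_mem htG hyG, by rw [Perm.mul_apply, ya, ta], j * i, ?_, ?_⟩
      · calc t * y * z * (t * y)⁻¹ = t * (y * z * y⁻¹) * t⁻¹ := by group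
          _ = (t * z * t⁻¹) ^ i := by rw [hi, conj_pow]
          _ = z ^ (j * i) := by rw [hj, ← pow_mul]
      · push_cast
        rw [e, (pm _ hi2).resolve_left hi1]; exact zmod7_six
  obtain ⟨k, hk, hk1⟩ := hwj
  have hc : Commute w z := by
    have hzk : z ^ k = z := by
      conv_rhs => rw [← pow_one z]
      rw [pow_inj_mod, hz]
      exact (ZMod.natCast_eq_natCast_iff' k 1 7).1 (by rw [hk1]; norm_num)
    rw [Commute, SemiconjBy, ← mul_inv_eq_iff_eq_mul, hk, hzk]
  have h7w := comm7 w hwG hc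
  have hwb : w b = a := by
    have h1 : w b ∈ F := memF.2 (by rw [← Perm.mul_apply, ← hc.eq, Perm.mul_apply, zb])
    rw [hF, Finset.mem_insert, Finset.mem_singleton] at h1
    exact h1.resolve_right fun e => hab (w.injective (wa.trans e.symm))
  have := congrArg (fun f : Perm α => f a) h7w
  simp only [pow_succ, pow_zero, one_mul, Perm.mul_apply, Perm.one_apply, wa, hwb] at this
  exact hab this.symm

end Cfsg.Homog
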