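import Cfsg.Agent.Homogeneous.Basic

/-! The inductive step `k ≥ 5` for the alternating group on some `(k+1)`-set, semiregular case. -/

set_option autoImplicit false
set_option linter.unusedSectionVars false

open Equiv

namespace Cfsg.Homog

variable {α : Type*} [Fintype α] [DecidableEq α] {G : Subgroup (Perm α)}

/-- Permutations of `Δ` fixing `p`, with prescribed kind of sign, are induced. -/
def Avoid (G : Subgroup (Perm α)) (Δ : Finset α) (p : α) (Q : ℤˣ → Prop) : Prop :=
  ∀ σ : Perm α, (∀ x ∉ Δ, σ x = x) → σ p = p → Q (Perm.sign σ) → σ ∈ indGroup G Δ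

theorem Avoid.conj {Δ : Finset α} {p : α} {Q : ℤˣ → Prop} (h : Avoid G Δ p Q) {w : Perm α} (hw : w ∈ G) :
    Avoid G (Δ.image w) (w p) Q := by
  intro σ hσ hp hQ
  have h1 := h (w⁻¹ * σ * w) (fun x hx => by
      have : w x ∉ Δ.image w := fun hc => by
        obtain ⟨y, hy, e⟩ := Finset.mem_image.1 hc
        exact hx (w.injective e ▸ hy)
      simp [hσ _ this]) (by simp [hp])
    (by rwa [Perm.sign_mul, Perm.sign_mul, Perm.sign_inv, mul_comm (Perm.sign w), mul_assoc, Int.units_mul_self, mul_one])
  have h2 := indGroup_conj h1 hw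
  have e : w * (w⁻¹ * σ * w) * w⁻¹ = σ := by group
  rwa [e] at h2

theorem exists_lift_fixing {S : Finset α} {y : α} {σ : Perm α} (hy : σ y = y) (h : σ ∈ indGroup G (insert y S)) :
    ∃ g ∈ lifts G S σ, g y = y := by
  obtain ⟨-, g, hg, hgσ⟩ := h
  exact ⟨g, mem_lifts.2 ⟨hg, fun z hz => hgσ z (Finset.mem_insert_of_mem hz)⟩, (hgσ y (Finset.mem_insert_self _ _)).trans hy⟩

theorem extraFix_le {k : ℕ} (hreg : Semireg G k) {S M : Finset α} (hS : S.card = k) (hM : M ⊆ S) {σ : Perm α} {a : α}
    (haS : a ∈ S) (ha : σ a ≠ a) (hfix : ∀ x ∈ S, x ∉ M → σ x = x) {g : Perm α} (hg : g ∈ lifts G S σ) :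
    (extraFix S g).card ≤ M.card := by
  by_contra hc
  obtain ⟨hgG, hgσ⟩ := mem_lifts.1 hg
  have h1 : g = 1 := hreg g hgG ((S \ M) ∪ extraFix S g) (by
      rw [Finset.card_union_of_disjoint]
      · rw [Finset.card_sdiff_of_subset hM]
        have := Finset.card_le_card hM
        omega
      · exact Finset.disjoint_left.2 fun x hx hx' => (mem_extraFix.1 hx').1 (Finset.mem_sdiff.1 hx).1)
    (fun x hx => by
      rcases Finset.mem_union.1 hx with h | h
      · rw [hgσ x (Finset.mem_sdiff.1 h).1]; exact hfix x (Finset.mem_sdiff.1 h).1 (Finset.mem_sdiff.1 h).2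
      · exact (mem_extraFix.1 h).2)
  exact ha (by rw [← hgσ a haS, h1, Perm.one_apply])

theorem big_false {k : ℕ} (hk : 5 ≤ k) (hkt : KTrans G k) (hreg : Semireg G k)
    {S : Finset α} {x : α} (hS : S.card = k) (hx : x ∉ S) (hA : Avoid G (insert x S) x (· = 1))
    (hfail : ∀ Δ : Finset α, Δ.card = k + 1 → ¬ AltOn G Δ) : False := by
  classical
  -- two different exceptional points in one set give the alternating group
  have two : ∀ y ∉ S, ∀ p ∈ insert y S, ∀ q ∈ insert y S, Avoid G (insert y S) p (· = 1) →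
      Avoid G (insert y S) q (· = 1) → p = q := by
    intro y hy p hp q hq h1 h2
    by_contra hpq
    have hc : (insert y S).card = k + 1 := by rw [Finset.card_insert_of_notMem hy, hS]
    exact hfail _ hc (altOn_of_two (by omega) hp hq hpq h1 h2)
  have w_ex : ∀ s ∈ S, ∃ w ∈ G, (∀ t ∈ S.erase s, w t = t) ∧ w x = s := fun s hs =>
    hkt.exists_move (S.erase s) (by rw [Finset.card_erase_of_mem hs]; omega)
      (fun h => hx (Finset.mem_erase.1 h).2) (fun h => (Finset.mem_erase.1 h).1 rfl)
  choose! w hwG hwfix hwx using w_ex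
  let y : α → α := fun s => w s s
  have hy : ∀ s ∈ S, y s ∉ S := fun s hs hc => by
    by_cases e : y s = s
    · exact hx (((w s).injective (e.trans (hwx s hs).symm)) ▸ hs)
    · have h1 := hwfix s hs (y s) (Finset.mem_erase.2 ⟨e, hc⟩)
      exact e ((w s).injective h1)
  have himg : ∀ s ∈ S, (insert x S).image (w s) = insert (y s) S := fun s hs => by
    rw [Finset.image_insert, hwx s hs]
    conv_lhs => rw [← Finset.insert_erase hs, Finset.image_insert]
    have e : (S.erase s).image (w s) = S.erase s := (Finset.image_congr (fun t ht => hwfix s hs t ht)).trans Finset.image_id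
    rw [e, Finset.insert_comm, Finset.insert_erase hs]
  have htrans : ∀ (Q : ℤˣ → Prop), Avoid G (insert x S) x Q → ∀ s ∈ S, Avoid G (insert (y s) S) s Q := fun Q h s hs => by
    have := h.conj (hwG s hs)
    rwa [himg s hs, hwx s hs] at this
  have moveS : ∀ f ∈ lifts G S 1, ∀ z, (insert z S).image f = insert (f z) S := fun f hf z => by
    rw [Finset.image_insert]
    have e : S.image f = S := (Finset.image_congr (fun t ht => (mem_lifts.1 hf).2 t ht)).trans Finset.image_id
    rw [e]
  have out : ∀ f ∈ lifts G S 1, ∀ z ∉ S, f z ∉ S := fun f hf z hz hc => by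
    have h1 := (mem_lifts.1 hf).2 _ hc
    rw [Perm.one_apply] at h1
    exact hz (f.injective h1 ▸ hc)
  -- inequivalence
  have ineq_yy : ∀ s ∈ S, ∀ t ∈ S, ∀ f ∈ lifts G S 1, f (y s) = y t → s = t := by
    intro s hs t ht f hf he
    have h1 := (htrans _ hA s hs).conj (mem_lifts.1 hf).1
    rw [moveS f hf, he, (mem_lifts.1 hf).2 s hs, Perm.one_apply] at h1
    exact two (y t) (hy t ht) s (Finset.mem_insert_of_mem hs) t (Finset.mem_insert_of_mem ht) h1 (htrans _ hA t ht)
  have ineq_xy : ∀ z ∉ S, Avoid G (insert z S) z (· = 1) → ∀ s ∈ S, ∀ f ∈ lifts G S 1, f z ≠ y s ∧ f (y s) ≠ z := by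
    intro z hz hzA s hs f hf
    constructor <;> intro he
    · have h1 := hzA.conj (mem_lifts.1 hf).1
      rw [moveS f hf, he] at h1
      have e := two (y s) (hy s hs) _ (Finset.mem_insert_self _ _) s (Finset.mem_insert_of_mem hs) h1 (htrans _ hA s hs)
      exact hy s hs (by rw [e]; exact hs)
    · have h1 := (htrans _ hA s hs).conj (mem_lifts.1 hf).1
      rw [moveS f hf, he, (mem_lifts.1 hf).2 s hs, Perm.one_apply] at h1
      exact hz (two z hz s (Finset.mem_insert_of_mem hs) _ (Finset.mem_insert_self _ _) h1 hzA ▸ hs)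
  by_cases hodd : ∃ σ ∈ indGroup G (insert x S), σ x = x ∧ Perm.sign σ ≠ 1
  · -- every permutation of `S` lifts with fixed point `x`
    obtain ⟨σ₀, h0, h0x, h0o⟩ := hodd
    have hfull : Avoid G (insert x S) x (fun _ => True) := by
      intro σ hσ hσx _
      rcases Int.units_eq_one_or (Perm.sign σ) with e | e
      · exact hA σ hσ hσx e
      · have h1 := hA (σ₀ * σ) (fun z hz => by rw [Perm.mul_apply, hσ z hz, h0.1 z hz]) (by rw [Perm.mul_apply, hσx, h0x])
          (by rw [Perm.sign_mul, e, (Int.units_eq_one_or (Perm.sign σ₀)).resolve_left h0o]; rfl)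
        have h2 := (indGroup G _).mul_mem ((indGroup G _).inv_mem h0) h1
        rwa [inv_mul_cancel_left] at h2
    obtain ⟨a, ha, b, hb, hab⟩ := Finset.one_lt_card.1 (show 1 < S.card by omega)
    have hab' : ({a, b} : Finset α) ⊆ S := by simp [Finset.insert_subset_iff, ha, hb]
    set τ := swap a b with hτ
    have hτS : ∀ z ∉ S, τ z = z := supported_swap ha hb
    have hτsup : ∀ z, ∀ v ∉ insert z S, τ v = v := fun z v hv => hτS v fun h => hv (Finset.mem_insert_of_mem h)
    let T : Finset α := insert x ((S \ {a, b}).image y)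
    have hinj : Set.InjOn y ↑(S \ {a, b}) := fun s hs t ht e =>
      ineq_yy s (Finset.mem_sdiff.1 hs).1 t (Finset.mem_sdiff.1 ht).1 1 (one_mem_lifts S) (by simpa using e)
    have hTc : T.card = k - 1 := by
      have hnm : x ∉ (S \ {a, b}).image y := fun h => by
        obtain ⟨s, hs, e⟩ := Finset.mem_image.1 h
        exact (ineq_xy x hx hA s (Finset.mem_sdiff.1 hs).1 1 (one_mem_lifts S)).1 (by simpa using e.symm)
      rw [Finset.card_insert_of_notMem hnm, Finset.card_image_of_injOn hinj, Finset.card_sdiff_of_subset hab',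
        Finset.card_pair hab, hS]
      omega
    have hne : (lifts G S τ).Nonempty := by
      obtain ⟨g, hg, -⟩ := exists_lift_fixing (hτS x hx) (hfull τ (hτsup x) (hτS x hx) trivial)
      exact ⟨g, hg⟩
    have := le_of_orbit_bound (c := 2) hreg hS hτS T (fun z hz => by
        rcases Finset.mem_insert.1 hz with rfl | hz
        · exact ⟨hx, exists_lift_fixing (hτS _ hx) (hfull τ (hτsup _) (hτS _ hx) trivial)⟩
        · obtain ⟨s, hs, rfl⟩ := Finset.mem_image.1 hz
          simp only [Finset.mem_sdiff, Finset.mem_insert, Finset.mem_singleton, not_or] at hs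
          exact ⟨hy s hs.1, exists_lift_fixing (hτS _ (hy s hs.1)) (htrans _ hfull s hs.1 τ (hτsup _)
            (swap_apply_of_ne_of_ne hs.2.1 hs.2.2) trivial)⟩)
      (fun u hu v hv f hf he => by
        rcases Finset.mem_insert.1 hu with e1 | hu <;> rcases Finset.mem_insert.1 hv with e2 | hv
        · rw [e1, e2]
        · obtain ⟨s, hs, rfl⟩ := Finset.mem_image.1 hv
          exact absurd (e1 ▸ he) (ineq_xy x hx hA s (Finset.mem_sdiff.1 hs).1 f hf).1
        · obtain ⟨s, hs, rfl⟩ := Finset.mem_image.1 hu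
          exact absurd (e2 ▸ he) (ineq_xy x hx hA s (Finset.mem_sdiff.1 hs).1 f hf).2
        · obtain ⟨s, hs, rfl⟩ := Finset.mem_image.1 hu
          obtain ⟨t, ht, rfl⟩ := Finset.mem_image.1 hv
          exact congrArg y (ineq_yy s (Finset.mem_sdiff.1 hs).1 t (Finset.mem_sdiff.1 ht).1 f hf he))
      (fun g hg => (extraFix_le hreg hS hab' ha (by rw [hτ, swap_apply_left]; exact hab.symm)
        (fun z _ hz => by
          simp only [Finset.mem_insert, Finset.mem_singleton, not_or] at hz
          exact swap_apply_of_ne_of_ne hz.1 hz.2) hg).trans Finset.card_le_two) hne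
    omega
  · push Not at hodd
    obtain ⟨a, b, c, ha, hb, hc, hab, hac, hbc⟩ := Finset.two_lt_card_iff.1 (show 2 < S.card by omega)
    have habc : ({a, b, c} : Finset α) ⊆ S := by simp [Finset.insert_subset_iff, ha, hb, hc]
    set σ := swap b c * swap a b with hσdef
    have hσS : ∀ z ∉ S, σ z = z := fun z hz => by
      rw [hσdef, Perm.mul_apply, supported_swap ha hb z hz, supported_swap hb hc z hz]
    have hσ1 : Perm.sign σ = 1 := by
      rw [hσdef, Perm.sign_mul, Perm.sign_swap hbc, Perm.sign_swap hab]; decide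
    have hσfix : ∀ z, z ∉ ({a, b, c} : Finset α) → σ z = z := fun z hz => by
      simp only [Finset.mem_insert, Finset.mem_singleton, not_or] at hz
      rw [hσdef, Perm.mul_apply, swap_apply_of_ne_of_ne hz.1 hz.2.1, swap_apply_of_ne_of_ne hz.2.1 hz.2.2]
    have hσsup : ∀ z, ∀ v ∉ insert z S, σ v = v := fun z v hv => hσS v fun h => hv (Finset.mem_insert_of_mem h)
    -- the image of `x` under a lift of a transposition
    obtain ⟨q, hqG, hq⟩ := hkt.exists_of_injOn S hS.le (swap a b) (swap a b).injective.injOn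
    have hqS : S.image q = S := Finset.eq_of_subset_of_card_le
      (fun z hz => by
        obtain ⟨v, hv, rfl⟩ := Finset.mem_image.1 hz
        rw [hq v hv]; exact apply_mem_of_supported (supported_swap ha hb) hv)
      (by rw [Finset.card_image_of_injective _ q.injective])
    have hx' : q x ∉ S := fun h => by
      rw [← hqS] at h
      obtain ⟨v, hv, e⟩ := Finset.mem_image.1 h
      exact hx (q.injective e ▸ hv)
    have hA' : Avoid G (insert (q x) S) (q x) (· = 1) := by
      have := hA.conj hqG
      rwa [Finset.image_insert, hqS] at this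
    have ineq_xx : ∀ f ∈ lifts G S 1, f x ≠ q x ∧ f (q x) ≠ x := by
      have key : ∀ g ∈ G, (∀ z ∈ S, g z = swap a b z) → g x ≠ x := fun g hg hgS hgx => by
        refine absurd (hodd (swap a b) ⟨fun z hz => supported_swap ha hb z fun h => hz (Finset.mem_insert_of_mem h), g, hg, fun z hz => ?_⟩
          (supported_swap ha hb x hx)) (by rw [Perm.sign_swap hab]; decide)
        rcases Finset.mem_insert.1 hz with rfl | hz
        · rw [hgx, supported_swap ha hb _ hx]
        · exact hgS z hz
      intro f hf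
      obtain ⟨hfG, hfS⟩ := mem_lifts.1 hf
      have hS' : ∀ z ∈ S, swap a b z ∈ S := fun z hz => apply_mem_of_supported (supported_swap ha hb) hz
      constructor <;> intro he
      · refine key (f⁻¹ * q) (G.mul_mem (G.inv_mem hfG) hqG) (fun z hz => ?_) (by simp [← he])
        rw [Perm.mul_apply, hq z hz, Perm.coe_inv, Equiv.symm_apply_eq, hfS _ (hS' z hz), Perm.one_apply]
      · exact key (f * q) (G.mul_mem hfG hqG) (fun z hz => by rw [Perm.mul_apply, hq z hz, hfS _ (hS' z hz), Perm.one_apply]) he
    let T : Finset α := insert x (insert (q x) ((S \ {a, b, c}).image y))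
    have hne : (lifts G S σ).Nonempty := by
      obtain ⟨g, hg, -⟩ := exists_lift_fixing (hσS x hx) (hA σ (hσsup x) (hσS x hx) hσ1)
      exact ⟨g, hg⟩
    have hinj : Set.InjOn y ↑(S \ {a, b, c}) := fun s hs t ht e =>
      ineq_yy s (Finset.mem_sdiff.1 hs).1 t (Finset.mem_sdiff.1 ht).1 1 (one_mem_lifts S) (by simpa using e)
    have hTc : T.card = k - 1 := by
      have e1 : q x ∉ (S \ {a, b, c}).image y := fun h => by
        obtain ⟨s, hs, e⟩ := Finset.mem_image.1 h
        exact (ineq_xy _ hx' hA' s (Finset.mem_sdiff.1 hs).1 1 (one_mem_lifts S)).1 (by simpa using e.symm)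
      have e2 : x ∉ insert (q x) ((S \ {a, b, c}).image y) := fun h => by
        rcases Finset.mem_insert.1 h with e | h
        · exact (ineq_xx 1 (one_mem_lifts S)).1 (by simpa using e)
        · obtain ⟨s, hs, e⟩ := Finset.mem_image.1 h
          exact (ineq_xy x hx hA s (Finset.mem_sdiff.1 hs).1 1 (one_mem_lifts S)).1 (by simpa using e.symm)
      rw [Finset.card_insert_of_notMem e2, Finset.card_insert_of_notMem e1, Finset.card_image_of_injOn hinj,
        Finset.card_sdiff_of_subset habc, Finset.card_eq_three.2 ⟨a, b, c, hab, hac, hbc, rfl⟩, hS]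
      omega
    have hkey := le_of_orbit_bound (c := 3) hreg hS hσS T (fun z hz => by
        simp only [T, Finset.mem_insert, Finset.mem_image] at hz
        rcases hz with e | e | ⟨s, hs, e⟩ <;> subst e
        · exact ⟨hx, exists_lift_fixing (hσS _ hx) (hA σ (hσsup _) (hσS _ hx) hσ1)⟩
        · exact ⟨hx', exists_lift_fixing (hσS _ hx') (hA' σ (hσsup _) (hσS _ hx') hσ1)⟩
        · obtain ⟨h1, h2⟩ := Finset.mem_sdiff.1 hs
          exact ⟨hy s h1, exists_lift_fixing (hσS _ (hy s h1)) (htrans _ hA s h1 σ (hσsup _) (hσfix s h2) hσ1)⟩)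
      (fun u hu v hv f hf he => by
        simp only [T, Finset.mem_insert, Finset.mem_image] at hu hv
        rcases hu with e1 | e1 | ⟨s, hs, e1⟩
        · rw [e1] at he ⊢
          rcases hv with e2 | e2 | ⟨t, ht, e2⟩
          · rw [e2]
          · exact absurd (he.trans e2) (ineq_xx f hf).1
          · exact absurd (he.trans e2.symm) (ineq_xy x hx hA t (Finset.mem_sdiff.1 ht).1 f hf).1
        · rw [e1] at he ⊢
          rcases hv with e2 | e2 | ⟨t, ht, e2⟩
          · exact absurd (he.trans e2) (ineq_xx f hf).2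
          · rw [e2]
          · exact absurd (he.trans e2.symm) (ineq_xy _ hx' hA' t (Finset.mem_sdiff.1 ht).1 f hf).1
        · rw [← e1] at he ⊢
          rcases hv with e2 | e2 | ⟨t, ht, e2⟩
          · exact absurd (he.trans e2) (ineq_xy x hx hA s (Finset.mem_sdiff.1 hs).1 f hf).2
          · exact absurd (he.trans e2) (ineq_xy _ hx' hA' s (Finset.mem_sdiff.1 hs).1 f hf).2
          · exact (congrArg y (ineq_yy s (Finset.mem_sdiff.1 hs).1 t (Finset.mem_sdiff.1 ht).1 f hf (he.trans e2.symm))).trans e2)
      (fun g hg => (extraFix_le hreg hS habc ha (by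
          rw [hσdef, Perm.mul_apply, swap_apply_left, swap_apply_left]; exact hac.symm)
        (fun z _ hz => hσfix z hz) hg).trans Finset.card_le_three) hne
    omega

end Cfsg.Homog
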